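import Cfsg.Agent.Lib.Chevalley.Weyl.Chain
import Cfsg.Prelude.Def_ChevStructure

/-! Generated: the order of the Coxeter group of type E6 from coset tables. -/

set_option autoImplicit false
set_option maxRecDepth 1000000

namespace Cfsg.Agent.Lib.Chevalley.Weyl.E6

open Cfsg.Agent.Lib.Chevalley.Reflect Cfsg.Agent.Lib.Chevalley.Weyl

noncomputable section

/-- The Coxeter matrix. -/
abbrev Mx : CoxeterMatrix (Fin 6) := CoxeterMatrix.E₆

/-- The index in the root table of the points of the orbit. -/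
def rootOf : Tr ℕ := (.node 36 36 (.node 18 18 (.node 9 9 (.node 4 4 (.node 2 2 (.node 1 1 (.node 0 0 .nil .nil) .nil) (.node 3 3 .nil .nil)) (.node 7 7 (.node 6 6 (.node 5 5 .nil .nil) .nil) (.node 8 8 .nil .nil))) (.node 14 14 (.node 12 12 (.node 11 11 (.node 10 10 .nil .nil) .nil) (.node 13 13 .nil .nil)) (.node 16 16 (.node 15 15 .nil .nil) (.node 17 17 .nil .nil)))) (.node 27 27 (.node 23 23 (.node 21 21 (.node 20 20 (.node 19 19 .nil .nil) .nil) (.node 22 22 .nil .nil)) (.node 25 25 (.node 24 24 .nil .nil) (.node 26 26 .nil .nil))) (.node 32 32 (.node 30 30 (.node 29 29 (.node 28 28 .nil .nil) .nil) (.node 31 31 .nil .nil)) (.node 34 34 (.node 33 33 .nil .nil) (.node 35 35 .nil .nil))))) (.node 54 54 (.node 45 45 (.node 41 41 (.node 39 39 (.node 38 38 (.node 37 37 .nil .nil) .nil) (.node 40 40 .nil .nil)) (.node 43 43 (.node 42 42 .nil .nil) (.node 44 44 .nil .nil))) (.node 50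 50 (.node 48 48 (.node 47 47 (.node 46 46 .nil .nil) .nil) (.node 49 49 .nil .nil)) (.node 52 52 (.node 51 51 .nil .nil) (.node 53 53 .nil .nil)))) (.node 63 63 (.node 59 59 (.node 57 57 (.node 56 56 (.node 55 55 .nil .nil) .nil) (.node 58 58 .nil .nil)) (.node 61 61 (.node 60 60 .nil .nil) (.node 62 62 .nil .nil))) (.node 68 68 (.node 66 66 (.node 65 65 (.node 64 64 .nil .nil) .nil) (.node 67 67 .nil .nil)) (.node 70 70 (.node 69 69 .nil .nil) (.node 71 71 .nil .nil))))))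

/-- The permutation table: each simple reflection acting on the orbit of roots. -/
def sgT : Tr (Tr ℕ) := (.node 3 (.node 36 36 (.node 18 20 (.node 9 7 (.node 4 4 (.node 2 1 (.node 1 2 (.node 0 0 .nil .nil) .nil) (.node 3 3 .nil .nil)) (.node 7 9 (.node 6 8 (.node 5 5 .nil .nil) .nil) (.node 8 6 .nil .nil))) (.node 14 13 (.node 12 12 (.node 11 11 (.node 10 10 .nil .nil) .nil) (.node 13 14 .nil .nil)) (.node 16 16 (.node 15 15 .nil .nil) (.node 17 19 .nil .nil)))) (.node 27 27 (.node 23 23 (.node 21 21 (.node 20 18 (.node 19 17 .nil .nil) .nil) (.node 22 22 .nil .nil)) (.node 25 24 (.node 24 25 .nil .nil) (.node 26 26 .nil .nil))) (.node 32 39 (.node 30 33 (.node 29 28 (.node 28 29 .nil .nil) .nil) (.node 31 34 .nil .nil)) (.node 34 31 (.node 33 30 .nil .nil) (.node 35 35 .nil .nil))))) (.node 54 52 (.node 45 45 (.node 41 38 (.node 39 32 (.node 38 41 (.node 37 40 .nil .nil) .nil) (.node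 40 37 .nil .nil)) (.node 43 42 (.node 42 43 .nil .nil) (.node 44 44 .nil .nil))) (.node 50 50 (.node 48 48 (.node 47 46 (.node 46 47 .nil .nil) .nil) (.node 49 49 .nil .nil)) (.node 52 54 (.node 51 53 .nil .nil) (.node 53 51 .nil .nil)))) (.node 63 65 (.node 59 59 (.node 57 58 (.node 56 56 (.node 55 55 .nil .nil) .nil) (.node 58 57 .nil .nil)) (.node 61 61 (.node 60 60 .nil .nil) (.node 62 64 .nil .nil))) (.node 68 68 (.node 66 66 (.node 65 63 (.node 64 62 .nil .nil) .nil) (.node 67 67 .nil .nil)) (.node 70 69 (.node 69 70 .nil .nil) (.node 71 71 .nil .nil)))))) (.node 1 (.node 36 36 (.node 18 18 (.node 9 12 (.node 4 4 (.node 2 2 (.node 1 0 (.node 0 1 .nil .nil) .nil) (.node 3 3 .nil .nil)) (.node 7 7 (.node 6 6 (.node 5 5 .nil .nil) .nil) (.node 8 11 .nil .nil))) (.node 14 14 (.node 12 9 (.node 11 8 (.node 10 13 .nil .nil) .nil) (.node 13 10 .nil .nil)) (.node 16 16 (.node 15 15 .nil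 .nil) (.node 17 17 .nil .nil)))) (.node 27 20 (.node 23 31 (.node 21 28 (.node 20 27 (.node 19 26 .nil .nil) .nil) (.node 22 30 .nil .nil)) (.node 25 46 (.node 24 32 .nil .nil) (.node 26 19 .nil .nil))) (.node 32 24 (.node 30 22 (.node 29 29 (.node 28 21 .nil .nil) .nil) (.node 31 23 .nil .nil)) (.node 34 34 (.node 33 33 .nil .nil) (.node 35 35 .nil .nil))))) (.node 54 54 (.node 45 52 (.node 41 49 (.node 39 47 (.node 38 38 (.node 37 37 .nil .nil) .nil) (.node 40 48 .nil .nil)) (.node 43 50 (.node 42 42 .nil .nil) (.node 44 51 .nil .nil))) (.node 50 43 (.node 48 40 (.node 47 39 (.node 46 25 .nil .nil) .nil) (.node 49 41 .nil .nil)) (.node 52 45 (.node 51 44 .nil .nil) (.node 53 53 .nil .nil)))) (.node 63 60 (.node 59 62 (.node 57 57 (.node 56 56 (.node 55 55 .nil .nil) .nil) (.node 58 61 .nil .nil)) (.node 61 58 (.node 60 63 .nil .nil) (.node 62 59 .nil .nil))) (.node 68 68 (.node 66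 66 (.node 65 65 (.node 64 64 .nil .nil) .nil) (.node 67 67 .nil .nil)) (.node 70 71 (.node 69 69 .nil .nil) (.node 71 70 .nil .nil)))))) (.node 0 (.node 36 36 (.node 18 7 (.node 9 20 (.node 4 4 (.node 2 2 (.node 1 1 (.node 0 0 .nil .nil) .nil) (.node 3 3 .nil .nil)) (.node 7 18 (.node 6 17 (.node 5 16 .nil .nil) .nil) (.node 8 19 .nil .nil))) (.node 14 29 (.node 12 27 (.node 11 26 (.node 10 21 .nil .nil) .nil) (.node 13 28 .nil .nil)) (.node 16 5 (.node 15 56 .nil .nil) (.node 17 6 .nil .nil)))) (.node 27 12 (.node 23 23 (.node 21 10 (.node 20 9 (.node 19 8 .nil .nil) .nil) (.node 22 22 .nil .nil)) (.node 25 25 (.node 24 24 .nil .nil) (.node 26 11 .nil .nil))) (.node 32 32 (.node 30 30 (.node 29 14 (.node 28 13 .nil .nil) .nil) (.node 31 31 .nil .nil)) (.node 34 34 (.node 33 33 .nil .nil) (.node 35 35 .nil .nil))))) (.node 54 65 (.node 45 60 (.node 41 41 (.node 39 39 (.node 38 38 (.node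 37 37 .nil .nil) .nil) (.node 40 40 .nil .nil)) (.node 43 58 (.node 42 57 .nil .nil) (.node 44 59 .nil .nil))) (.node 50 61 (.node 48 48 (.node 47 47 (.node 46 46 .nil .nil) .nil) (.node 49 49 .nil .nil)) (.node 52 63 (.node 51 62 .nil .nil) (.node 53 64 .nil .nil)))) (.node 63 52 (.node 59 44 (.node 57 42 (.node 56 15 (.node 55 66 .nil .nil) .nil) (.node 58 43 .nil .nil)) (.node 61 50 (.node 60 45 .nil .nil) (.node 62 51 .nil .nil))) (.node 68 68 (.node 66 55 (.node 65 54 (.node 64 53 .nil .nil) .nil) (.node 67 67 .nil .nil)) (.node 70 70 (.node 69 69 .nil .nil) (.node 71 71 .nil .nil)))))) .nil .nil) (.node 2 (.node 36 36 (.node 18 18 (.node 9 9 (.node 4 7 (.node 2 5 (.node 1 1 (.node 0 0 .nil .nil) .nil) (.node 3 6 .nil .nil)) (.node 7 4 (.node 6 3 (.node 5 2 .nil .nil) .nil) (.node 8 8 .nil .nil))) (.node 14 15 (.node 12 12 (.node 11 11 (.node 10 10 .nil .nil) .nil) (.node 13 13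 .nil .nil)) (.node 16 16 (.node 15 14 .nil .nil) (.node 17 17 .nil .nil)))) (.node 27 31 (.node 23 20 (.node 21 24 (.node 20 23 (.node 19 22 .nil .nil) .nil) (.node 22 19 .nil .nil)) (.node 25 25 (.node 24 21 .nil .nil) (.node 26 30 .nil .nil))) (.node 32 28 (.node 30 26 (.node 29 42 (.node 28 32 .nil .nil) .nil) (.node 31 27 .nil .nil)) (.node 34 34 (.node 33 33 .nil .nil) (.node 35 35 .nil .nil))))) (.node 54 54 (.node 45 41 (.node 41 45 (.node 39 43 (.node 38 38 (.node 37 37 .nil .nil) .nil) (.node 40 44 .nil .nil)) (.node 43 39 (.node 42 29 .nil .nil) (.node 44 40 .nil .nil))) (.node 50 47 (.node 48 51 (.node 47 50 (.node 46 46 .nil .nil) .nil) (.node 49 52 .nil .nil)) (.node 52 49 (.node 51 48 .nil .nil) (.node 53 53 .nil .nil)))) (.node 63 63 (.node 59 59 (.node 57 56 (.node 56 57 (.node 55 55 .nil .nil) .nil) (.node 58 58 .nil .nil)) (.node 61 61 (.node 60 60 .nil .nil) (.node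 62 62 .nil .nil))) (.node 68 65 (.node 66 69 (.node 65 68 (.node 64 67 .nil .nil) .nil) (.node 67 64 .nil .nil)) (.node 70 70 (.node 69 66 .nil .nil) (.node 71 71 .nil .nil)))))) .nil .nil)) (.node 5 (.node 36 35 (.node 18 17 (.node 9 8 (.node 4 3 (.node 2 2 (.node 1 1 (.node 0 0 .nil .nil) .nil) (.node 3 4 .nil .nil)) (.node 7 6 (.node 6 7 (.node 5 5 .nil .nil) .nil) (.node 8 9 .nil .nil))) (.node 14 14 (.node 12 11 (.node 11 12 (.node 10 10 .nil .nil) .nil) (.node 13 13 .nil .nil)) (.node 16 16 (.node 15 15 .nil .nil) (.node 17 18 .nil .nil)))) (.node 27 26 (.node 23 22 (.node 21 21 (.node 20 19 (.node 19 20 .nil .nil) .nil) (.node 22 23 .nil .nil)) (.node 25 25 (.node 24 24 .nil .nil) (.node 26 27 .nil .nil))) (.node 32 32 (.node 30 31 (.node 29 29 (.node 28 28 .nil .nil) .nil) (.node 31 30 .nil .nil)) (.node 34 33 (.node 33 34 .nil .nil) (.node 35 36 .nil .nil))))) (.node 54 53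 (.node 45 44 (.node 41 40 (.node 39 39 (.node 38 37 (.node 37 38 .nil .nil) .nil) (.node 40 41 .nil .nil)) (.node 43 43 (.node 42 42 .nil .nil) (.node 44 45 .nil .nil))) (.node 50 50 (.node 48 49 (.node 47 47 (.node 46 46 .nil .nil) .nil) (.node 49 48 .nil .nil)) (.node 52 51 (.node 51 52 .nil .nil) (.node 53 54 .nil .nil)))) (.node 63 62 (.node 59 60 (.node 57 57 (.node 56 56 (.node 55 55 .nil .nil) .nil) (.node 58 58 .nil .nil)) (.node 61 61 (.node 60 59 .nil .nil) (.node 62 63 .nil .nil))) (.node 68 67 (.node 66 66 (.node 65 64 (.node 64 65 .nil .nil) .nil) (.node 67 68 .nil .nil)) (.node 70 70 (.node 69 69 .nil .nil) (.node 71 71 .nil .nil)))))) (.node 4 (.node 36 38 (.node 18 18 (.node 9 10 (.node 4 4 (.node 2 3 (.node 1 1 (.node 0 0 .nil .nil) .nil) (.node 3 2 .nil .nil)) (.node 7 7 (.node 6 5 (.node 5 6 .nil .nil) .nil) (.node 8 8 .nil .nil))) (.node 14 14 (.node 12 13 (.node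 11 11 (.node 10 9 .nil .nil) .nil) (.node 13 12 .nil .nil)) (.node 16 17 (.node 15 15 .nil .nil) (.node 17 16 .nil .nil)))) (.node 27 28 (.node 23 24 (.node 21 20 (.node 20 21 (.node 19 19 .nil .nil) .nil) (.node 22 22 .nil .nil)) (.node 25 25 (.node 24 23 .nil .nil) (.node 26 26 .nil .nil))) (.node 32 31 (.node 30 30 (.node 29 29 (.node 28 27 .nil .nil) .nil) (.node 31 32 .nil .nil)) (.node 34 37 (.node 33 35 .nil .nil) (.node 35 33 .nil .nil))))) (.node 54 55 (.node 45 45 (.node 41 41 (.node 39 40 (.node 38 36 (.node 37 34 .nil .nil) .nil) (.node 40 39 .nil .nil)) (.node 43 44 (.node 42 42 .nil .nil) (.node 44 43 .nil .nil))) (.node 50 51 (.node 48 47 (.node 47 48 (.node 46 46 .nil .nil) .nil) (.node 49 49 .nil .nil)) (.node 52 52 (.node 51 50 .nil .nil) (.node 53 53 .nil .nil)))) (.node 63 63 (.node 59 58 (.node 57 57 (.node 56 56 (.node 55 54 .nil .nil) .nil) (.node 58 59 .nil .nil))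 (.node 61 62 (.node 60 60 .nil .nil) (.node 62 61 .nil .nil))) (.node 68 69 (.node 66 65 (.node 65 66 (.node 64 64 .nil .nil) .nil) (.node 67 67 .nil .nil)) (.node 70 70 (.node 69 68 .nil .nil) (.node 71 71 .nil .nil)))))) .nil .nil) .nil))

/-- The Coxeter exponents. -/
def mT : Tr (Tr ℕ) := (.node 3 (.node 3 1 (.node 1 3 (.node 0 2 .nil .nil) (.node 2 3 .nil .nil)) (.node 5 2 (.node 4 3 .nil .nil) .nil)) (.node 1 (.node 3 3 (.node 1 1 (.node 0 2 .nil .nil) (.node 2 2 .nil .nil)) (.node 5 2 (.node 4 2 .nil .nil) .nil)) (.node 0 (.node 3 2 (.node 1 2 (.node 0 1 .nil .nil) (.node 2 3 .nil .nil)) (.node 5 2 (.node 4 2 .nil .nil) .nil)) .nil .nil) (.node 2 (.node 3 3 (.node 1 2 (.node 0 3 .nil .nil) (.node 2 1 .nil .nil)) (.node 5 2 (.node 4 2 .nil .nil) .nil)) .nil .nil)) (.node 5 (.node 3 2 (.node 1 2 (.node 0 2 .nil .nil) (.node 2 2 .nil .nil)) (.node 5 1 (.node 4 3 .nil .nil) .nil))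 (.node 4 (.node 3 3 (.node 1 2 (.node 0 2 .nil .nil) (.node 2 2 .nil .nil)) (.node 5 3 (.node 4 1 .nil .nil) .nil)) .nil .nil) .nil))

def sg (i y : ℕ) : ℕ := Tr.find 0 (Tr.find Tr.nil sgT i) y
def mF (a b : ℕ) : ℕ := Tr.find 1 (Tr.find Tr.nil mT a) b

theorem hP : permOK 6 72 mF sg = true := by decide +kernel
theorem hpos : mposOK 6 mF = true := by decide +kernel
theorem hM : ∀ i j : Fin 6, Mx i j = mF i j := hM_of_check Mx (by decide +kernel)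

def L0 : Lvl where
  K := [5]
  J := []
  x := 3
  mc := 2
  dT := (.node 1 (.node 5 0 .nil .nil) (.node 0 (.node 5 1 .nil .nil) .nil .nil) .nil)
  cT := (.node 1 (.node 5 (2, 7) .nil .nil) (.node 0 (.node 5 (1, 0) .nil .nil) .nil .nil) .nil)
  wT := (.node 1 [5] (.node 0 [] .nil .nil) .nil)

theorem tab0 : tableOK L0 mF = true := by decide +kernel
theorem orb0 : orbitOK L0 sg = true := by decide +kernel
theorem kn0 : lall (fun j => Nat.blt j 6) L0.K = true := by decide +kernel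

def L1 : Lvl where
  K := [4, 5]
  J := [5]
  x := 2
  mc := 3
  dT := (.node 1 (.node 5 2 (.node 4 0 .nil .nil) .nil) (.node 0 (.node 5 0 (.node 4 1 .nil .nil) .nil) .nil .nil) (.node 2 (.node 5 1 (.node 4 2 .nil .nil) .nil) .nil .nil))
  cT := (.node 1 (.node 5 (2, 0) (.node 4 (4, 6) .nil .nil) .nil) (.node 0 (.node 5 (3, 1) (.node 4 (1, 0) .nil .nil) .nil) .nil .nil) (.node 2 (.node 5 (5, 7) (.node 4 (6, 7) .nil .nil) .nil) .nil .nil))
  wT := (.node 1 [4] (.node 0 [] .nil .nil) (.node 2 [4, 5] .nil .nil))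

theorem tab1 : tableOK L1 mF = true := by decide +kernel
theorem orb1 : orbitOK L1 sg = true := by decide +kernel
theorem kn1 : lall (fun j => Nat.blt j 6) L1.K = true := by decide +kernel

def L2 : Lvl where
  K := [0, 2, 4, 5]
  J := [4, 5]
  x := 14
  mc := 6
  dT := (.node 3 (.node 4 3 (.node 2 1 (.node 0 5 .nil .nil) .nil) (.node 5 3 .nil .nil)) (.node 1 (.node 4 1 (.node 2 3 (.node 0 0 .nil .nil) .nil) (.node 5 1 .nil .nil)) (.node 0 (.node 4 0 (.node 2 2 (.node 0 1 .nil .nil) .nil) (.node 5 0 .nil .nil)) .nil .nil) (.node 2 (.node 4 2 (.node 2 0 (.node 0 4 .nil .nil) .nil) (.node 5 2 .nil .nil)) .nil .nil)) (.node 5 (.node 4 5 (.node 2 4 (.node 0 3 .nil .nil) .nil) (.node 5 5 .nil .nil)) (.node 4 (.node 4 4 (.node 2 5 (.node 0 2 .nil .nil) .nil) (.node 5 4 .nil .nil)) .nil .nil) .nil))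
  cT := (.node 3 (.node 4 (15, 4) (.node 2 (14, 4) (.node 0 (5, 0) .nil .nil) .nil) (.node 5 (16, 4) .nil .nil)) (.node 1 (.node 4 (9, 2) (.node 2 (3, 0) (.node 0 (8, 2) .nil .nil) .nil) (.node 5 (10, 2) .nil .nil)) (.node 0 (.node 4 (6, 1) (.node 2 (2, 0) (.node 0 (1, 0) .nil .nil) .nil) (.node 5 (7, 1) .nil .nil)) .nil .nil) (.node 2 (.node 4 (12, 4) (.node 2 (11, 4) (.node 0 (4, 0) .nil .nil) .nil) (.node 5 (13, 4) .nil .nil)) .nil .nil)) (.node 5 (.node 4 (22, 2) (.node 2 (21, 2) (.node 0 (20, 2) .nil .nil) .nil) (.node 5 (23, 2) .nil .nil)) (.node 4 (.node 4 (18, 2) (.node 2 (24, 2) (.node 0 (17, 2) .nil .nil) .nil) (.node 5 (19, 2) .nil .nil)) .nil .nil) .nil))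
  wT := (.node 3 [0, 2] (.node 1 [0] (.node 0 [] .nil .nil) (.node 2 [2] .nil .nil)) (.node 5 [0, 2, 0] (.node 4 [2, 0] .nil .nil) .nil))

theorem tab2 : tableOK L2 mF = true := by decide +kernel
theorem orb2 : orbitOK L2 sg = true := by decide +kernel
theorem kn2 : lall (fun j => Nat.blt j 6) L2.K = true := by decide +kernel

def L3 : Lvl where
  K := [0, 2, 3, 4, 5]
  J := [0, 2, 4, 5]
  x := 1
  mc := 20
  dT := (.node 10 (.node 3 7 (.node 2 13 (.node 0 8 .nil .nil) .nil) (.node 5 14 (.node 4 10 .nil .nil) .nil)) (.node 5 (.node 3 8 (.node 2 3 (.node 0 7 .nil .nil) .nil) (.node 5 9 (.node 4 2 .nil .nil) .nil)) (.node 2 (.node 3 2 (.node 2 1 (.node 0 4 .nil .nil) .nil) (.node 5 2 (.node 4 5 .nil .nil) .nil)) (.node 1 (.node 3 0 (.node 2 2 (.node 0 1 .nil .nil) .nil) (.node 5 1 (.node 4 3 .nil .nil) .nil)) (.node 0 (.node 3 1 (.node 2 0 (.node 0 0 .nil .nil) .nil) (.node 5 0 (.node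 4 0 .nil .nil) .nil)) .nil .nil) .nil) (.node 4 (.node 3 4 (.node 2 4 (.node 0 2 .nil .nil) .nil) (.node 5 4 (.node 4 7 .nil .nil) .nil)) (.node 3 (.node 3 3 (.node 2 5 (.node 0 3 .nil .nil) .nil) (.node 5 6 (.node 4 1 .nil .nil) .nil)) .nil .nil) .nil)) (.node 8 (.node 3 5 (.node 2 8 (.node 0 10 .nil .nil) .nil) (.node 5 12 (.node 4 8 .nil .nil) .nil)) (.node 7 (.node 3 10 (.node 2 7 (.node 0 5 .nil .nil) .nil) (.node 5 11 (.node 4 4 .nil .nil) .nil)) (.node 6 (.node 3 6 (.node 2 9 (.node 0 6 .nil .nil) .nil) (.node 5 3 (.node 4 6 .nil .nil) .nil)) .nil .nil) .nil) (.node 9 (.node 3 12 (.node 2 6 (.node 0 11 .nil .nil) .nil) (.node 5 5 (.node 4 9 .nil .nil) .nil)) .nil .nil))) (.node 15 (.node 3 15 (.node 2 15 (.node 0 17 .nil .nil) .nil) (.node 5 15 (.node 4 12 .nil .nil) .nil)) (.node 13 (.node 3 13 (.node 2 10 (.node 0 13 .nil .nil) .nil) (.node 5 16 (.node 4 13 .nil .nil) .nil))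 (.node 12 (.node 3 9 (.node 2 12 (.node 0 14 .nil .nil) .nil) (.node 5 8 (.node 4 15 .nil .nil) .nil)) (.node 11 (.node 3 14 (.node 2 11 (.node 0 9 .nil .nil) .nil) (.node 5 7 (.node 4 11 .nil .nil) .nil)) .nil .nil) .nil) (.node 14 (.node 3 11 (.node 2 16 (.node 0 12 .nil .nil) .nil) (.node 5 10 (.node 4 17 .nil .nil) .nil)) .nil .nil)) (.node 18 (.node 3 19 (.node 2 17 (.node 0 18 .nil .nil) .nil) (.node 5 18 (.node 4 16 .nil .nil) .nil)) (.node 17 (.node 3 17 (.node 2 18 (.node 0 15 .nil .nil) .nil) (.node 5 17 (.node 4 14 .nil .nil) .nil)) (.node 16 (.node 3 16 (.node 2 14 (.node 0 16 .nil .nil) .nil) (.node 5 13 (.node 4 18 .nil .nil) .nil)) .nil .nil) .nil) (.node 19 (.node 3 18 (.node 2 19 (.node 0 19 .nil .nil) .nil) (.node 5 19 (.node 4 19 .nil .nil) .nil)) .nil .nil))))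
  cT := (.node 10 (.node 3 (41, 5) (.node 2 (13, 0) (.node 0 (77, 2) .nil .nil) .nil) (.node 5 (14, 0) (.node 4 (42, 5) .nil .nil) .nil)) (.node 5 (.node 3 (8, 0) (.node 2 (33, 6) (.node 0 (65, 2) .nil .nil) .nil) (.node 5 (9, 0) (.node 4 (34, 6) .nil .nil) .nil)) (.node 2 (.node 3 (27, 4) (.node 2 (26, 4) (.node 0 (4, 0) .nil .nil) .nil) (.node 5 (28, 4) (.node 4 (5, 0) .nil .nil) .nil)) (.node 1 (.node 3 (24, 5) (.node 2 (2, 0) (.node 0 (60, 5) .nil .nil) .nil) (.node 5 (25, 5) (.node 4 (3, 0) .nil .nil) .nil)) (.node 0 (.node 3 (1, 0) (.node 2 (21, 1) (.node 0 (20, 1) .nil .nil) .nil) (.node 5 (23, 1) (.node 4 (22, 1) .nil .nil) .nil)) .nil .nil) .nil) (.node 4 (.node 3 (31, 2) (.node 2 (64, 2) (.node 0 (30, 2) .nil .nil) .nil) (.node 5 (32, 2) (.node 4 (7, 0) .nil .nil) .nil)) (.node 3 (.node 3 (63, 6) (.node 2 (62, 4) (.node 0 (61, 6) .nil .nil) .nil) (.node 5 (6, 0) (.node 4 (29,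 6) .nil .nil) .nil)) .nil .nil) .nil)) (.node 8 (.node 3 (38, 5) (.node 2 (72, 5) (.node 0 (71, 5) .nil .nil) .nil) (.node 5 (12, 0) (.node 4 (39, 5) .nil .nil) .nil)) (.node 7 (.node 3 (10, 0) (.node 2 (70, 2) (.node 0 (36, 6) .nil .nil) .nil) (.node 5 (11, 0) (.node 4 (37, 6) .nil .nil) .nil)) (.node 6 (.node 3 (68, 7) (.node 2 (67, 7) (.node 0 (66, 7) .nil .nil) .nil) (.node 5 (35, 7) (.node 4 (69, 7) .nil .nil) .nil)) .nil .nil) .nil) (.node 9 (.node 3 (75, 5) (.node 2 (74, 4) (.node 0 (73, 7) .nil .nil) .nil) (.node 5 (40, 7) (.node 4 (76, 4) .nil .nil) .nil)) .nil .nil))) (.node 15 (.node 3 (90, 6) (.node 2 (89, 6) (.node 0 (88, 6) .nil .nil) .nil) (.node 5 (51, 6) (.node 4 (50, 6) .nil .nil) .nil)) (.node 13 (.node 3 (85, 4) (.node 2 (46, 4) (.node 0 (84, 4) .nil .nil) .nil) (.node 5 (16, 0) (.node 4 (47, 4) .nil .nil) .nil)) (.node 12 (.node 3 (44, 7) (.node 2 (83, 5) (.node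 0 (82, 5) .nil .nil) .nil) (.node 5 (45, 7) (.node 4 (15, 0) .nil .nil) .nil)) (.node 11 (.node 3 (80, 5) (.node 2 (79, 2) (.node 0 (78, 2) .nil .nil) .nil) (.node 5 (43, 7) (.node 4 (81, 2) .nil .nil) .nil)) .nil .nil) .nil) (.node 14 (.node 3 (48, 7) (.node 2 (87, 4) (.node 0 (86, 2) .nil .nil) .nil) (.node 5 (49, 7) (.node 4 (17, 0) .nil .nil) .nil)) .nil .nil)) (.node 18 (.node 3 (19, 0) (.node 2 (97, 2) (.node 0 (96, 6) .nil .nil) .nil) (.node 5 (57, 6) (.node 4 (56, 6) .nil .nil) .nil)) (.node 17 (.node 3 (95, 2) (.node 2 (94, 6) (.node 0 (93, 2) .nil .nil) .nil) (.node 5 (55, 6) (.node 4 (54, 6) .nil .nil) .nil)) (.node 16 (.node 3 (92, 4) (.node 2 (52, 7) (.node 0 (91, 4) .nil .nil) .nil) (.node 5 (53, 7) (.node 4 (18, 0) .nil .nil) .nil)) .nil .nil) .nil) (.node 19 (.node 3 (58, 5) (.node 2 (99, 5) (.node 0 (98, 5) .nil .nil) .nil) (.node 5 (59, 5) (.node 4 (100, 5) .nil .nil)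 .nil)) .nil .nil))))
  wT := (.node 10 [3, 2, 0, 4, 3] (.node 5 [3, 2, 4] (.node 2 [3, 2] (.node 1 [3] (.node 0 [] .nil .nil) .nil) (.node 4 [3, 2, 0] (.node 3 [3, 4] .nil .nil) .nil)) (.node 8 [3, 2, 4, 3] (.node 7 [3, 2, 0, 4] (.node 6 [3, 4, 5] .nil .nil) .nil) (.node 9 [3, 2, 4, 5] .nil .nil))) (.node 15 [3, 2, 4, 3, 5, 4] (.node 13 [3, 2, 0, 4, 3, 2] (.node 12 [3, 2, 4, 3, 5] (.node 11 [3, 2, 0, 4, 5] .nil .nil) .nil) (.node 14 [3, 2, 0, 4, 3, 5] .nil .nil)) (.node 18 [3, 2, 0, 4, 3, 2, 5, 4] (.node 17 [3, 2, 0, 4, 3, 5, 4] (.node 16 [3, 2, 0, 4, 3, 2, 5] .nil .nil) .nil) (.node 19 [3, 2, 0, 4, 3, 2, 5, 4, 3] .nil .nil))))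

theorem tab3 : tableOK L3 mF = true := by decide +kernel
theorem orb3 : orbitOK L3 sg = true := by decide +kernel
theorem kn3 : lall (fun j => Nat.blt j 6) L3.K = true := by decide +kernel

def L4 : Lvl where
  K := [0, 1, 2, 3, 4, 5]
  J := [0, 2, 3, 4, 5]
  x := 0
  mc := 72
  dT := (.node 36 (.node 3 36 (.node 1 36 (.node 0 36 .nil .nil) (.node 2 36 .nil .nil)) (.node 5 30 (.node 4 42 .nil .nil) .nil)) (.node 18 (.node 3 18 (.node 1 14 (.node 0 21 .nil .nil) (.node 2 18 .nil .nil)) (.node 5 13 (.node 4 24 .nil .nil) .nil)) (.node 9 (.node 3 6 (.node 1 13 (.node 0 11 .nil .nil) (.node 2 9 .nil .nil)) (.node 5 14 (.node 4 9 .nil .nil) .nil)) (.node 4 (.node 3 4 (.node 1 4 (.node 0 4 .nil .nil) (.node 2 6 .nil .nil)) (.node 5 7 (.node 4 2 .nil .nil) .nil)) (.node 2 (.node 3 1 (.node 1 2 (.node 0 2 .nil .nil) (.node 2 3 .nil .nil)) (.node 5 2 (.node 4 4 .nil .nil) .nil)) (.node 1 (.node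 3 2 (.node 1 0 (.node 0 1 .nil .nil) (.node 2 1 .nil .nil)) (.node 5 1 (.node 4 1 .nil .nil) .nil)) (.node 0 (.node 3 0 (.node 1 1 (.node 0 0 .nil .nil) (.node 2 0 .nil .nil)) (.node 5 0 (.node 4 0 .nil .nil) .nil)) .nil .nil) .nil) (.node 3 (.node 3 3 (.node 1 3 (.node 0 5 .nil .nil) (.node 2 2 .nil .nil)) (.node 5 3 (.node 4 6 .nil .nil) .nil)) .nil .nil)) (.node 7 (.node 3 7 (.node 1 7 (.node 0 7 .nil .nil) (.node 2 10 .nil .nil)) (.node 5 4 (.node 4 7 .nil .nil) .nil)) (.node 6 (.node 3 9 (.node 1 6 (.node 0 8 .nil .nil) (.node 2 4 .nil .nil)) (.node 5 10 (.node 4 3 .nil .nil) .nil)) (.node 5 (.node 3 5 (.node 1 5 (.node 0 3 .nil .nil) (.node 2 5 .nil .nil)) (.node 5 5 (.node 4 8 .nil .nil) .nil)) .nil .nil) .nil) (.node 8 (.node 3 11 (.node 1 8 (.node 0 6 .nil .nil) (.node 2 8 .nil .nil)) (.node 5 12 (.node 4 5 .nil .nil) .nil)) .nil .nil))) (.node 14 (.node 3 10 (.node 1 18 (.node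 0 17 .nil .nil) (.node 2 14 .nil .nil)) (.node 5 9 (.node 4 19 .nil .nil) .nil)) (.node 12 (.node 3 17 (.node 1 12 (.node 0 10 .nil .nil) (.node 2 12 .nil .nil)) (.node 5 8 (.node 4 12 .nil .nil) .nil)) (.node 11 (.node 3 8 (.node 1 15 (.node 0 9 .nil .nil) (.node 2 16 .nil .nil)) (.node 5 17 (.node 4 11 .nil .nil) .nil)) (.node 10 (.node 3 14 (.node 1 10 (.node 0 12 .nil .nil) (.node 2 7 .nil .nil)) (.node 5 6 (.node 4 10 .nil .nil) .nil)) .nil .nil) .nil) (.node 13 (.node 3 13 (.node 1 9 (.node 0 15 .nil .nil) (.node 2 13 .nil .nil)) (.node 5 18 (.node 4 13 .nil .nil) .nil)) .nil .nil)) (.node 16 (.node 3 16 (.node 1 20 (.node 0 16 .nil .nil) (.node 2 11 .nil .nil)) (.node 5 22 (.node 4 16 .nil .nil) .nil)) (.node 15 (.node 3 15 (.node 1 11 (.node 0 13 .nil .nil) (.node 2 20 .nil .nil)) (.node 5 21 (.node 4 15 .nil .nil) .nil)) .nil .nil) (.node 17 (.node 3 12 (.node 1 21 (.node 0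 14 .nil .nil) (.node 2 22 .nil .nil)) (.node 5 11 (.node 4 23 .nil .nil) .nil)) .nil .nil)))) (.node 27 (.node 3 33 (.node 1 23 (.node 0 24 .nil .nil) (.node 2 32 .nil .nil)) (.node 5 27 (.node 4 21 .nil .nil) .nil)) (.node 23 (.node 3 23 (.node 1 27 (.node 0 19 .nil .nil) (.node 2 28 .nil .nil)) (.node 5 23 (.node 4 17 .nil .nil) .nil)) (.node 21 (.node 3 21 (.node 1 17 (.node 0 18 .nil .nil) (.node 2 26 .nil .nil)) (.node 5 15 (.node 4 27 .nil .nil) .nil)) (.node 20 (.node 3 25 (.node 1 16 (.node 0 20 .nil .nil) (.node 2 15 .nil .nil)) (.node 5 26 (.node 4 20 .nil .nil) .nil)) (.node 19 (.node 3 19 (.node 1 24 (.node 0 23 .nil .nil) (.node 2 19 .nil .nil)) (.node 5 19 (.node 4 14 .nil .nil) .nil)) .nil .nil) .nil) (.node 22 (.node 3 22 (.node 1 26 (.node 0 22 .nil .nil) (.node 2 17 .nil .nil)) (.node 5 16 (.node 4 28 .nil .nil) .nil)) .nil .nil)) (.node 25 (.node 3 20 (.node 1 25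 (.node 0 25 .nil .nil) (.node 2 25 .nil .nil)) (.node 5 31 (.node 4 30 .nil .nil) .nil)) (.node 24 (.node 3 29 (.node 1 19 (.node 0 27 .nil .nil) (.node 2 24 .nil .nil)) (.node 5 24 (.node 4 18 .nil .nil) .nil)) .nil .nil) (.node 26 (.node 3 31 (.node 1 22 (.node 0 26 .nil .nil) (.node 2 21 .nil .nil)) (.node 5 20 (.node 4 32 .nil .nil) .nil)) .nil .nil))) (.node 32 (.node 3 38 (.node 1 28 (.node 0 32 .nil .nil) (.node 2 27 .nil .nil)) (.node 5 32 (.node 4 26 .nil .nil) .nil)) (.node 30 (.node 3 30 (.node 1 30 (.node 0 30 .nil .nil) (.node 2 30 .nil .nil)) (.node 5 36 (.node 4 25 .nil .nil) .nil)) (.node 29 (.node 3 24 (.node 1 29 (.node 0 33 .nil .nil) (.node 2 35 .nil .nil)) (.node 5 29 (.node 4 29 .nil .nil) .nil)) (.node 28 (.node 3 34 (.node 1 32 (.node 0 28 .nil .nil) (.node 2 23 .nil .nil)) (.node 5 28 (.node 4 22 .nil .nil) .nil)) .nil .nil) .nil) (.node 31 (.node 3 26 (.node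 1 31 (.node 0 31 .nil .nil) (.node 2 31 .nil .nil)) (.node 5 25 (.node 4 37 .nil .nil) .nil)) .nil .nil)) (.node 34 (.node 3 28 (.node 1 40 (.node 0 34 .nil .nil) (.node 2 34 .nil .nil)) (.node 5 34 (.node 4 34 .nil .nil) .nil)) (.node 33 (.node 3 27 (.node 1 33 (.node 0 29 .nil .nil) (.node 2 39 .nil .nil)) (.node 5 33 (.node 4 33 .nil .nil) .nil)) .nil .nil) (.node 35 (.node 3 35 (.node 1 35 (.node 0 41 .nil .nil) (.node 2 29 .nil .nil)) (.node 5 35 (.node 4 35 .nil .nil) .nil)) .nil .nil))))) (.node 54 (.node 3 60 (.node 1 49 (.node 0 59 .nil .nil) (.node 2 48 .nil .nil)) (.node 5 57 (.node 4 50 .nil .nil) .nil)) (.node 45 (.node 3 39 (.node 1 50 (.node 0 51 .nil .nil) (.node 2 38 .nil .nil)) (.node 5 45 (.node 4 49 .nil .nil) .nil)) (.node 41 (.node 3 41 (.node 1 41 (.node 0 35 .nil .nil) (.node 2 46 .nil .nil)) (.node 5 41 (.node 4 41 .nil .nil) .nil)) (.node 39 (.node 3 45 (.node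 1 39 (.node 0 46 .nil .nil) (.node 2 33 .nil .nil)) (.node 5 39 (.node 4 39 .nil .nil) .nil)) (.node 38 (.node 3 32 (.node 1 44 (.node 0 38 .nil .nil) (.node 2 45 .nil .nil)) (.node 5 38 (.node 4 43 .nil .nil) .nil)) (.node 37 (.node 3 43 (.node 1 37 (.node 0 37 .nil .nil) (.node 2 37 .nil .nil)) (.node 5 42 (.node 4 31 .nil .nil) .nil)) .nil .nil) .nil) (.node 40 (.node 3 44 (.node 1 34 (.node 0 40 .nil .nil) (.node 2 40 .nil .nil)) (.node 5 40 (.node 4 40 .nil .nil) .nil)) .nil .nil)) (.node 43 (.node 3 37 (.node 1 48 (.node 0 43 .nil .nil) (.node 2 49 .nil .nil)) (.node 5 47 (.node 4 38 .nil .nil) .nil)) (.node 42 (.node 3 47 (.node 1 42 (.node 0 42 .nil .nil) (.node 2 42 .nil .nil)) (.node 5 37 (.node 4 36 .nil .nil) .nil)) .nil .nil) (.node 44 (.node 3 40 (.node 1 38 (.node 0 44 .nil .nil) (.node 2 50 .nil .nil)) (.node 5 44 (.node 4 48 .nil .nil) .nil)) .nil .nil))) (.node 50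 (.node 3 50 (.node 1 45 (.node 0 56 .nil .nil) (.node 2 44 .nil .nil)) (.node 5 50 (.node 4 54 .nil .nil) .nil)) (.node 48 (.node 3 48 (.node 1 43 (.node 0 48 .nil .nil) (.node 2 54 .nil .nil)) (.node 5 52 (.node 4 44 .nil .nil) .nil)) (.node 47 (.node 3 42 (.node 1 52 (.node 0 47 .nil .nil) (.node 2 53 .nil .nil)) (.node 5 43 (.node 4 47 .nil .nil) .nil)) (.node 46 (.node 3 51 (.node 1 46 (.node 0 39 .nil .nil) (.node 2 41 .nil .nil)) (.node 5 46 (.node 4 46 .nil .nil) .nil)) .nil .nil) .nil) (.node 49 (.node 3 49 (.node 1 54 (.node 0 55 .nil .nil) (.node 2 43 .nil .nil)) (.node 5 53 (.node 4 45 .nil .nil) .nil)) .nil .nil)) (.node 52 (.node 3 52 (.node 1 47 (.node 0 52 .nil .nil) (.node 2 57 .nil .nil)) (.node 5 48 (.node 4 52 .nil .nil) .nil)) (.node 51 (.node 3 46 (.node 1 56 (.node 0 45 .nil .nil) (.node 2 51 .nil .nil)) (.node 5 51 (.node 4 55 .nil .nil) .nil)) .nil .nil) (.node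 53 (.node 3 53 (.node 1 57 (.node 0 58 .nil .nil) (.node 2 47 .nil .nil)) (.node 5 49 (.node 4 53 .nil .nil) .nil)) .nil .nil)))) (.node 63 (.node 3 59 (.node 1 63 (.node 0 60 .nil .nil) (.node 2 66 .nil .nil)) (.node 5 64 (.node 4 63 .nil .nil) .nil)) (.node 59 (.node 3 63 (.node 1 55 (.node 0 54 .nil .nil) (.node 2 59 .nil .nil)) (.node 5 61 (.node 4 56 .nil .nil) .nil)) (.node 57 (.node 3 62 (.node 1 53 (.node 0 61 .nil .nil) (.node 2 52 .nil .nil)) (.node 5 54 (.node 4 57 .nil .nil) .nil)) (.node 56 (.node 3 56 (.node 1 51 (.node 0 50 .nil .nil) (.node 2 56 .nil .nil)) (.node 5 56 (.node 4 59 .nil .nil) .nil)) (.node 55 (.node 3 55 (.node 1 59 (.node 0 49 .nil .nil) (.node 2 55 .nil .nil)) (.node 5 58 (.node 4 51 .nil .nil) .nil)) .nil .nil) .nil) (.node 58 (.node 3 58 (.node 1 61 (.node 0 53 .nil .nil) (.node 2 58 .nil .nil)) (.node 5 55 (.node 4 58 .nil .nil) .nil)) .nil .nil))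 (.node 61 (.node 3 64 (.node 1 58 (.node 0 57 .nil .nil) (.node 2 61 .nil .nil)) (.node 5 59 (.node 4 61 .nil .nil) .nil)) (.node 60 (.node 3 54 (.node 1 60 (.node 0 63 .nil .nil) (.node 2 60 .nil .nil)) (.node 5 62 (.node 4 60 .nil .nil) .nil)) .nil .nil) (.node 62 (.node 3 57 (.node 1 62 (.node 0 64 .nil .nil) (.node 2 62 .nil .nil)) (.node 5 60 (.node 4 65 .nil .nil) .nil)) .nil .nil))) (.node 68 (.node 3 68 (.node 1 68 (.node 0 65 .nil .nil) (.node 2 69 .nil .nil)) (.node 5 68 (.node 4 64 .nil .nil) .nil)) (.node 66 (.node 3 66 (.node 1 66 (.node 0 66 .nil .nil) (.node 2 63 .nil .nil)) (.node 5 67 (.node 4 66 .nil .nil) .nil)) (.node 65 (.node 3 65 (.node 1 65 (.node 0 68 .nil .nil) (.node 2 65 .nil .nil)) (.node 5 65 (.node 4 62 .nil .nil) .nil)) (.node 64 (.node 3 61 (.node 1 64 (.node 0 62 .nil .nil) (.node 2 67 .nil .nil)) (.node 5 63 (.node 4 68 .nil .nil) .nil)) .nil .nil)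 .nil) (.node 67 (.node 3 67 (.node 1 67 (.node 0 67 .nil .nil) (.node 2 64 .nil .nil)) (.node 5 66 (.node 4 69 .nil .nil) .nil)) .nil .nil)) (.node 70 (.node 3 69 (.node 1 71 (.node 0 70 .nil .nil) (.node 2 70 .nil .nil)) (.node 5 70 (.node 4 70 .nil .nil) .nil)) (.node 69 (.node 3 70 (.node 1 69 (.node 0 69 .nil .nil) (.node 2 68 .nil .nil)) (.node 5 69 (.node 4 67 .nil .nil) .nil)) .nil .nil) (.node 71 (.node 3 71 (.node 1 70 (.node 0 71 .nil .nil) (.node 2 71 .nil .nil)) (.node 5 71 (.node 4 71 .nil .nil) .nil)) .nil .nil))))))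
  cT := (.node 36 (.node 3 (303, 7) (.node 1 (301, 7) (.node 0 (300, 7) .nil .nil) (.node 2 (302, 7) .nil .nil)) (.node 5 (146, 7) (.node 4 (42, 0) .nil .nil) .nil)) (.node 18 (.node 3 (247, 3) (.node 1 (111, 7) (.node 0 (245, 3) .nil .nil) (.node 2 (246, 3) .nil .nil)) (.node 5 (112, 7) (.node 4 (24, 0) .nil .nil) .nil)) (.node 9 (.node 3 (95, 5) (.node 1 (13, 0) (.node 0 (218, 5) .nil .nil) (.node 2 (219, 5) .nil .nil)) (.node 5 (14, 0) (.node 4 (96, 5) .nil .nil) .nil)) (.node 4 (.node 3 (206, 6) (.node 1 (204, 6) (.node 0 (203, 6) .nil .nil) (.node 2 (205, 4) .nil .nil)) (.node 5 (7, 0) (.node 4 (86, 6) .nil .nil) .nil)) (.node 2 (.node 3 (81, 5) (.node 1 (201, 5) (.node 0 (200, 5) .nil .nil) (.node 2 (3, 0) .nil .nil)) (.node 5 (82, 5) (.node 4 (4, 0) .nil .nil) .nil)) (.node 1 (.node 3 (2, 0) (.node 1 (77, 3) (.node 0 (199, 3) .nil .nil) (.node 2 (78, 3) .nil .nil)) (.node 5 (80,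 3) (.node 4 (79, 3) .nil .nil) .nil)) (.node 0 (.node 3 (74, 1) (.node 1 (1, 0) (.node 0 (72, 1) .nil .nil) (.node 2 (73, 1) .nil .nil)) (.node 5 (76, 1) (.node 4 (75, 1) .nil .nil) .nil)) .nil .nil) .nil) (.node 3 (.node 3 (84, 4) (.node 1 (202, 4) (.node 0 (5, 0) .nil .nil) (.node 2 (83, 4) .nil .nil)) (.node 5 (85, 4) (.node 4 (6, 0) .nil .nil) .nil)) .nil .nil)) (.node 7 (.node 3 (214, 7) (.node 1 (212, 7) (.node 0 (211, 7) .nil .nil) (.node 2 (213, 7) .nil .nil)) (.node 5 (92, 7) (.node 4 (215, 7) .nil .nil) .nil)) (.node 6 (.node 3 (9, 0) (.node 1 (210, 4) (.node 0 (209, 2) .nil .nil) (.node 2 (90, 6) .nil .nil)) (.node 5 (10, 0) (.node 4 (91, 6) .nil .nil) .nil)) (.node 5 (.node 3 (88, 2) (.node 1 (207, 2) (.node 0 (87, 2) .nil .nil) (.node 2 (208, 2) .nil .nil)) (.node 5 (89, 2) (.node 4 (8, 0) .nil .nil) .nil)) .nil .nil) .nil) (.node 8 (.node 3 (11, 0) (.node 1 (216, 2) (.node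 0 (93, 6) .nil .nil) (.node 2 (217, 2) .nil .nil)) (.node 5 (12, 0) (.node 4 (94, 6) .nil .nil) .nil)) .nil .nil))) (.node 14 (.node 3 (103, 7) (.node 1 (235, 3) (.node 0 (234, 5) .nil .nil) (.node 2 (236, 5) .nil .nil)) (.node 5 (104, 7) (.node 4 (19, 0) .nil .nil) .nil)) (.node 12 (.node 3 (229, 5) (.node 1 (227, 2) (.node 0 (226, 2) .nil .nil) (.node 2 (228, 2) .nil .nil)) (.node 5 (100, 7) (.node 4 (230, 2) .nil .nil) .nil)) (.node 11 (.node 3 (98, 5) (.node 1 (15, 0) (.node 0 (225, 2) .nil .nil) (.node 2 (16, 0) .nil .nil)) (.node 5 (17, 0) (.node 4 (99, 5) .nil .nil) .nil)) (.node 10 (.node 3 (223, 5) (.node 1 (221, 7) (.node 0 (220, 7) .nil .nil) (.node 2 (222, 3) .nil .nil)) (.node 5 (97, 7) (.node 4 (224, 4) .nil .nil) .nil)) .nil .nil) .nil) (.node 13 (.node 3 (233, 3) (.node 1 (101, 3) (.node 0 (231, 3) .nil .nil) (.node 2 (232, 3) .nil .nil)) (.node 5 (18, 0) (.node 4 (102,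 3) .nil .nil) .nil)) .nil .nil)) (.node 16 (.node 3 (241, 4) (.node 1 (240, 3) (.node 0 (239, 4) .nil .nil) (.node 2 (107, 4) .nil .nil)) (.node 5 (22, 0) (.node 4 (108, 4) .nil .nil) .nil)) (.node 15 (.node 3 (238, 2) (.node 1 (105, 3) (.node 0 (237, 2) .nil .nil) (.node 2 (20, 0) .nil .nil)) (.node 5 (21, 0) (.node 4 (106, 3) .nil .nil) .nil)) .nil .nil) (.node 17 (.node 3 (109, 7) (.node 1 (243, 3) (.node 0 (242, 2) .nil .nil) (.node 2 (244, 4) .nil .nil)) (.node 5 (110, 7) (.node 4 (23, 0) .nil .nil) .nil)) .nil .nil)))) (.node 27 (.node 3 (33, 0) (.node 1 (273, 2) (.node 0 (272, 2) .nil .nil) (.node 2 (274, 6) .nil .nil)) (.node 5 (130, 6) (.node 4 (129, 6) .nil .nil) .nil)) (.node 23 (.node 3 (262, 2) (.node 1 (260, 6) (.node 0 (259, 2) .nil .nil) (.node 2 (261, 6) .nil .nil)) (.node 5 (123, 6) (.node 4 (122, 6) .nil .nil) .nil)) (.node 21 (.node 3 (255, 2) (.node 1 (118, 7) (.node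 0 (253, 2) .nil .nil) (.node 2 (254, 4) .nil .nil)) (.node 5 (119, 7) (.node 4 (27, 0) .nil .nil) .nil)) (.node 20 (.node 3 (25, 0) (.node 1 (115, 4) (.node 0 (252, 3) .nil .nil) (.node 2 (116, 4) .nil .nil)) (.node 5 (26, 0) (.node 4 (117, 4) .nil .nil) .nil)) (.node 19 (.node 3 (251, 6) (.node 1 (249, 6) (.node 0 (248, 6) .nil .nil) (.node 2 (250, 6) .nil .nil)) (.node 5 (114, 6) (.node 4 (113, 6) .nil .nil) .nil)) .nil .nil) .nil) (.node 22 (.node 3 (258, 4) (.node 1 (257, 4) (.node 0 (256, 4) .nil .nil) (.node 2 (120, 7) .nil .nil)) (.node 5 (121, 7) (.node 4 (28, 0) .nil .nil) .nil)) .nil .nil)) (.node 25 (.node 3 (126, 5) (.node 1 (267, 5) (.node 0 (266, 5) .nil .nil) (.node 2 (268, 5) .nil .nil)) (.node 5 (31, 0) (.node 4 (30, 0) .nil .nil) .nil)) (.node 24 (.node 3 (29, 0) (.node 1 (264, 3) (.node 0 (263, 6) .nil .nil) (.node 2 (265, 3) .nil .nil)) (.node 5 (125, 6) (.node 4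 (124, 6) .nil .nil) .nil)) .nil .nil) (.node 26 (.node 3 (271, 5) (.node 1 (270, 2) (.node 0 (269, 4) .nil .nil) (.node 2 (127, 7) .nil .nil)) (.node 5 (128, 7) (.node 4 (32, 0) .nil .nil) .nil)) .nil .nil))) (.node 32 (.node 3 (38, 0) (.node 1 (289, 2) (.node 0 (288, 6) .nil .nil) (.node 2 (290, 2) .nil .nil)) (.node 5 (139, 6) (.node 4 (138, 6) .nil .nil) .nil)) (.node 30 (.node 3 (284, 6) (.node 1 (282, 6) (.node 0 (281, 6) .nil .nil) (.node 2 (283, 6) .nil .nil)) (.node 5 (36, 0) (.node 4 (135, 6) .nil .nil) .nil)) (.node 29 (.node 3 (133, 5) (.node 1 (279, 5) (.node 0 (278, 5) .nil .nil) (.node 2 (35, 0) .nil .nil)) (.node 5 (134, 5) (.node 4 (280, 5) .nil .nil) .nil)) (.node 28 (.node 3 (34, 0) (.node 1 (276, 6) (.node 0 (275, 6) .nil .nil) (.node 2 (277, 2) .nil .nil)) (.node 5 (132, 6) (.node 4 (131, 6) .nil .nil) .nil)) .nil .nil) .nil) (.node 31 (.node 3 (136, 7) (.node 1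 (286, 5) (.node 0 (285, 5) .nil .nil) (.node 2 (287, 5) .nil .nil)) (.node 5 (137, 7) (.node 4 (37, 0) .nil .nil) .nil)) .nil .nil)) (.node 34 (.node 3 (142, 5) (.node 1 (40, 0) (.node 0 (294, 5) .nil .nil) (.node 2 (295, 5) .nil .nil)) (.node 5 (143, 5) (.node 4 (296, 5) .nil .nil) .nil)) (.node 33 (.node 3 (140, 5) (.node 1 (292, 2) (.node 0 (291, 2) .nil .nil) (.node 2 (39, 0) .nil .nil)) (.node 5 (141, 5) (.node 4 (293, 2) .nil .nil) .nil)) .nil .nil) (.node 35 (.node 3 (298, 4) (.node 1 (297, 4) (.node 0 (41, 0) .nil .nil) (.node 2 (144, 4) .nil .nil)) (.node 5 (145, 4) (.node 4 (299, 4) .nil .nil) .nil)) .nil .nil))))) (.node 54 (.node 3 (60, 0) (.node 1 (175, 4) (.node 0 (59, 0) .nil .nil) (.node 2 (176, 4) .nil .nil)) (.node 5 (363, 3) (.node 4 (362, 3) .nil .nil) .nil)) (.node 45 (.node 3 (331, 4) (.node 1 (330, 3) (.node 0 (51, 0) .nil .nil) (.node 2 (161, 4) .nil .nil)) (.node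 5 (162, 4) (.node 4 (332, 4) .nil .nil) .nil)) (.node 41 (.node 3 (319, 2) (.node 1 (317, 2) (.node 0 (154, 2) .nil .nil) (.node 2 (318, 2) .nil .nil)) (.node 5 (155, 2) (.node 4 (320, 2) .nil .nil) .nil)) (.node 39 (.node 3 (311, 4) (.node 1 (310, 4) (.node 0 (46, 0) .nil .nil) (.node 2 (150, 4) .nil .nil)) (.node 5 (151, 4) (.node 4 (312, 4) .nil .nil) .nil)) (.node 38 (.node 3 (148, 5) (.node 1 (44, 0) (.node 0 (308, 5) .nil .nil) (.node 2 (45, 0) .nil .nil)) (.node 5 (149, 5) (.node 4 (309, 5) .nil .nil) .nil)) (.node 37 (.node 3 (43, 0) (.node 1 (305, 6) (.node 0 (304, 6) .nil .nil) (.node 2 (306, 6) .nil .nil)) (.node 5 (307, 6) (.node 4 (147, 6) .nil .nil) .nil)) .nil .nil) .nil) (.node 40 (.node 3 (315, 3) (.node 1 (152, 3) (.node 0 (313, 3) .nil .nil) (.node 2 (314, 3) .nil .nil)) (.node 5 (153, 3) (.node 4 (316, 3) .nil .nil) .nil)) .nil .nil)) (.node 43 (.node 3 (158, 5)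 (.node 1 (48, 0) (.node 0 (324, 5) .nil .nil) (.node 2 (49, 0) .nil .nil)) (.node 5 (326, 5) (.node 4 (325, 2) .nil .nil) .nil)) (.node 42 (.node 3 (47, 0) (.node 1 (322, 6) (.node 0 (321, 6) .nil .nil) (.node 2 (323, 6) .nil .nil)) (.node 5 (157, 6) (.node 4 (156, 6) .nil .nil) .nil)) .nil .nil) (.node 44 (.node 3 (328, 2) (.node 1 (159, 3) (.node 0 (327, 3) .nil .nil) (.node 2 (50, 0) .nil .nil)) (.node 5 (160, 3) (.node 4 (329, 3) .nil .nil) .nil)) .nil .nil))) (.node 50 (.node 3 (348, 3) (.node 1 (168, 4) (.node 0 (56, 0) .nil .nil) (.node 2 (169, 4) .nil .nil)) (.node 5 (170, 4) (.node 4 (349, 3) .nil .nil) .nil)) (.node 48 (.node 3 (341, 3) (.node 1 (166, 3) (.node 0 (340, 3) .nil .nil) (.node 2 (54, 0) .nil .nil)) (.node 5 (343, 3) (.node 4 (342, 2) .nil .nil) .nil)) (.node 47 (.node 3 (165, 5) (.node 1 (52, 0) (.node 0 (337, 5) .nil .nil) (.node 2 (53, 0) .nil .nil)) (.node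 5 (339, 2) (.node 4 (338, 5) .nil .nil) .nil)) (.node 46 (.node 3 (335, 2) (.node 1 (333, 2) (.node 0 (163, 2) .nil .nil) (.node 2 (334, 2) .nil .nil)) (.node 5 (164, 2) (.node 4 (336, 2) .nil .nil) .nil)) .nil .nil) .nil) (.node 49 (.node 3 (345, 4) (.node 1 (344, 3) (.node 0 (55, 0) .nil .nil) (.node 2 (167, 4) .nil .nil)) (.node 5 (347, 4) (.node 4 (346, 4) .nil .nil) .nil)) .nil .nil)) (.node 52 (.node 3 (355, 3) (.node 1 (173, 3) (.node 0 (354, 3) .nil .nil) (.node 2 (57, 0) .nil .nil)) (.node 5 (357, 2) (.node 4 (356, 3) .nil .nil) .nil)) (.node 51 (.node 3 (352, 2) (.node 1 (350, 2) (.node 0 (171, 2) .nil .nil) (.node 2 (351, 2) .nil .nil)) (.node 5 (172, 2) (.node 4 (353, 2) .nil .nil) .nil)) .nil .nil) (.node 53 (.node 3 (359, 4) (.node 1 (358, 3) (.node 0 (58, 0) .nil .nil) (.node 2 (174, 4) .nil .nil)) (.node 5 (361, 4) (.node 4 (360, 4) .nil .nil) .nil)) .nil .nil)))) (.node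 63 (.node 3 (188, 5) (.node 1 (397, 2) (.node 0 (187, 5) .nil .nil) (.node 2 (66, 0) .nil .nil)) (.node 5 (399, 2) (.node 4 (398, 2) .nil .nil) .nil)) (.node 59 (.node 3 (63, 0) (.node 1 (380, 2) (.node 0 (183, 2) .nil .nil) (.node 2 (381, 2) .nil .nil)) (.node 5 (383, 2) (.node 4 (382, 2) .nil .nil) .nil)) (.node 57 (.node 3 (62, 0) (.node 1 (180, 4) (.node 0 (61, 0) .nil .nil) (.node 2 (181, 4) .nil .nil)) (.node 5 (374, 3) (.node 4 (373, 3) .nil .nil) .nil)) (.node 56 (.node 3 (371, 2) (.node 1 (369, 2) (.node 0 (178, 2) .nil .nil) (.node 2 (370, 2) .nil .nil)) (.node 5 (179, 2) (.node 4 (372, 2) .nil .nil) .nil)) (.node 55 (.node 3 (366, 2) (.node 1 (364, 2) (.node 0 (177, 2) .nil .nil) (.node 2 (365, 2) .nil .nil)) (.node 5 (368, 2) (.node 4 (367, 2) .nil .nil) .nil)) .nil .nil) .nil) (.node 58 (.node 3 (377, 2) (.node 1 (375, 2) (.node 0 (182, 2) .nil .nil) (.node 2 (376, 2) .nil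 .nil)) (.node 5 (379, 2) (.node 4 (378, 2) .nil .nil) .nil)) .nil .nil)) (.node 61 (.node 3 (64, 0) (.node 1 (389, 2) (.node 0 (185, 2) .nil .nil) (.node 2 (390, 2) .nil .nil)) (.node 5 (392, 2) (.node 4 (391, 2) .nil .nil) .nil)) (.node 60 (.node 3 (184, 5) (.node 1 (385, 5) (.node 0 (384, 2) .nil .nil) (.node 2 (386, 5) .nil .nil)) (.node 5 (388, 5) (.node 4 (387, 5) .nil .nil) .nil)) .nil .nil) (.node 62 (.node 3 (186, 5) (.node 1 (394, 5) (.node 0 (393, 2) .nil .nil) (.node 2 (395, 5) .nil .nil)) (.node 5 (396, 3) (.node 4 (65, 0) .nil .nil) .nil)) .nil .nil))) (.node 68 (.node 3 (419, 2) (.node 1 (417, 2) (.node 0 (416, 2) .nil .nil) (.node 2 (418, 4) .nil .nil)) (.node 5 (420, 2) (.node 4 (194, 6) .nil .nil) .nil)) (.node 66 (.node 3 (409, 4) (.node 1 (408, 4) (.node 0 (407, 4) .nil .nil) (.node 2 (192, 4) .nil .nil)) (.node 5 (411, 4) (.node 4 (410, 4) .nil .nil) .nil)) (.node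 65 (.node 3 (405, 6) (.node 1 (403, 6) (.node 0 (402, 6) .nil .nil) (.node 2 (404, 6) .nil .nil)) (.node 5 (406, 6) (.node 4 (191, 6) .nil .nil) .nil)) (.node 64 (.node 3 (190, 5) (.node 1 (400, 2) (.node 0 (189, 5) .nil .nil) (.node 2 (67, 0) .nil .nil)) (.node 5 (401, 2) (.node 4 (68, 0) .nil .nil) .nil)) .nil .nil) .nil) (.node 67 (.node 3 (414, 4) (.node 1 (413, 4) (.node 0 (412, 4) .nil .nil) (.node 2 (193, 4) .nil .nil)) (.node 5 (415, 2) (.node 4 (69, 0) .nil .nil) .nil)) .nil .nil)) (.node 70 (.node 3 (197, 5) (.node 1 (71, 0) (.node 0 (424, 5) .nil .nil) (.node 2 (425, 5) .nil .nil)) (.node 5 (427, 5) (.node 4 (426, 5) .nil .nil) .nil)) (.node 69 (.node 3 (70, 0) (.node 1 (422, 4) (.node 0 (421, 4) .nil .nil) (.node 2 (195, 6) .nil .nil)) (.node 5 (423, 4) (.node 4 (196, 6) .nil .nil) .nil)) .nil .nil) (.node 71 (.node 3 (430, 3) (.node 1 (198, 3) (.node 0 (428, 3) .nil .nil)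 (.node 2 (429, 3) .nil .nil)) (.node 5 (432, 3) (.node 4 (431, 3) .nil .nil) .nil)) .nil .nil))))))
  wT := (.node 36 [1, 3, 2, 0, 4, 3, 1, 2, 3, 4, 5] (.node 18 [1, 3, 2, 4, 3, 1, 5] (.node 9 [1, 3, 2, 4, 3] (.node 4 [1, 3, 4] (.node 2 [1, 3] (.node 1 [1] (.node 0 [] .nil .nil) .nil) (.node 3 [1, 3, 2] .nil .nil)) (.node 7 [1, 3, 4, 5] (.node 6 [1, 3, 2, 4] (.node 5 [1, 3, 2, 0] .nil .nil) .nil) (.node 8 [1, 3, 2, 0, 4] .nil .nil))) (.node 14 [1, 3, 2, 4, 3, 5] (.node 12 [1, 3, 2, 0, 4, 5] (.node 11 [1, 3, 2, 0, 4, 3] (.node 10 [1, 3, 2, 4, 5] .nil .nil) .nil) (.node 13 [1, 3, 2, 4, 3, 1] .nil .nil)) (.node 16 [1, 3, 2, 0, 4, 3, 2] (.node 15 [1, 3, 2, 0, 4, 3, 1] .nil .nil) (.node 17 [1, 3, 2, 0, 4, 3, 5] .nil .nil)))) (.node 27 [1, 3, 2, 0, 4, 3, 1, 5, 4] (.node 23 [1, 3, 2, 0, 4, 3, 5, 4] (.node 21 [1, 3, 2, 0, 4, 3, 1, 5] (.node 20 [1, 3, 2, 0, 4, 3, 1, 2] (.node 19 [1, 3, 2, 4,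 3, 5, 4] .nil .nil) .nil) (.node 22 [1, 3, 2, 0, 4, 3, 2, 5] .nil .nil)) (.node 25 [1, 3, 2, 0, 4, 3, 1, 2, 3] (.node 24 [1, 3, 2, 4, 3, 1, 5, 4] .nil .nil) (.node 26 [1, 3, 2, 0, 4, 3, 1, 2, 5] .nil .nil))) (.node 32 [1, 3, 2, 0, 4, 3, 1, 2, 5, 4] (.node 30 [1, 3, 2, 0, 4, 3, 1, 2, 3, 4] (.node 29 [1, 3, 2, 4, 3, 1, 5, 4, 3] (.node 28 [1, 3, 2, 0, 4, 3, 2, 5, 4] .nil .nil) .nil) (.node 31 [1, 3, 2, 0, 4, 3, 1, 2, 3, 5] .nil .nil)) (.node 34 [1, 3, 2, 0, 4, 3, 2, 5, 4, 3] (.node 33 [1, 3, 2, 0, 4, 3, 1, 5, 4, 3] .nil .nil) (.node 35 [1, 3, 2, 4, 3, 1, 5, 4, 3, 2] .nil .nil))))) (.node 54 [1, 3, 2, 0, 4, 3, 1, 2, 3, 5, 4, 3, 1, 2] (.node 45 [1, 3, 2, 0, 4, 3, 1, 2, 5, 4, 3, 2] (.node 41 [1, 3, 2, 4, 3, 1, 5, 4, 3, 2, 0] (.node 39 [1, 3, 2, 0, 4, 3, 1, 5, 4, 3, 2] (.node 38 [1, 3, 2, 0, 4, 3, 1, 2, 5, 4, 3] (.node 37 [1, 3, 2, 0, 4, 3, 1, 2, 3, 5, 4] .nil .nil) .nil) (.node 40 [1, 3,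 2, 0, 4, 3, 2, 5, 4, 3, 1] .nil .nil)) (.node 43 [1, 3, 2, 0, 4, 3, 1, 2, 3, 5, 4, 3] (.node 42 [1, 3, 2, 0, 4, 3, 1, 2, 3, 4, 5, 4] .nil .nil) (.node 44 [1, 3, 2, 0, 4, 3, 1, 2, 5, 4, 3, 1] .nil .nil))) (.node 50 [1, 3, 2, 0, 4, 3, 1, 2, 5, 4, 3, 1, 2] (.node 48 [1, 3, 2, 0, 4, 3, 1, 2, 3, 5, 4, 3, 1] (.node 47 [1, 3, 2, 0, 4, 3, 1, 2, 3, 4, 5, 4, 3] (.node 46 [1, 3, 2, 0, 4, 3, 1, 5, 4, 3, 2, 0] .nil .nil) .nil) (.node 49 [1, 3, 2, 0, 4, 3, 1, 2, 3, 5, 4, 3, 2] .nil .nil)) (.node 52 [1, 3, 2, 0, 4, 3, 1, 2, 3, 4, 5, 4, 3, 1] (.node 51 [1, 3, 2, 0, 4, 3, 1, 2, 5, 4, 3, 2, 0] .nil .nil) (.node 53 [1, 3, 2, 0, 4, 3, 1, 2, 3, 4, 5, 4, 3, 2] .nil .nil)))) (.node 63 [1, 3, 2, 0, 4, 3, 1, 2, 3, 5, 4, 3, 1, 2, 0, 3] (.node 59 [1, 3, 2, 0, 4, 3, 1, 2, 3, 5, 4, 3, 1, 2, 0] (.node 57 [1, 3, 2, 0, 4, 3, 1, 2, 3, 4, 5, 4, 3, 1, 2] (.node 56 [1, 3, 2, 0, 4, 3, 1, 2, 5, 4, 3, 1, 2, 0] (.node 55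 [1, 3, 2, 0, 4, 3, 1, 2, 3, 5, 4, 3, 2, 0] .nil .nil) .nil) (.node 58 [1, 3, 2, 0, 4, 3, 1, 2, 3, 4, 5, 4, 3, 2, 0] .nil .nil)) (.node 61 [1, 3, 2, 0, 4, 3, 1, 2, 3, 4, 5, 4, 3, 1, 2, 0] (.node 60 [1, 3, 2, 0, 4, 3, 1, 2, 3, 5, 4, 3, 1, 2, 3] .nil .nil) (.node 62 [1, 3, 2, 0, 4, 3, 1, 2, 3, 4, 5, 4, 3, 1, 2, 3] .nil .nil))) (.node 68 [1, 3, 2, 0, 4, 3, 1, 2, 3, 4, 5, 4, 3, 1, 2, 0, 3, 4] (.node 66 [1, 3, 2, 0, 4, 3, 1, 2, 3, 5, 4, 3, 1, 2, 0, 3, 2] (.node 65 [1, 3, 2, 0, 4, 3, 1, 2, 3, 4, 5, 4, 3, 1, 2, 3, 4] (.node 64 [1, 3, 2, 0, 4, 3, 1, 2, 3, 4, 5, 4, 3, 1, 2, 0, 3] .nil .nil) .nil) (.node 67 [1, 3, 2, 0, 4, 3, 1, 2, 3, 4, 5, 4, 3, 1, 2, 0, 3, 2] .nil .nil)) (.node 70 [1, 3, 2, 0, 4, 3, 1, 2, 3, 4, 5, 4, 3, 1, 2, 0, 3, 2, 4, 3] (.node 69 [1, 3, 2, 0, 4, 3, 1, 2, 3, 4, 5, 4, 3, 1, 2, 0, 3, 2, 4] .nil .nil) (.node 71 [1, 3, 2, 0, 4, 3, 1, 2, 3, 4, 5, 4, 3, 1, 2, 0, 3, 2, 4, 3, 1]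 .nil .nil))))))

theorem tab4 : tableOK L4 mF = true := by decide +kernel
theorem orb4 : orbitOK L4 sg = true := by decide +kernel
theorem kn4 : lall (fun j => Nat.blt j 6) L4.K = true := by decide +kernel

/-- The representation on the orbit. -/
abbrev rho : Mx.Group →* Equiv.Perm (Fin 72) := rhoOf Mx hP hM

def P0 : ℕ := 1

theorem good0 : Good (sC Mx) rho [5] (1 * L0.mc) := by
  have h := goodC_step Mx hP hM (L := L0) (P := 1) (good_nil (s := sC Mx) (ρ := rho)) hpos kn0 tab0 orb0 (by decide +kernel)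
  rwa [Nat.mul_comm] at h

def P1 : ℕ := P0 * L0.mc

theorem good1 : Good (sC Mx) rho [4, 5] (P1 * L1.mc) := by
  have h := goodC_step Mx hP hM (L := L1) (P := P1) good0 hpos kn1 tab1 orb1 (by decide +kernel)
  rwa [Nat.mul_comm] at h

def P2 : ℕ := P1 * L1.mc

theorem good2 : Good (sC Mx) rho [0, 2, 4, 5] (P2 * L2.mc) := by
  have h := goodC_step Mx hP hM (L := L2) (P := P2) good1 hpos kn2 tab2 orb2 (by decide +kernel)
  rwa [Nat.mul_comm] at h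

def P3 : ℕ := P2 * L2.mc

theorem good3 : Good (sC Mx) rho [0, 2, 3, 4, 5] (P3 * L3.mc) := by
  have h := goodC_step Mx hP hM (L := L3) (P := P3) good2 hpos kn3 tab3 orb3 (by decide +kernel)
  rwa [Nat.mul_comm] at h

def P4 : ℕ := P3 * L3.mc

theorem good4 : Good (sC Mx) rho [0, 1, 2, 3, 4, 5] (P4 * L4.mc) := by
  have h := goodC_step Mx hP hM (L := L4) (P := P4) good3 hpos kn4 tab4 orb4 (by decide +kernel)
  rwa [Nat.mul_comm] at h

theorem main : Finite Mx.Group ∧ Nat.card Mx.Group = 51840 ∧ Function.Injective rho := by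
  have h := (show Good (sC Mx) rho (List.range 6) (P4 * L4.mc) from good4).final (cl_range Mx)
  have hc : P4 * L4.mc = 51840 := by decide +kernel
  rwa [hc] at h

end

end Cfsg.Agent.Lib.Chevalley.Weyl.E6
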