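import Cfsg.Agent.Lib.Chevalley.Weyl.Chain
import Cfsg.Prelude.Def_ChevStructure

/-! Generated: the order of the Coxeter group of type E7 from coset tables. -/

set_option autoImplicit false
set_option maxRecDepth 1000000

namespace Cfsg.Agent.Lib.Chevalley.Weyl.E7

open Cfsg.Agent.Lib.Chevalley.Reflect Cfsg.Agent.Lib.Chevalley.Weyl

noncomputable section

/-- The Coxeter matrix. -/
abbrev Mx : CoxeterMatrix (Fin 7) := CoxeterMatrix.E₇

/-- The index in the root table of the points of the orbit. -/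
def rootOf : Tr ℕ := (.node 63 63 (.node 31 31 (.node 15 15 (.node 7 7 (.node 3 3 (.node 1 1 (.node 0 0 .nil .nil) (.node 2 2 .nil .nil)) (.node 5 5 (.node 4 4 .nil .nil) (.node 6 6 .nil .nil))) (.node 11 11 (.node 9 9 (.node 8 8 .nil .nil) (.node 10 10 .nil .nil)) (.node 13 13 (.node 12 12 .nil .nil) (.node 14 14 .nil .nil)))) (.node 23 23 (.node 19 19 (.node 17 17 (.node 16 16 .nil .nil) (.node 18 18 .nil .nil)) (.node 21 21 (.node 20 20 .nil .nil) (.node 22 22 .nil .nil))) (.node 27 27 (.node 25 25 (.node 24 24 .nil .nil) (.node 26 26 .nil .nil)) (.node 29 29 (.node 28 28 .nil .nil) (.node 30 30 .nil .nil))))) (.node 47 47 (.node 39 39 (.node 35 35 (.node 33 33 (.node 32 32 .nil .nil) (.node 34 34 .nil .nil)) (.node 37 37 (.node 36 36 .nil .nil) (.node 38 38 .nil .nil))) (.node 43 43 (.node 41 41 (.node 40 40 .nil .nil) (.node 42 42 .nil .nil)) (.node 45 45 (.node 44 44 .nil .nil)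 (.node 46 46 .nil .nil)))) (.node 55 55 (.node 51 51 (.node 49 49 (.node 48 48 .nil .nil) (.node 50 50 .nil .nil)) (.node 53 53 (.node 52 52 .nil .nil) (.node 54 54 .nil .nil))) (.node 59 59 (.node 57 57 (.node 56 56 .nil .nil) (.node 58 58 .nil .nil)) (.node 61 61 (.node 60 60 .nil .nil) (.node 62 62 .nil .nil)))))) (.node 95 95 (.node 79 79 (.node 71 71 (.node 67 67 (.node 65 65 (.node 64 64 .nil .nil) (.node 66 66 .nil .nil)) (.node 69 69 (.node 68 68 .nil .nil) (.node 70 70 .nil .nil))) (.node 75 75 (.node 73 73 (.node 72 72 .nil .nil) (.node 74 74 .nil .nil)) (.node 77 77 (.node 76 76 .nil .nil) (.node 78 78 .nil .nil)))) (.node 87 87 (.node 83 83 (.node 81 81 (.node 80 80 .nil .nil) (.node 82 82 .nil .nil)) (.node 85 85 (.node 84 84 .nil .nil) (.node 86 86 .nil .nil))) (.node 91 91 (.node 89 89 (.node 88 88 .nil .nil) (.node 90 90 .nil .nil)) (.node 93 93 (.node 92 92 .nil .nil)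 (.node 94 94 .nil .nil))))) (.node 111 111 (.node 103 103 (.node 99 99 (.node 97 97 (.node 96 96 .nil .nil) (.node 98 98 .nil .nil)) (.node 101 101 (.node 100 100 .nil .nil) (.node 102 102 .nil .nil))) (.node 107 107 (.node 105 105 (.node 104 104 .nil .nil) (.node 106 106 .nil .nil)) (.node 109 109 (.node 108 108 .nil .nil) (.node 110 110 .nil .nil)))) (.node 119 119 (.node 115 115 (.node 113 113 (.node 112 112 .nil .nil) (.node 114 114 .nil .nil)) (.node 117 117 (.node 116 116 .nil .nil) (.node 118 118 .nil .nil))) (.node 123 123 (.node 121 121 (.node 120 120 .nil .nil) (.node 122 122 .nil .nil)) (.node 125 125 (.node 124 124 .nil .nil) .nil))))))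

/-- The permutation table: each simple reflection acting on the orbit of roots. -/
def sgT : Tr (Tr ℕ) := (.node 3 (.node 63 63 (.node 31 30 (.node 15 15 (.node 7 7 (.node 3 2 (.node 1 1 (.node 0 0 .nil .nil) (.node 2 3 .nil .nil)) (.node 5 5 (.node 4 4 .nil .nil) (.node 6 6 .nil .nil))) (.node 11 8 (.node 9 12 (.node 8 11 .nil .nil) (.node 10 13 .nil .nil)) (.node 13 10 (.node 12 9 .nil .nil) (.node 14 14 .nil .nil)))) (.node 23 20 (.node 19 19 (.node 17 17 (.node 16 16 .nil .nil) (.node 18 18 .nil .nil)) (.node 21 24 (.node 20 23 .nil .nil) (.node 22 25 .nil .nil))) (.node 27 27 (.node 25 22 (.node 24 21 .nil .nil) (.node 26 26 .nil .nil)) (.node 29 29 (.node 28 28 .nil .nil) (.node 30 31 .nil .nil))))) (.node 47 46 (.node 39 36 (.node 35 35 (.node 33 33 (.node 32 32 .nil .nil) (.node 34 34 .nil .nil)) (.node 37 40 (.node 36 39 .nil .nil) (.node 38 41 .nil .nil))) (.node 43 43 (.node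 41 38 (.node 40 37 .nil .nil) (.node 42 42 .nil .nil)) (.node 45 45 (.node 44 44 .nil .nil) (.node 46 47 .nil .nil)))) (.node 55 59 (.node 51 52 (.node 49 49 (.node 48 48 .nil .nil) (.node 50 50 .nil .nil)) (.node 53 57 (.node 52 51 .nil .nil) (.node 54 58 .nil .nil))) (.node 59 55 (.node 57 53 (.node 56 69 .nil .nil) (.node 58 54 .nil .nil)) (.node 61 61 (.node 60 60 .nil .nil) (.node 62 62 .nil .nil)))))) (.node 95 94 (.node 79 78 (.node 71 67 (.node 67 71 (.node 65 65 (.node 64 64 .nil .nil) (.node 66 70 .nil .nil)) (.node 69 56 (.node 68 72 .nil .nil) (.node 70 66 .nil .nil))) (.node 75 75 (.node 73 74 (.node 72 68 .nil .nil) (.node 74 73 .nil .nil)) (.node 77 77 (.node 76 76 .nil .nil) (.node 78 79 .nil .nil)))) (.node 87 84 (.node 83 83 (.node 81 81 (.node 80 80 .nil .nil) (.node 82 82 .nil .nil)) (.node 85 88 (.node 84 87 .nil .nil) (.node 86 89 .nil .nil))) (.node 91 91 (.node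 89 86 (.node 88 85 .nil .nil) (.node 90 90 .nil .nil)) (.node 93 93 (.node 92 92 .nil .nil) (.node 94 95 .nil .nil))))) (.node 111 111 (.node 103 100 (.node 99 99 (.node 97 97 (.node 96 96 .nil .nil) (.node 98 98 .nil .nil)) (.node 101 104 (.node 100 103 .nil .nil) (.node 102 105 .nil .nil))) (.node 107 107 (.node 105 102 (.node 104 101 .nil .nil) (.node 106 106 .nil .nil)) (.node 109 109 (.node 108 108 .nil .nil) (.node 110 110 .nil .nil)))) (.node 119 119 (.node 115 112 (.node 113 116 (.node 112 115 .nil .nil) (.node 114 117 .nil .nil)) (.node 117 114 (.node 116 113 .nil .nil) (.node 118 118 .nil .nil))) (.node 123 122 (.node 121 121 (.node 120 120 .nil .nil) (.node 122 123 .nil .nil)) (.node 125 125 (.node 124 124 .nil .nil) .nil)))))) (.node 1 (.node 63 63 (.node 31 31 (.node 15 15 (.node 7 3 (.node 3 7 (.node 1 1 (.node 0 0 .nil .nil) (.node 2 2 .nil .nil)) (.node 5 9 (.node 4 8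 .nil .nil) (.node 6 10 .nil .nil))) (.node 11 11 (.node 9 5 (.node 8 4 .nil .nil) (.node 10 6 .nil .nil)) (.node 13 13 (.node 12 12 .nil .nil) (.node 14 14 .nil .nil)))) (.node 23 27 (.node 19 19 (.node 17 17 (.node 16 16 .nil .nil) (.node 18 18 .nil .nil)) (.node 21 21 (.node 20 20 .nil .nil) (.node 22 22 .nil .nil))) (.node 27 23 (.node 25 29 (.node 24 28 .nil .nil) (.node 26 30 .nil .nil)) (.node 29 25 (.node 28 24 .nil .nil) (.node 30 26 .nil .nil))))) (.node 47 78 (.node 39 48 (.node 35 35 (.node 33 33 (.node 32 32 .nil .nil) (.node 34 34 .nil .nil)) (.node 37 37 (.node 36 36 .nil .nil) (.node 38 38 .nil .nil))) (.node 43 53 (.node 41 50 (.node 40 49 .nil .nil) (.node 42 51 .nil .nil)) (.node 45 55 (.node 44 54 .nil .nil) (.node 46 56 .nil .nil)))) (.node 55 45 (.node 51 42 (.node 49 40 (.node 48 39 .nil .nil) (.node 50 41 .nil .nil)) (.node 53 43 (.node 52 52 .nil .nil) (.node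 54 44 .nil .nil))) (.node 59 59 (.node 57 57 (.node 56 46 .nil .nil) (.node 58 58 .nil .nil)) (.node 61 61 (.node 60 60 .nil .nil) (.node 62 62 .nil .nil)))))) (.node 95 99 (.node 79 69 (.node 71 81 (.node 67 67 (.node 65 65 (.node 64 64 .nil .nil) (.node 66 66 .nil .nil)) (.node 69 79 (.node 68 68 .nil .nil) (.node 70 80 .nil .nil))) (.node 75 84 (.node 73 73 (.node 72 82 .nil .nil) (.node 74 83 .nil .nil)) (.node 77 86 (.node 76 85 .nil .nil) (.node 78 47 .nil .nil)))) (.node 87 87 (.node 83 74 (.node 81 71 (.node 80 70 .nil .nil) (.node 82 72 .nil .nil)) (.node 85 76 (.node 84 75 .nil .nil) (.node 86 77 .nil .nil))) (.node 91 91 (.node 89 89 (.node 88 88 .nil .nil) (.node 90 90 .nil .nil)) (.node 93 93 (.node 92 92 .nil .nil) (.node 94 94 .nil .nil))))) (.node 111 111 (.node 103 103 (.node 99 95 (.node 97 101 (.node 96 100 .nil .nil) (.node 98 102 .nil .nil)) (.node 101 97 (.node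 100 96 .nil .nil) (.node 102 98 .nil .nil))) (.node 107 107 (.node 105 105 (.node 104 104 .nil .nil) (.node 106 106 .nil .nil)) (.node 109 109 (.node 108 108 .nil .nil) (.node 110 110 .nil .nil)))) (.node 119 115 (.node 115 119 (.node 113 113 (.node 112 112 .nil .nil) (.node 114 114 .nil .nil)) (.node 117 121 (.node 116 120 .nil .nil) (.node 118 122 .nil .nil))) (.node 123 123 (.node 121 117 (.node 120 116 .nil .nil) (.node 122 118 .nil .nil)) (.node 125 125 (.node 124 124 .nil .nil) .nil)))))) (.node 0 (.node 63 63 (.node 31 52 (.node 15 15 (.node 7 7 (.node 3 3 (.node 1 0 (.node 0 1 .nil .nil) (.node 2 2 .nil .nil)) (.node 5 5 (.node 4 4 .nil .nil) (.node 6 6 .nil .nil))) (.node 11 11 (.node 9 9 (.node 8 8 .nil .nil) (.node 10 10 .nil .nil)) (.node 13 13 (.node 12 12 .nil .nil) (.node 14 14 .nil .nil)))) (.node 23 39 (.node 19 35 (.node 17 33 (.node 16 16 .nil .nil) (.node 18 34 .nil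 .nil)) (.node 21 37 (.node 20 36 .nil .nil) (.node 22 38 .nil .nil))) (.node 27 48 (.node 25 41 (.node 24 40 .nil .nil) (.node 26 42 .nil .nil)) (.node 29 50 (.node 28 49 .nil .nil) (.node 30 51 .nil .nil))))) (.node 47 47 (.node 39 23 (.node 35 19 (.node 33 17 (.node 32 93 .nil .nil) (.node 34 18 .nil .nil)) (.node 37 21 (.node 36 20 .nil .nil) (.node 38 22 .nil .nil))) (.node 43 43 (.node 41 25 (.node 40 24 .nil .nil) (.node 42 26 .nil .nil)) (.node 45 45 (.node 44 44 .nil .nil) (.node 46 46 .nil .nil)))) (.node 55 55 (.node 51 30 (.node 49 28 (.node 48 27 .nil .nil) (.node 50 29 .nil .nil)) (.node 53 53 (.node 52 31 .nil .nil) (.node 54 54 .nil .nil))) (.node 59 59 (.node 57 57 (.node 56 56 .nil .nil) (.node 58 58 .nil .nil)) (.node 61 61 (.node 60 60 .nil .nil) (.node 62 62 .nil .nil)))))) (.node 95 74 (.node 79 79 (.node 71 71 (.node 67 67 (.node 65 65 (.node 64 64 .nil .nil) (.node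 66 66 .nil .nil)) (.node 69 69 (.node 68 68 .nil .nil) (.node 70 70 .nil .nil))) (.node 75 96 (.node 73 94 (.node 72 72 .nil .nil) (.node 74 95 .nil .nil)) (.node 77 98 (.node 76 97 .nil .nil) (.node 78 78 .nil .nil)))) (.node 87 103 (.node 83 99 (.node 81 81 (.node 80 80 .nil .nil) (.node 82 82 .nil .nil)) (.node 85 101 (.node 84 100 .nil .nil) (.node 86 102 .nil .nil))) (.node 91 107 (.node 89 105 (.node 88 104 .nil .nil) (.node 90 106 .nil .nil)) (.node 93 32 (.node 92 108 .nil .nil) (.node 94 73 .nil .nil))))) (.node 111 111 (.node 103 87 (.node 99 83 (.node 97 76 (.node 96 75 .nil .nil) (.node 98 77 .nil .nil)) (.node 101 85 (.node 100 84 .nil .nil) (.node 102 86 .nil .nil))) (.node 107 91 (.node 105 89 (.node 104 88 .nil .nil) (.node 106 90 .nil .nil)) (.node 109 109 (.node 108 92 .nil .nil) (.node 110 110 .nil .nil)))) (.node 119 119 (.node 115 115 (.node 113 113 (.node 112 112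 .nil .nil) (.node 114 114 .nil .nil)) (.node 117 117 (.node 116 116 .nil .nil) (.node 118 118 .nil .nil))) (.node 123 123 (.node 121 121 (.node 120 120 .nil .nil) (.node 122 122 .nil .nil)) (.node 125 124 (.node 124 125 .nil .nil) .nil)))))) .nil .nil) (.node 2 (.node 63 63 (.node 31 32 (.node 15 21 (.node 7 7 (.node 3 3 (.node 1 2 (.node 0 0 .nil .nil) (.node 2 1 .nil .nil)) (.node 5 5 (.node 4 4 .nil .nil) (.node 6 6 .nil .nil))) (.node 11 17 (.node 9 9 (.node 8 8 .nil .nil) (.node 10 10 .nil .nil)) (.node 13 19 (.node 12 18 .nil .nil) (.node 14 20 .nil .nil)))) (.node 23 23 (.node 19 13 (.node 17 11 (.node 16 22 .nil .nil) (.node 18 12 .nil .nil)) (.node 21 15 (.node 20 14 .nil .nil) (.node 22 16 .nil .nil))) (.node 27 27 (.node 25 25 (.node 24 24 .nil .nil) (.node 26 26 .nil .nil)) (.node 29 29 (.node 28 28 .nil .nil) (.node 30 30 .nil .nil))))) (.node 47 47 (.node 39 43 (.node 35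 35 (.node 33 33 (.node 32 31 .nil .nil) (.node 34 34 .nil .nil)) (.node 37 37 (.node 36 36 .nil .nil) (.node 38 38 .nil .nil))) (.node 43 39 (.node 41 45 (.node 40 44 .nil .nil) (.node 42 46 .nil .nil)) (.node 45 41 (.node 44 40 .nil .nil) (.node 46 42 .nil .nil)))) (.node 55 50 (.node 51 56 (.node 49 54 (.node 48 53 .nil .nil) (.node 50 55 .nil .nil)) (.node 53 48 (.node 52 73 .nil .nil) (.node 54 49 .nil .nil))) (.node 59 59 (.node 57 57 (.node 56 51 .nil .nil) (.node 58 58 .nil .nil)) (.node 61 61 (.node 60 60 .nil .nil) (.node 62 62 .nil .nil)))))) (.node 95 95 (.node 79 83 (.node 71 76 (.node 67 67 (.node 65 65 (.node 64 64 .nil .nil) (.node 66 66 .nil .nil)) (.node 69 74 (.node 68 68 .nil .nil) (.node 70 75 .nil .nil))) (.node 75 70 (.node 73 52 (.node 72 77 .nil .nil) (.node 74 69 .nil .nil)) (.node 77 72 (.node 76 71 .nil .nil) (.node 78 78 .nil .nil)))) (.node 87 87 (.node 83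 79 (.node 81 85 (.node 80 84 .nil .nil) (.node 82 86 .nil .nil)) (.node 85 81 (.node 84 80 .nil .nil) (.node 86 82 .nil .nil))) (.node 91 91 (.node 89 89 (.node 88 88 .nil .nil) (.node 90 90 .nil .nil)) (.node 93 94 (.node 92 92 .nil .nil) (.node 94 93 .nil .nil))))) (.node 111 105 (.node 103 109 (.node 99 99 (.node 97 97 (.node 96 96 .nil .nil) (.node 98 98 .nil .nil)) (.node 101 101 (.node 100 100 .nil .nil) (.node 102 102 .nil .nil))) (.node 107 113 (.node 105 111 (.node 104 110 .nil .nil) (.node 106 112 .nil .nil)) (.node 109 103 (.node 108 114 .nil .nil) (.node 110 104 .nil .nil)))) (.node 119 119 (.node 115 115 (.node 113 107 (.node 112 106 .nil .nil) (.node 114 108 .nil .nil)) (.node 117 117 (.node 116 116 .nil .nil) (.node 118 118 .nil .nil))) (.node 123 124 (.node 121 121 (.node 120 120 .nil .nil) (.node 122 122 .nil .nil)) (.node 125 125 (.node 124 123 .nil .nil) .nil))))))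 .nil .nil)) (.node 5 (.node 63 65 (.node 31 31 (.node 15 16 (.node 7 7 (.node 3 3 (.node 1 1 (.node 0 0 .nil .nil) (.node 2 2 .nil .nil)) (.node 5 4 (.node 4 5 .nil .nil) (.node 6 6 .nil .nil))) (.node 11 12 (.node 9 8 (.node 8 9 .nil .nil) (.node 10 10 .nil .nil)) (.node 13 13 (.node 12 11 .nil .nil) (.node 14 14 .nil .nil)))) (.node 23 23 (.node 19 19 (.node 17 18 (.node 16 15 .nil .nil) (.node 18 17 .nil .nil)) (.node 21 22 (.node 20 20 .nil .nil) (.node 22 21 .nil .nil))) (.node 27 27 (.node 25 24 (.node 24 25 .nil .nil) (.node 26 26 .nil .nil)) (.node 29 28 (.node 28 29 .nil .nil) (.node 30 30 .nil .nil))))) (.node 47 47 (.node 39 39 (.node 35 35 (.node 33 34 (.node 32 32 .nil .nil) (.node 34 33 .nil .nil)) (.node 37 38 (.node 36 36 .nil .nil) (.node 38 37 .nil .nil))) (.node 43 43 (.node 41 40 (.node 40 41 .nil .nil) (.node 42 42 .nil .nil)) (.node 45 44 (.node 44 45 .nil .nil)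 (.node 46 46 .nil .nil)))) (.node 55 54 (.node 51 51 (.node 49 50 (.node 48 48 .nil .nil) (.node 50 49 .nil .nil)) (.node 53 53 (.node 52 52 .nil .nil) (.node 54 55 .nil .nil))) (.node 59 58 (.node 57 57 (.node 56 56 .nil .nil) (.node 58 59 .nil .nil)) (.node 61 64 (.node 60 62 .nil .nil) (.node 62 60 .nil .nil)))))) (.node 95 95 (.node 79 79 (.node 71 70 (.node 67 66 (.node 65 63 (.node 64 61 .nil .nil) (.node 66 67 .nil .nil)) (.node 69 69 (.node 68 68 .nil .nil) (.node 70 71 .nil .nil))) (.node 75 76 (.node 73 73 (.node 72 72 .nil .nil) (.node 74 74 .nil .nil)) (.node 77 77 (.node 76 75 .nil .nil) (.node 78 78 .nil .nil)))) (.node 87 88 (.node 83 83 (.node 81 80 (.node 80 81 .nil .nil) (.node 82 82 .nil .nil)) (.node 85 84 (.node 84 85 .nil .nil) (.node 86 86 .nil .nil))) (.node 91 92 (.node 89 89 (.node 88 87 .nil .nil) (.node 90 90 .nil .nil)) (.node 93 93 (.node 92 91 .nil .nil)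 (.node 94 94 .nil .nil))))) (.node 111 111 (.node 103 104 (.node 99 99 (.node 97 96 (.node 96 97 .nil .nil) (.node 98 98 .nil .nil)) (.node 101 100 (.node 100 101 .nil .nil) (.node 102 102 .nil .nil))) (.node 107 108 (.node 105 105 (.node 104 103 .nil .nil) (.node 106 106 .nil .nil)) (.node 109 110 (.node 108 107 .nil .nil) (.node 110 109 .nil .nil)))) (.node 119 119 (.node 115 115 (.node 113 114 (.node 112 112 .nil .nil) (.node 114 113 .nil .nil)) (.node 117 116 (.node 116 117 .nil .nil) (.node 118 118 .nil .nil))) (.node 123 123 (.node 121 120 (.node 120 121 .nil .nil) (.node 122 122 .nil .nil)) (.node 125 125 (.node 124 124 .nil .nil) .nil)))))) (.node 4 (.node 63 63 (.node 31 31 (.node 15 13 (.node 7 8 (.node 3 4 (.node 1 1 (.node 0 0 .nil .nil) (.node 2 2 .nil .nil)) (.node 5 5 (.node 4 3 .nil .nil) (.node 6 6 .nil .nil))) (.node 11 11 (.node 9 9 (.node 8 7 .nil .nil) (.node 10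 10 .nil .nil)) (.node 13 15 (.node 12 14 .nil .nil) (.node 14 12 .nil .nil)))) (.node 23 23 (.node 19 21 (.node 17 17 (.node 16 16 .nil .nil) (.node 18 20 .nil .nil)) (.node 21 19 (.node 20 18 .nil .nil) (.node 22 22 .nil .nil))) (.node 27 27 (.node 25 26 (.node 24 24 .nil .nil) (.node 26 25 .nil .nil)) (.node 29 30 (.node 28 28 .nil .nil) (.node 30 29 .nil .nil))))) (.node 47 47 (.node 39 39 (.node 35 37 (.node 33 33 (.node 32 32 .nil .nil) (.node 34 36 .nil .nil)) (.node 37 35 (.node 36 34 .nil .nil) (.node 38 38 .nil .nil))) (.node 43 43 (.node 41 42 (.node 40 40 .nil .nil) (.node 42 41 .nil .nil)) (.node 45 46 (.node 44 44 .nil .nil) (.node 46 45 .nil .nil)))) (.node 55 56 (.node 51 50 (.node 49 49 (.node 48 48 .nil .nil) (.node 50 51 .nil .nil)) (.node 53 53 (.node 52 52 .nil .nil) (.node 54 54 .nil .nil))) (.node 59 66 (.node 57 60 (.node 56 55 .nil .nil) (.node 58 61 .nil .nil))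 (.node 61 58 (.node 60 57 .nil .nil) (.node 62 62 .nil .nil)))))) (.node 95 96 (.node 79 80 (.node 71 71 (.node 67 64 (.node 65 68 (.node 64 67 .nil .nil) (.node 66 59 .nil .nil)) (.node 69 70 (.node 68 65 .nil .nil) (.node 70 69 .nil .nil))) (.node 75 74 (.node 73 73 (.node 72 72 .nil .nil) (.node 74 75 .nil .nil)) (.node 77 77 (.node 76 76 .nil .nil) (.node 78 78 .nil .nil)))) (.node 87 87 (.node 83 84 (.node 81 81 (.node 80 79 .nil .nil) (.node 82 82 .nil .nil)) (.node 85 85 (.node 84 83 .nil .nil) (.node 86 86 .nil .nil))) (.node 91 89 (.node 89 91 (.node 88 90 .nil .nil) (.node 90 88 .nil .nil)) (.node 93 93 (.node 92 92 .nil .nil) (.node 94 94 .nil .nil))))) (.node 111 113 (.node 103 103 (.node 99 100 (.node 97 97 (.node 96 95 .nil .nil) (.node 98 98 .nil .nil)) (.node 101 101 (.node 100 99 .nil .nil) (.node 102 102 .nil .nil))) (.node 107 105 (.node 105 107 (.node 104 106 .nil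 .nil) (.node 106 104 .nil .nil)) (.node 109 109 (.node 108 108 .nil .nil) (.node 110 112 .nil .nil)))) (.node 119 119 (.node 115 115 (.node 113 111 (.node 112 110 .nil .nil) (.node 114 114 .nil .nil)) (.node 117 118 (.node 116 116 .nil .nil) (.node 118 117 .nil .nil))) (.node 123 123 (.node 121 122 (.node 120 120 .nil .nil) (.node 122 121 .nil .nil)) (.node 125 125 (.node 124 124 .nil .nil) .nil)))))) .nil .nil) (.node 6 (.node 63 62 (.node 31 31 (.node 15 14 (.node 7 7 (.node 3 3 (.node 1 1 (.node 0 0 .nil .nil) (.node 2 2 .nil .nil)) (.node 5 6 (.node 4 4 .nil .nil) (.node 6 5 .nil .nil))) (.node 11 11 (.node 9 10 (.node 8 8 .nil .nil) (.node 10 9 .nil .nil)) (.node 13 12 (.node 12 13 .nil .nil) (.node 14 15 .nil .nil)))) (.node 23 24 (.node 19 18 (.node 17 17 (.node 16 16 .nil .nil) (.node 18 19 .nil .nil)) (.node 21 20 (.node 20 21 .nil .nil) (.node 22 22 .nil .nil))) (.node 27 28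 (.node 25 25 (.node 24 23 .nil .nil) (.node 26 26 .nil .nil)) (.node 29 29 (.node 28 27 .nil .nil) (.node 30 30 .nil .nil))))) (.node 47 47 (.node 39 40 (.node 35 34 (.node 33 33 (.node 32 32 .nil .nil) (.node 34 35 .nil .nil)) (.node 37 36 (.node 36 37 .nil .nil) (.node 38 38 .nil .nil))) (.node 43 44 (.node 41 41 (.node 40 39 .nil .nil) (.node 42 42 .nil .nil)) (.node 45 45 (.node 44 43 .nil .nil) (.node 46 46 .nil .nil)))) (.node 55 55 (.node 51 51 (.node 49 48 (.node 48 49 .nil .nil) (.node 50 50 .nil .nil)) (.node 53 54 (.node 52 52 .nil .nil) (.node 54 53 .nil .nil))) (.node 59 59 (.node 57 58 (.node 56 56 .nil .nil) (.node 58 57 .nil .nil)) (.node 61 60 (.node 60 61 .nil .nil) (.node 62 63 .nil .nil)))))) (.node 95 95 (.node 79 79 (.node 71 72 (.node 67 68 (.node 65 64 (.node 64 65 .nil .nil) (.node 66 66 .nil .nil)) (.node 69 69 (.node 68 67 .nil .nil) (.node 70 70 .nil .nil)))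 (.node 75 75 (.node 73 73 (.node 72 71 .nil .nil) (.node 74 74 .nil .nil)) (.node 77 76 (.node 76 77 .nil .nil) (.node 78 78 .nil .nil)))) (.node 87 87 (.node 83 83 (.node 81 82 (.node 80 80 .nil .nil) (.node 82 81 .nil .nil)) (.node 85 86 (.node 84 84 .nil .nil) (.node 86 85 .nil .nil))) (.node 91 90 (.node 89 88 (.node 88 89 .nil .nil) (.node 90 91 .nil .nil)) (.node 93 93 (.node 92 92 .nil .nil) (.node 94 94 .nil .nil))))) (.node 111 110 (.node 103 103 (.node 99 99 (.node 97 98 (.node 96 96 .nil .nil) (.node 98 97 .nil .nil)) (.node 101 102 (.node 100 100 .nil .nil) (.node 102 101 .nil .nil))) (.node 107 106 (.node 105 104 (.node 104 105 .nil .nil) (.node 106 107 .nil .nil)) (.node 109 109 (.node 108 108 .nil .nil) (.node 110 111 .nil .nil)))) (.node 119 120 (.node 115 116 (.node 113 112 (.node 112 113 .nil .nil) (.node 114 114 .nil .nil)) (.node 117 117 (.node 116 115 .nil .nil)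 (.node 118 118 .nil .nil))) (.node 123 123 (.node 121 121 (.node 120 119 .nil .nil) (.node 122 122 .nil .nil)) (.node 125 125 (.node 124 124 .nil .nil) .nil)))))) .nil .nil)))

/-- The Coxeter exponents. -/
def mT : Tr (Tr ℕ) := (.node 3 (.node 3 1 (.node 1 3 (.node 0 2 .nil .nil) (.node 2 3 .nil .nil)) (.node 5 2 (.node 4 3 .nil .nil) (.node 6 2 .nil .nil))) (.node 1 (.node 3 3 (.node 1 1 (.node 0 2 .nil .nil) (.node 2 2 .nil .nil)) (.node 5 2 (.node 4 2 .nil .nil) (.node 6 2 .nil .nil))) (.node 0 (.node 3 2 (.node 1 2 (.node 0 1 .nil .nil) (.node 2 3 .nil .nil)) (.node 5 2 (.node 4 2 .nil .nil) (.node 6 2 .nil .nil))) .nil .nil) (.node 2 (.node 3 3 (.node 1 2 (.node 0 3 .nil .nil) (.node 2 1 .nil .nil)) (.node 5 2 (.node 4 2 .nil .nil) (.node 6 2 .nil .nil))) .nil .nil)) (.node 5 (.node 3 2 (.node 1 2 (.node 0 2 .nil .nil) (.node 2 2 .nil .nil)) (.node 5 1 (.node 4 3 .nil .nil) (.node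 6 3 .nil .nil))) (.node 4 (.node 3 3 (.node 1 2 (.node 0 2 .nil .nil) (.node 2 2 .nil .nil)) (.node 5 3 (.node 4 1 .nil .nil) (.node 6 2 .nil .nil))) .nil .nil) (.node 6 (.node 3 2 (.node 1 2 (.node 0 2 .nil .nil) (.node 2 2 .nil .nil)) (.node 5 3 (.node 4 2 .nil .nil) (.node 6 1 .nil .nil))) .nil .nil)))

def sg (i y : ℕ) : ℕ := Tr.find 0 (Tr.find Tr.nil sgT i) y
def mF (a b : ℕ) : ℕ := Tr.find 1 (Tr.find Tr.nil mT a) b

theorem hP : permOK 7 126 mF sg = true := by decide +kernel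
theorem hpos : mposOK 7 mF = true := by decide +kernel
theorem hM : ∀ i j : Fin 7, Mx i j = mF i j := hM_of_check Mx (by decide +kernel)

def L0 : Lvl where
  K := [6]
  J := []
  x := 5
  mc := 2
  dT := (.node 1 (.node 6 0 .nil .nil) (.node 0 (.node 6 1 .nil .nil) .nil .nil) .nil)
  cT := (.node 1 (.node 6 (2, 8) .nil .nil) (.node 0 (.node 6 (1, 0) .nil .nil) .nil .nil) .nil)
  wT := (.node 1 [6] (.node 0 [] .nil .nil) .nil)

theorem tab0 : tableOK L0 mF = true := by decide +kernel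
theorem orb0 : orbitOK L0 sg = true := by decide +kernel
theorem kn0 : lall (fun j => Nat.blt j 7) L0.K = true := by decide +kernel

def L1 : Lvl where
  K := [5, 6]
  J := [6]
  x := 4
  mc := 3
  dT := (.node 1 (.node 6 2 (.node 5 0 .nil .nil) .nil) (.node 0 (.node 6 0 (.node 5 1 .nil .nil) .nil) .nil .nil) (.node 2 (.node 6 1 (.node 5 2 .nil .nil) .nil) .nil .nil))
  cT := (.node 1 (.node 6 (2, 0) (.node 5 (4, 7) .nil .nil) .nil) (.node 0 (.node 6 (3, 1) (.node 5 (1, 0) .nil .nil) .nil) .nil .nil) (.node 2 (.node 6 (5, 8) (.node 5 (6, 8) .nil .nil) .nil) .nil .nil))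
  wT := (.node 1 [5] (.node 0 [] .nil .nil) (.node 2 [5, 6] .nil .nil))

theorem tab1 : tableOK L1 mF = true := by decide +kernel
theorem orb1 : orbitOK L1 sg = true := by decide +kernel
theorem kn1 : lall (fun j => Nat.blt j 7) L1.K = true := by decide +kernel

def L2 : Lvl where
  K := [4, 5, 6]
  J := [5, 6]
  x := 3
  mc := 4
  dT := (.node 2 (.node 5 1 (.node 4 2 .nil .nil) (.node 6 3 .nil .nil)) (.node 1 (.node 5 2 (.node 4 0 .nil .nil) (.node 6 1 .nil .nil)) (.node 0 (.node 5 0 (.node 4 1 .nil .nil) (.node 6 0 .nil .nil)) .nil .nil) .nil) (.node 3 (.node 5 3 (.node 4 3 .nil .nil) (.node 6 2 .nil .nil)) .nil .nil))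
  cT := (.node 2 (.node 5 (8, 7) (.node 4 (10, 7) .nil .nil) (.node 6 (3, 0) .nil .nil)) (.node 1 (.node 5 (2, 0) (.node 4 (6, 6) .nil .nil) (.node 6 (7, 6) .nil .nil)) (.node 0 (.node 5 (4, 1) (.node 4 (1, 0) .nil .nil) (.node 6 (5, 1) .nil .nil)) .nil .nil) .nil) (.node 3 (.node 5 (12, 8) (.node 4 (11, 8) .nil .nil) (.node 6 (9, 8) .nil .nil)) .nil .nil))
  wT := (.node 2 [4, 5] (.node 1 [4] (.node 0 [] .nil .nil) .nil) (.node 3 [4, 5, 6] .nil .nil))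

theorem tab2 : tableOK L2 mF = true := by decide +kernel
theorem orb2 : orbitOK L2 sg = true := by decide +kernel
theorem kn2 : lall (fun j => Nat.blt j 7) L2.K = true := by decide +kernel

def L3 : Lvl where
  K := [1, 4, 5, 6]
  J := [4, 5, 6]
  x := 47
  mc := 2
  dT := (.node 1 (.node 5 1 (.node 4 1 (.node 1 0 .nil .nil) .nil) (.node 6 1 .nil .nil)) (.node 0 (.node 5 0 (.node 4 0 (.node 1 1 .nil .nil) .nil) (.node 6 0 .nil .nil)) .nil .nil) .nil)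
  cT := (.node 1 (.node 5 (7, 3) (.node 4 (6, 3) (.node 1 (5, 3) .nil .nil) .nil) (.node 6 (8, 3) .nil .nil)) (.node 0 (.node 5 (3, 1) (.node 4 (2, 1) (.node 1 (1, 0) .nil .nil) .nil) (.node 6 (4, 1) .nil .nil)) .nil .nil) .nil)
  wT := (.node 1 [1] (.node 0 [] .nil .nil) .nil)

theorem tab3 : tableOK L3 mF = true := by decide +kernel
theorem orb3 : orbitOK L3 sg = true := by decide +kernel
theorem kn3 : lall (fun j => Nat.blt j 7) L3.K = true := by decide +kernel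

def L4 : Lvl where
  K := [1, 3, 4, 5, 6]
  J := [1, 4, 5, 6]
  x := 2
  mc := 15
  dT := (.node 7 (.node 4 7 (.node 3 9 (.node 1 5 .nil .nil) .nil) (.node 6 10 (.node 5 4 .nil .nil) .nil)) (.node 3 (.node 4 1 (.node 3 3 (.node 1 4 .nil .nil) .nil) (.node 6 3 (.node 5 5 .nil .nil) .nil)) (.node 1 (.node 4 3 (.node 3 0 (.node 1 2 .nil .nil) .nil) (.node 6 1 (.node 5 1 .nil .nil) .nil)) (.node 0 (.node 4 0 (.node 3 1 (.node 1 0 .nil .nil) .nil) (.node 6 0 (.node 5 0 .nil .nil) .nil)) .nil .nil) (.node 2 (.node 4 4 (.node 3 2 (.node 1 1 .nil .nil) .nil) (.node 6 2 (.node 5 2 .nil .nil) .nil)) .nil .nil)) (.node 5 (.node 4 5 (.node 3 5 (.node 1 7 .nil .nil) .nil) (.node 6 8 (.node 5 3 .nil .nil) .nil)) (.node 4 (.node 4 2 (.node 3 6 (.node 1 3 .nil .nil) .nil) (.node 6 4 (.node 5 7 .nil .nil) .nil)) .nil .nil) (.node 6 (.node 4 6 (.node 3 4 (.node 1 6 .nil .nil) .nil) (.node 6 6 (.node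 5 9 .nil .nil) .nil)) .nil .nil))) (.node 11 (.node 4 9 (.node 3 11 (.node 1 11 .nil .nil) .nil) (.node 6 13 (.node 5 11 .nil .nil) .nil)) (.node 9 (.node 4 11 (.node 3 7 (.node 1 9 .nil .nil) .nil) (.node 6 12 (.node 5 6 .nil .nil) .nil)) (.node 8 (.node 4 8 (.node 3 8 (.node 1 10 .nil .nil) .nil) (.node 6 5 (.node 5 8 .nil .nil) .nil)) .nil .nil) (.node 10 (.node 4 10 (.node 3 12 (.node 1 8 .nil .nil) .nil) (.node 6 7 (.node 5 10 .nil .nil) .nil)) .nil .nil)) (.node 13 (.node 4 12 (.node 3 13 (.node 1 13 .nil .nil) .nil) (.node 6 11 (.node 5 14 .nil .nil) .nil)) (.node 12 (.node 4 13 (.node 3 10 (.node 1 12 .nil .nil) .nil) (.node 6 9 (.node 5 12 .nil .nil) .nil)) .nil .nil) (.node 14 (.node 4 14 (.node 3 14 (.node 1 14 .nil .nil) .nil) (.node 6 14 (.node 5 13 .nil .nil) .nil)) .nil .nil))))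
  cT := (.node 7 (.node 4 (55, 3) (.node 3 (54, 5) (.node 1 (53, 3) .nil .nil) .nil) (.node 6 (10, 0) (.node 5 (35, 7) .nil .nil) .nil)) (.node 3 (.node 4 (26, 6) (.node 3 (48, 6) (.node 1 (47, 3) .nil .nil) .nil) (.node 6 (27, 6) (.node 5 (5, 0) .nil .nil) .nil)) (.node 1 (.node 4 (3, 0) (.node 3 (19, 5) (.node 1 (2, 0) .nil .nil) .nil) (.node 6 (21, 5) (.node 5 (20, 5) .nil .nil) .nil)) (.node 0 (.node 4 (16, 1) (.node 3 (1, 0) (.node 1 (15, 1) .nil .nil) .nil) (.node 6 (18, 1) (.node 5 (17, 1) .nil .nil) .nil)) .nil .nil) (.node 2 (.node 4 (4, 0) (.node 3 (23, 3) (.node 1 (22, 3) .nil .nil) .nil) (.node 6 (25, 3) (.node 5 (24, 3) .nil .nil) .nil)) .nil .nil)) (.node 5 (.node 4 (51, 7) (.node 3 (50, 7) (.node 1 (49, 7) .nil .nil) .nil) (.node 6 (8, 0) (.node 5 (31, 7) .nil .nil) .nil)) (.node 4 (.node 4 (29, 6) (.node 3 (6, 0) (.node 1 (28, 6) .nil .nil) .nil) (.node 6 (30, 6) (.node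 5 (7, 0) .nil .nil) .nil)) .nil .nil) (.node 6 (.node 4 (33, 5) (.node 3 (32, 5) (.node 1 (52, 5) .nil .nil) .nil) (.node 6 (34, 5) (.node 5 (9, 0) .nil .nil) .nil)) .nil .nil))) (.node 11 (.node 4 (40, 6) (.node 3 (66, 6) (.node 1 (65, 6) .nil .nil) .nil) (.node 6 (13, 0) (.node 5 (41, 6) .nil .nil) .nil)) (.node 9 (.node 4 (11, 0) (.node 3 (37, 7) (.node 1 (60, 5) .nil .nil) .nil) (.node 6 (12, 0) (.node 5 (38, 7) .nil .nil) .nil)) (.node 8 (.node 4 (58, 8) (.node 3 (57, 8) (.node 1 (56, 8) .nil .nil) .nil) (.node 6 (36, 8) (.node 5 (59, 8) .nil .nil) .nil)) .nil .nil) (.node 10 (.node 4 (63, 3) (.node 3 (62, 8) (.node 1 (61, 3) .nil .nil) .nil) (.node 6 (39, 8) (.node 5 (64, 3) .nil .nil) .nil)) .nil .nil)) (.node 13 (.node 4 (43, 8) (.node 3 (72, 6) (.node 1 (71, 6) .nil .nil) .nil) (.node 6 (44, 8) (.node 5 (14, 0) .nil .nil) .nil)) (.node 12 (.node 4 (69, 6) (.node 3 (68, 3) (.node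 1 (67, 8) .nil .nil) .nil) (.node 6 (42, 8) (.node 5 (70, 5) .nil .nil) .nil)) .nil .nil) (.node 14 (.node 4 (75, 7) (.node 3 (74, 7) (.node 1 (73, 7) .nil .nil) .nil) (.node 6 (46, 7) (.node 5 (45, 7) .nil .nil) .nil)) .nil .nil))))
  wT := (.node 7 [3, 1, 4, 5] (.node 3 [3, 4] (.node 1 [3] (.node 0 [] .nil .nil) (.node 2 [3, 1] .nil .nil)) (.node 5 [3, 4, 5] (.node 4 [3, 1, 4] .nil .nil) (.node 6 [3, 1, 4, 3] .nil .nil))) (.node 11 [3, 1, 4, 3, 5, 4] (.node 9 [3, 1, 4, 3, 5] (.node 8 [3, 4, 5, 6] .nil .nil) (.node 10 [3, 1, 4, 5, 6] .nil .nil)) (.node 13 [3, 1, 4, 3, 5, 4, 6] (.node 12 [3, 1, 4, 3, 5, 6] .nil .nil) (.node 14 [3, 1, 4, 3, 5, 4, 6, 5] .nil .nil))))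

theorem tab4 : tableOK L4 mF = true := by decide +kernel
theorem orb4 : orbitOK L4 sg = true := by decide +kernel
theorem kn4 : lall (fun j => Nat.blt j 7) L4.K = true := by decide +kernel

def L5 : Lvl where
  K := [1, 2, 3, 4, 5, 6]
  J := [1, 3, 4, 5, 6]
  x := 1
  mc := 32
  dT := (.node 16 (.node 4 13 (.node 2 14 (.node 1 16 .nil .nil) (.node 3 19 .nil .nil)) (.node 6 20 (.node 5 16 .nil .nil) .nil)) (.node 8 (.node 4 8 (.node 2 8 (.node 1 6 .nil .nil) (.node 3 11 .nil .nil)) (.node 6 12 (.node 5 5 .nil .nil) .nil)) (.node 4 (.node 4 2 (.node 2 4 (.node 1 5 .nil .nil) (.node 3 4 .nil .nil)) (.node 6 4 (.node 5 6 .nil .nil) .nil)) (.node 2 (.node 4 4 (.node 2 2 (.node 1 3 .nil .nil) (.node 3 1 .nil .nil)) (.node 6 2 (.node 5 2 .nil .nil) .nil)) (.node 1 (.node 4 1 (.node 2 0 (.node 1 1 .nil .nil) (.node 3 2 .nil .nil)) (.node 6 1 (.node 5 1 .nil .nil) .nil)) (.node 0 (.node 4 0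 (.node 2 1 (.node 1 0 .nil .nil) (.node 3 0 .nil .nil)) (.node 6 0 (.node 5 0 .nil .nil) .nil)) .nil .nil) .nil) (.node 3 (.node 4 5 (.node 2 3 (.node 1 2 .nil .nil) (.node 3 3 .nil .nil)) (.node 6 3 (.node 5 3 .nil .nil) .nil)) .nil .nil)) (.node 6 (.node 4 6 (.node 2 6 (.node 1 8 .nil .nil) (.node 3 6 .nil .nil)) (.node 6 9 (.node 5 4 .nil .nil) .nil)) (.node 5 (.node 4 3 (.node 2 5 (.node 1 4 .nil .nil) (.node 3 7 .nil .nil)) (.node 6 5 (.node 5 8 .nil .nil) .nil)) .nil .nil) (.node 7 (.node 4 7 (.node 2 10 (.node 1 7 .nil .nil) (.node 3 5 .nil .nil)) (.node 6 7 (.node 5 11 .nil .nil) .nil)) .nil .nil))) (.node 12 (.node 4 12 (.node 2 12 (.node 1 9 .nil .nil) (.node 3 15 .nil .nil)) (.node 6 8 (.node 5 12 .nil .nil) .nil)) (.node 10 (.node 4 10 (.node 2 7 (.node 1 10 .nil .nil) (.node 3 10 .nil .nil)) (.node 6 10 (.node 5 13 .nil .nil) .nil)) (.node 9 (.node 4 9 (.node 2 9 (.node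 1 12 .nil .nil) (.node 3 9 .nil .nil)) (.node 6 6 (.node 5 9 .nil .nil) .nil)) .nil .nil) (.node 11 (.node 4 14 (.node 2 13 (.node 1 11 .nil .nil) (.node 3 8 .nil .nil)) (.node 6 15 (.node 5 7 .nil .nil) .nil)) .nil .nil)) (.node 14 (.node 4 11 (.node 2 16 (.node 1 14 .nil .nil) (.node 3 14 .nil .nil)) (.node 6 18 (.node 5 14 .nil .nil) .nil)) (.node 13 (.node 4 16 (.node 2 11 (.node 1 13 .nil .nil) (.node 3 13 .nil .nil)) (.node 6 17 (.node 5 10 .nil .nil) .nil)) .nil .nil) (.node 15 (.node 4 18 (.node 2 17 (.node 1 15 .nil .nil) (.node 3 12 .nil .nil)) (.node 6 11 (.node 5 15 .nil .nil) .nil)) .nil .nil)))) (.node 24 (.node 4 24 (.node 2 21 (.node 1 24 .nil .nil) (.node 3 26 .nil .nil)) (.node 6 24 (.node 5 20 .nil .nil) .nil)) (.node 20 (.node 4 17 (.node 2 18 (.node 1 20 .nil .nil) (.node 3 23 .nil .nil)) (.node 6 16 (.node 5 24 .nil .nil) .nil)) (.node 18 (.node 4 15 (.node 2 20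 (.node 1 18 .nil .nil) (.node 3 18 .nil .nil)) (.node 6 14 (.node 5 21 .nil .nil) .nil)) (.node 17 (.node 4 20 (.node 2 15 (.node 1 17 .nil .nil) (.node 3 17 .nil .nil)) (.node 6 13 (.node 5 17 .nil .nil) .nil)) .nil .nil) (.node 19 (.node 4 19 (.node 2 19 (.node 1 22 .nil .nil) (.node 3 16 .nil .nil)) (.node 6 23 (.node 5 19 .nil .nil) .nil)) .nil .nil)) (.node 22 (.node 4 22 (.node 2 22 (.node 1 19 .nil .nil) (.node 3 22 .nil .nil)) (.node 6 25 (.node 5 22 .nil .nil) .nil)) (.node 21 (.node 4 21 (.node 2 24 (.node 1 21 .nil .nil) (.node 3 21 .nil .nil)) (.node 6 21 (.node 5 18 .nil .nil) .nil)) .nil .nil) (.node 23 (.node 4 23 (.node 2 23 (.node 1 25 .nil .nil) (.node 3 20 .nil .nil)) (.node 6 19 (.node 5 26 .nil .nil) .nil)) .nil .nil))) (.node 28 (.node 4 26 (.node 2 28 (.node 1 29 .nil .nil) (.node 3 28 .nil .nil)) (.node 6 28 (.node 5 28 .nil .nil) .nil)) (.node 26 (.node 4 28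 (.node 2 26 (.node 1 27 .nil .nil) (.node 3 24 .nil .nil)) (.node 6 26 (.node 5 23 .nil .nil) .nil)) (.node 25 (.node 4 25 (.node 2 25 (.node 1 23 .nil .nil) (.node 3 25 .nil .nil)) (.node 6 22 (.node 5 27 .nil .nil) .nil)) .nil .nil) (.node 27 (.node 4 29 (.node 2 27 (.node 1 26 .nil .nil) (.node 3 27 .nil .nil)) (.node 6 27 (.node 5 25 .nil .nil) .nil)) .nil .nil)) (.node 30 (.node 4 30 (.node 2 31 (.node 1 30 .nil .nil) (.node 3 29 .nil .nil)) (.node 6 30 (.node 5 30 .nil .nil) .nil)) (.node 29 (.node 4 27 (.node 2 29 (.node 1 28 .nil .nil) (.node 3 30 .nil .nil)) (.node 6 29 (.node 5 29 .nil .nil) .nil)) .nil .nil) (.node 31 (.node 4 31 (.node 2 30 (.node 1 31 .nil .nil) (.node 3 31 .nil .nil)) (.node 6 31 (.node 5 31 .nil .nil) .nil)) .nil .nil)))))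
  cT := (.node 16 (.node 4 (66, 6) (.node 2 (131, 3) (.node 1 (130, 6) .nil .nil) (.node 3 (19, 0) .nil .nil)) (.node 6 (20, 0) (.node 5 (132, 4) .nil .nil) .nil)) (.node 8 (.node 4 (103, 3) (.node 2 (101, 3) (.node 1 (100, 3) .nil .nil) (.node 3 (102, 5) .nil .nil)) (.node 6 (12, 0) (.node 5 (55, 7) .nil .nil) .nil)) (.node 4 (.node 4 (47, 6) (.node 2 (91, 6) (.node 1 (90, 3) .nil .nil) (.node 3 (92, 6) .nil .nil)) (.node 6 (48, 6) (.node 5 (6, 0) .nil .nil) .nil)) (.node 2 (.node 4 (4, 0) (.node 2 (87, 5) (.node 1 (3, 0) .nil .nil) (.node 3 (41, 5) .nil .nil)) (.node 6 (43, 5) (.node 5 (42, 5) .nil .nil) .nil)) (.node 1 (.node 4 (38, 4) (.node 2 (37, 4) (.node 1 (86, 4) .nil .nil) (.node 3 (2, 0) .nil .nil)) (.node 6 (40, 4) (.node 5 (39, 4) .nil .nil) .nil)) (.node 0 (.node 4 (34, 1) (.node 2 (1, 0) (.node 1 (32, 1) .nil .nil) (.node 3 (33, 1) .nil .nil)) (.node 6 (36, 1) (.node 5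 (35, 1) .nil .nil) .nil)) .nil .nil) .nil) (.node 3 (.node 4 (5, 0) (.node 2 (88, 3) (.node 1 (44, 3) .nil .nil) (.node 3 (89, 3) .nil .nil)) (.node 6 (46, 3) (.node 5 (45, 3) .nil .nil) .nil)) .nil .nil)) (.node 6 (.node 4 (97, 7) (.node 2 (95, 7) (.node 1 (94, 7) .nil .nil) (.node 3 (96, 7) .nil .nil)) (.node 6 (9, 0) (.node 5 (52, 7) .nil .nil) .nil)) (.node 5 (.node 4 (50, 6) (.node 2 (93, 3) (.node 1 (49, 6) .nil .nil) (.node 3 (7, 0) .nil .nil)) (.node 6 (51, 6) (.node 5 (8, 0) .nil .nil) .nil)) .nil .nil) (.node 7 (.node 4 (99, 5) (.node 2 (10, 0) (.node 1 (98, 5) .nil .nil) (.node 3 (53, 5) .nil .nil)) (.node 6 (54, 5) (.node 5 (11, 0) .nil .nil) .nil)) .nil .nil))) (.node 12 (.node 4 (117, 3) (.node 2 (115, 3) (.node 1 (114, 3) .nil .nil) (.node 3 (116, 8) .nil .nil)) (.node 6 (61, 8) (.node 5 (118, 3) .nil .nil) .nil)) (.node 10 (.node 4 (111, 4) (.node 2 (57, 4) (.node 1 (109,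 4) .nil .nil) (.node 3 (110, 4) .nil .nil)) (.node 6 (58, 4) (.node 5 (13, 0) .nil .nil) .nil)) (.node 9 (.node 4 (107, 8) (.node 2 (105, 8) (.node 1 (104, 8) .nil .nil) (.node 3 (106, 8) .nil .nil)) (.node 6 (56, 8) (.node 5 (108, 8) .nil .nil) .nil)) .nil .nil) (.node 11 (.node 4 (14, 0) (.node 2 (113, 4) (.node 1 (112, 5) .nil .nil) (.node 3 (59, 7) .nil .nil)) (.node 6 (15, 0) (.node 5 (60, 7) .nil .nil) .nil)) .nil .nil)) (.node 14 (.node 4 (64, 6) (.node 2 (122, 6) (.node 1 (121, 6) .nil .nil) (.node 3 (123, 6) .nil .nil)) (.node 6 (18, 0) (.node 5 (124, 6) .nil .nil) .nil)) (.node 13 (.node 4 (16, 0) (.node 2 (62, 7) (.node 1 (119, 4) .nil .nil) (.node 3 (120, 4) .nil .nil)) (.node 6 (17, 0) (.node 5 (63, 7) .nil .nil) .nil)) .nil .nil) (.node 15 (.node 4 (128, 6) (.node 2 (126, 8) (.node 1 (125, 8) .nil .nil) (.node 3 (127, 3) .nil .nil)) (.node 6 (65, 8) (.node 5 (129, 5) .nil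 .nil) .nil)) .nil .nil)))) (.node 24 (.node 4 (162, 4) (.node 2 (160, 3) (.node 1 (159, 7) .nil .nil) (.node 3 (161, 7) .nil .nil)) (.node 6 (163, 4) (.node 5 (77, 7) .nil .nil) .nil)) (.node 20 (.node 4 (71, 8) (.node 2 (145, 3) (.node 1 (144, 6) .nil .nil) (.node 3 (146, 5) .nil .nil)) (.node 6 (72, 8) (.node 5 (24, 0) .nil .nil) .nil)) (.node 18 (.node 4 (68, 8) (.node 2 (139, 6) (.node 1 (138, 6) .nil .nil) (.node 3 (140, 6) .nil .nil)) (.node 6 (69, 8) (.node 5 (21, 0) .nil .nil) .nil)) (.node 17 (.node 4 (136, 6) (.node 2 (134, 3) (.node 1 (133, 8) .nil .nil) (.node 3 (135, 4) .nil .nil)) (.node 6 (67, 8) (.node 5 (137, 4) .nil .nil) .nil)) .nil .nil) (.node 19 (.node 4 (142, 5) (.node 2 (141, 5) (.node 1 (22, 0) .nil .nil) (.node 3 (70, 5) .nil .nil)) (.node 6 (23, 0) (.node 5 (143, 5) .nil .nil) .nil)) .nil .nil)) (.node 22 (.node 4 (154, 3) (.node 2 (152, 3) (.node 1 (74, 3)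 .nil .nil) (.node 3 (153, 3) .nil .nil)) (.node 6 (25, 0) (.node 5 (155, 3) .nil .nil) .nil)) (.node 21 (.node 4 (150, 7) (.node 2 (148, 7) (.node 1 (147, 7) .nil .nil) (.node 3 (149, 7) .nil .nil)) (.node 6 (151, 7) (.node 5 (73, 7) .nil .nil) .nil)) .nil .nil) (.node 23 (.node 4 (158, 5) (.node 2 (157, 5) (.node 1 (156, 3) .nil .nil) (.node 3 (75, 8) .nil .nil)) (.node 6 (76, 8) (.node 5 (26, 0) .nil .nil) .nil)) .nil .nil))) (.node 28 (.node 4 (82, 6) (.node 2 (176, 6) (.node 1 (175, 6) .nil .nil) (.node 3 (177, 6) .nil .nil)) (.node 6 (179, 6) (.node 5 (178, 6) .nil .nil) .nil)) (.node 26 (.node 4 (28, 0) (.node 2 (168, 7) (.node 1 (167, 7) .nil .nil) (.node 3 (169, 4) .nil .nil)) (.node 6 (170, 5) (.node 5 (80, 7) .nil .nil) .nil)) (.node 25 (.node 4 (166, 3) (.node 2 (164, 3) (.node 1 (78, 8) .nil .nil) (.node 3 (165, 3) .nil .nil)) (.node 6 (79, 8) (.node 5 (27, 0) .nil .nil)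 .nil)) .nil .nil) (.node 27 (.node 4 (29, 0) (.node 2 (172, 3) (.node 1 (171, 3) .nil .nil) (.node 3 (173, 3) .nil .nil)) (.node 6 (174, 3) (.node 5 (81, 7) .nil .nil) .nil)) .nil .nil)) (.node 30 (.node 4 (185, 5) (.node 2 (31, 0) (.node 1 (184, 5) .nil .nil) (.node 3 (84, 5) .nil .nil)) (.node 6 (187, 5) (.node 5 (186, 5) .nil .nil) .nil)) (.node 29 (.node 4 (83, 6) (.node 2 (181, 3) (.node 1 (180, 3) .nil .nil) (.node 3 (30, 0) .nil .nil)) (.node 6 (183, 3) (.node 5 (182, 3) .nil .nil) .nil)) .nil .nil) (.node 31 (.node 4 (190, 4) (.node 2 (85, 4) (.node 1 (188, 4) .nil .nil) (.node 3 (189, 4) .nil .nil)) (.node 6 (192, 4) (.node 5 (191, 4) .nil .nil) .nil)) .nil .nil)))))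
  wT := (.node 16 [2, 3, 1, 4, 3, 2, 5, 4] (.node 8 [2, 3, 1, 4, 5] (.node 4 [2, 3, 4] (.node 2 [2, 3] (.node 1 [2] (.node 0 [] .nil .nil) .nil) (.node 3 [2, 3, 1] .nil .nil)) (.node 6 [2, 3, 4, 5] (.node 5 [2, 3, 1, 4] .nil .nil) (.node 7 [2, 3, 1, 4, 3] .nil .nil))) (.node 12 [2, 3, 1, 4, 5, 6] (.node 10 [2, 3, 1, 4, 3, 2] (.node 9 [2, 3, 4, 5, 6] .nil .nil) (.node 11 [2, 3, 1, 4, 3, 5] .nil .nil)) (.node 14 [2, 3, 1, 4, 3, 5, 4] (.node 13 [2, 3, 1, 4, 3, 2, 5] .nil .nil) (.node 15 [2, 3, 1, 4, 3, 5, 6] .nil .nil)))) (.node 24 [2, 3, 1, 4, 3, 2, 5, 4, 6, 5] (.node 20 [2, 3, 1, 4, 3, 2, 5, 4, 6] (.node 18 [2, 3, 1, 4, 3, 5, 4, 6] (.node 17 [2, 3, 1, 4, 3, 2, 5, 6] .nil .nil) (.node 19 [2, 3, 1, 4, 3, 2, 5, 4, 3] .nil .nil)) (.node 22 [2, 3, 1, 4, 3, 2, 5, 4, 3, 1] (.node 21 [2, 3, 1, 4, 3, 5, 4, 6, 5] .nil .nil) (.node 23 [2, 3, 1, 4, 3, 2, 5, 4, 3, 6] .nil .nil))) (.node 28 [2, 3,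 1, 4, 3, 2, 5, 4, 3, 6, 5, 4] (.node 26 [2, 3, 1, 4, 3, 2, 5, 4, 3, 6, 5] (.node 25 [2, 3, 1, 4, 3, 2, 5, 4, 3, 1, 6] .nil .nil) (.node 27 [2, 3, 1, 4, 3, 2, 5, 4, 3, 1, 6, 5] .nil .nil)) (.node 30 [2, 3, 1, 4, 3, 2, 5, 4, 3, 1, 6, 5, 4, 3] (.node 29 [2, 3, 1, 4, 3, 2, 5, 4, 3, 1, 6, 5, 4] .nil .nil) (.node 31 [2, 3, 1, 4, 3, 2, 5, 4, 3, 1, 6, 5, 4, 3, 2] .nil .nil)))))

theorem tab5 : tableOK L5 mF = true := by decide +kernel
theorem orb5 : orbitOK L5 sg = true := by decide +kernel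
theorem kn5 : lall (fun j => Nat.blt j 7) L5.K = true := by decide +kernel

def L6 : Lvl where
  K := [0, 1, 2, 3, 4, 5, 6]
  J := [1, 2, 3, 4, 5, 6]
  x := 0
  mc := 126
  dT := (.node 63 (.node 3 63 (.node 1 63 (.node 0 63 .nil .nil) (.node 2 63 .nil .nil)) (.node 5 70 (.node 4 63 .nil .nil) (.node 6 56 .nil .nil))) (.node 31 (.node 3 37 (.node 1 31 (.node 0 35 .nil .nil) (.node 2 26 .nil .nil)) (.node 5 25 (.node 4 31 .nil .nil) (.node 6 31 .nil .nil))) (.node 15 (.node 3 15 (.node 1 15 (.node 0 18 .nil .nil) (.node 2 12 .nil .nil)) (.node 5 11 (.node 4 19 .nil .nil) (.node 6 20 .nil .nil))) (.node 7 (.node 3 7 (.node 1 9 (.node 0 7 .nil .nil) (.node 2 7 .nil .nil)) (.node 5 5 (.node 4 7 .nil .nil) (.node 6 10 .nil .nil))) (.node 3 (.node 3 2 (.node 1 4 (.node 0 3 .nil .nil) (.node 2 3 .nil .nil)) (.node 5 3 (.node 4 5 .nil .nil) (.node 6 3 .nil .nil))) (.node 1 (.node 3 1 (.node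 1 1 (.node 0 0 .nil .nil) (.node 2 2 .nil .nil)) (.node 5 1 (.node 4 1 .nil .nil) (.node 6 1 .nil .nil))) (.node 0 (.node 3 0 (.node 1 0 (.node 0 1 .nil .nil) (.node 2 0 .nil .nil)) (.node 5 0 (.node 4 0 .nil .nil) (.node 6 0 .nil .nil))) .nil .nil) (.node 2 (.node 3 3 (.node 1 2 (.node 0 2 .nil .nil) (.node 2 1 .nil .nil)) (.node 5 2 (.node 4 2 .nil .nil) (.node 6 2 .nil .nil))) .nil .nil)) (.node 5 (.node 3 5 (.node 1 6 (.node 0 5 .nil .nil) (.node 2 5 .nil .nil)) (.node 5 7 (.node 4 3 .nil .nil) (.node 6 5 .nil .nil))) (.node 4 (.node 3 4 (.node 1 3 (.node 0 4 .nil .nil) (.node 2 4 .nil .nil)) (.node 5 4 (.node 4 6 .nil .nil) (.node 6 4 .nil .nil))) .nil .nil) (.node 6 (.node 3 8 (.node 1 5 (.node 0 6 .nil .nil) (.node 2 6 .nil .nil)) (.node 5 9 (.node 4 4 .nil .nil) (.node 6 6 .nil .nil))) .nil .nil))) (.node 11 (.node 3 11 (.node 1 11 (.node 0 14 .nil .nil) (.node 2 8 .nil .nil))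 (.node 5 15 (.node 4 11 .nil .nil) (.node 6 11 .nil .nil))) (.node 9 (.node 3 12 (.node 1 7 (.node 0 9 .nil .nil) (.node 2 9 .nil .nil)) (.node 5 6 (.node 4 9 .nil .nil) (.node 6 13 .nil .nil))) (.node 8 (.node 3 6 (.node 1 8 (.node 0 8 .nil .nil) (.node 2 11 .nil .nil)) (.node 5 12 (.node 4 8 .nil .nil) (.node 6 8 .nil .nil))) .nil .nil) (.node 10 (.node 3 10 (.node 1 13 (.node 0 10 .nil .nil) (.node 2 10 .nil .nil)) (.node 5 10 (.node 4 10 .nil .nil) (.node 6 7 .nil .nil))) .nil .nil)) (.node 13 (.node 3 17 (.node 1 10 (.node 0 13 .nil .nil) (.node 2 13 .nil .nil)) (.node 5 13 (.node 4 13 .nil .nil) (.node 6 9 .nil .nil))) (.node 12 (.node 3 9 (.node 1 12 (.node 0 12 .nil .nil) (.node 2 15 .nil .nil)) (.node 5 8 (.node 4 16 .nil .nil) (.node 6 17 .nil .nil))) .nil .nil) (.node 14 (.node 3 14 (.node 1 14 (.node 0 11 .nil .nil) (.node 2 14 .nil .nil)) (.node 5 18 (.node 4 14 .nil .nil)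 (.node 6 14 .nil .nil))) .nil .nil)))) (.node 23 (.node 3 23 (.node 1 23 (.node 0 20 .nil .nil) (.node 2 23 .nil .nil)) (.node 5 23 (.node 4 28 .nil .nil) (.node 6 18 .nil .nil))) (.node 19 (.node 3 24 (.node 1 19 (.node 0 22 .nil .nil) (.node 2 16 .nil .nil)) (.node 5 19 (.node 4 15 .nil .nil) (.node 6 25 .nil .nil))) (.node 17 (.node 3 13 (.node 1 17 (.node 0 17 .nil .nil) (.node 2 20 .nil .nil)) (.node 5 17 (.node 4 21 .nil .nil) (.node 6 12 .nil .nil))) (.node 16 (.node 3 16 (.node 1 16 (.node 0 16 .nil .nil) (.node 2 19 .nil .nil)) (.node 5 16 (.node 4 12 .nil .nil) (.node 6 21 .nil .nil))) .nil .nil) (.node 18 (.node 3 18 (.node 1 18 (.node 0 15 .nil .nil) (.node 2 18 .nil .nil)) (.node 5 14 (.node 4 22 .nil .nil) (.node 6 23 .nil .nil))) .nil .nil)) (.node 21 (.node 3 21 (.node 1 21 (.node 0 21 .nil .nil) (.node 2 25 .nil .nil)) (.node 5 26 (.node 4 17 .nil .nil) (.node 6 16 .nil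 .nil))) (.node 20 (.node 3 20 (.node 1 20 (.node 0 23 .nil .nil) (.node 2 17 .nil .nil)) (.node 5 20 (.node 4 25 .nil .nil) (.node 6 15 .nil .nil))) .nil .nil) (.node 22 (.node 3 27 (.node 1 22 (.node 0 19 .nil .nil) (.node 2 22 .nil .nil)) (.node 5 22 (.node 4 18 .nil .nil) (.node 6 28 .nil .nil))) .nil .nil))) (.node 27 (.node 3 22 (.node 1 32 (.node 0 24 .nil .nil) (.node 2 33 .nil .nil)) (.node 5 27 (.node 4 27 .nil .nil) (.node 6 34 .nil .nil))) (.node 25 (.node 3 30 (.node 1 25 (.node 0 28 .nil .nil) (.node 2 21 .nil .nil)) (.node 5 31 (.node 4 20 .nil .nil) (.node 6 19 .nil .nil))) (.node 24 (.node 3 19 (.node 1 29 (.node 0 27 .nil .nil) (.node 2 24 .nil .nil)) (.node 5 24 (.node 4 24 .nil .nil) (.node 6 30 .nil .nil))) .nil .nil) (.node 26 (.node 3 26 (.node 1 26 (.node 0 26 .nil .nil) (.node 2 31 .nil .nil)) (.node 5 21 (.node 4 26 .nil .nil) (.node 6 26 .nil .nil))) .nil .nil))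 (.node 29 (.node 3 29 (.node 1 24 (.node 0 32 .nil .nil) (.node 2 29 .nil .nil)) (.node 5 29 (.node 4 29 .nil .nil) (.node 6 36 .nil .nil))) (.node 28 (.node 3 34 (.node 1 28 (.node 0 25 .nil .nil) (.node 2 28 .nil .nil)) (.node 5 35 (.node 4 23 .nil .nil) (.node 6 22 .nil .nil))) .nil .nil) (.node 30 (.node 3 25 (.node 1 36 (.node 0 34 .nil .nil) (.node 2 30 .nil .nil)) (.node 5 37 (.node 4 30 .nil .nil) (.node 6 24 .nil .nil))) .nil .nil))))) (.node 47 (.node 3 47 (.node 1 52 (.node 0 47 .nil .nil) (.node 2 41 .nil .nil)) (.node 5 40 (.node 4 54 .nil .nil) (.node 6 47 .nil .nil))) (.node 39 (.node 3 39 (.node 1 34 (.node 0 36 .nil .nil) (.node 2 45 .nil .nil)) (.node 5 46 (.node 4 39 .nil .nil) (.node 6 32 .nil .nil))) (.node 35 (.node 3 41 (.node 1 35 (.node 0 31 .nil .nil) (.node 2 35 .nil .nil)) (.node 5 28 (.node 4 35 .nil .nil) (.node 6 35 .nil .nil))) (.node 33 (.node 3 33 (.node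 1 38 (.node 0 33 .nil .nil) (.node 2 27 .nil .nil)) (.node 5 33 (.node 4 33 .nil .nil) (.node 6 40 .nil .nil))) (.node 32 (.node 3 32 (.node 1 27 (.node 0 29 .nil .nil) (.node 2 38 .nil .nil)) (.node 5 32 (.node 4 32 .nil .nil) (.node 6 39 .nil .nil))) .nil .nil) (.node 34 (.node 3 28 (.node 1 39 (.node 0 30 .nil .nil) (.node 2 40 .nil .nil)) (.node 5 41 (.node 4 34 .nil .nil) (.node 6 27 .nil .nil))) .nil .nil)) (.node 37 (.node 3 31 (.node 1 42 (.node 0 41 .nil .nil) (.node 2 37 .nil .nil)) (.node 5 30 (.node 4 43 .nil .nil) (.node 6 37 .nil .nil))) (.node 36 (.node 3 36 (.node 1 30 (.node 0 39 .nil .nil) (.node 2 36 .nil .nil)) (.node 5 42 (.node 4 36 .nil .nil) (.node 6 29 .nil .nil))) .nil .nil) (.node 38 (.node 3 44 (.node 1 33 (.node 0 38 .nil .nil) (.node 2 32 .nil .nil)) (.node 5 38 (.node 4 38 .nil .nil) (.node 6 45 .nil .nil))) .nil .nil))) (.node 43 (.node 3 43 (.node 1 49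 (.node 0 48 .nil .nil) (.node 2 43 .nil .nil)) (.node 5 43 (.node 4 37 .nil .nil) (.node 6 43 .nil .nil))) (.node 41 (.node 3 35 (.node 1 46 (.node 0 37 .nil .nil) (.node 2 47 .nil .nil)) (.node 5 34 (.node 4 48 .nil .nil) (.node 6 41 .nil .nil))) (.node 40 (.node 3 40 (.node 1 45 (.node 0 40 .nil .nil) (.node 2 34 .nil .nil)) (.node 5 47 (.node 4 40 .nil .nil) (.node 6 33 .nil .nil))) .nil .nil) (.node 42 (.node 3 42 (.node 1 37 (.node 0 46 .nil .nil) (.node 2 42 .nil .nil)) (.node 5 36 (.node 4 49 .nil .nil) (.node 6 42 .nil .nil))) .nil .nil)) (.node 45 (.node 3 51 (.node 1 40 (.node 0 45 .nil .nil) (.node 2 39 .nil .nil)) (.node 5 52 (.node 4 45 .nil .nil) (.node 6 38 .nil .nil))) (.node 44 (.node 3 38 (.node 1 44 (.node 0 44 .nil .nil) (.node 2 44 .nil .nil)) (.node 5 44 (.node 4 50 .nil .nil) (.node 6 51 .nil .nil))) .nil .nil) (.node 46 (.node 3 46 (.node 1 41 (.node 0 42 .nil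 .nil) (.node 2 52 .nil .nil)) (.node 5 39 (.node 4 53 .nil .nil) (.node 6 46 .nil .nil))) .nil .nil)))) (.node 55 (.node 3 49 (.node 1 55 (.node 0 60 .nil .nil) (.node 2 62 .nil .nil)) (.node 5 55 (.node 4 55 .nil .nil) (.node 6 55 .nil .nil))) (.node 51 (.node 3 45 (.node 1 51 (.node 0 51 .nil .nil) (.node 2 51 .nil .nil)) (.node 5 58 (.node 4 57 .nil .nil) (.node 6 44 .nil .nil))) (.node 49 (.node 3 55 (.node 1 43 (.node 0 53 .nil .nil) (.node 2 49 .nil .nil)) (.node 5 49 (.node 4 42 .nil .nil) (.node 6 49 .nil .nil))) (.node 48 (.node 3 48 (.node 1 53 (.node 0 43 .nil .nil) (.node 2 54 .nil .nil)) (.node 5 48 (.node 4 41 .nil .nil) (.node 6 48 .nil .nil))) .nil .nil) (.node 50 (.node 3 50 (.node 1 50 (.node 0 50 .nil .nil) (.node 2 50 .nil .nil)) (.node 5 56 (.node 4 44 .nil .nil) (.node 6 57 .nil .nil))) .nil .nil)) (.node 53 (.node 3 60 (.node 1 48 (.node 0 49 .nil .nil) (.node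 2 59 .nil .nil)) (.node 5 53 (.node 4 46 .nil .nil) (.node 6 53 .nil .nil))) (.node 52 (.node 3 58 (.node 1 47 (.node 0 52 .nil .nil) (.node 2 46 .nil .nil)) (.node 5 45 (.node 4 59 .nil .nil) (.node 6 52 .nil .nil))) .nil .nil) (.node 54 (.node 3 61 (.node 1 59 (.node 0 54 .nil .nil) (.node 2 48 .nil .nil)) (.node 5 54 (.node 4 47 .nil .nil) (.node 6 54 .nil .nil))) .nil .nil))) (.node 59 (.node 3 66 (.node 1 54 (.node 0 59 .nil .nil) (.node 2 53 .nil .nil)) (.node 5 59 (.node 4 52 .nil .nil) (.node 6 59 .nil .nil))) (.node 57 (.node 3 57 (.node 1 57 (.node 0 57 .nil .nil) (.node 2 57 .nil .nil)) (.node 5 64 (.node 4 51 .nil .nil) (.node 6 50 .nil .nil))) (.node 56 (.node 3 56 (.node 1 56 (.node 0 56 .nil .nil) (.node 2 56 .nil .nil)) (.node 5 50 (.node 4 56 .nil .nil) (.node 6 63 .nil .nil))) .nil .nil) (.node 58 (.node 3 52 (.node 1 58 (.node 0 58 .nil .nil) (.node 2 58 .nil .nil))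 (.node 5 51 (.node 4 65 .nil .nil) (.node 6 58 .nil .nil))) .nil .nil)) (.node 61 (.node 3 54 (.node 1 68 (.node 0 61 .nil .nil) (.node 2 61 .nil .nil)) (.node 5 61 (.node 4 61 .nil .nil) (.node 6 61 .nil .nil))) (.node 60 (.node 3 53 (.node 1 60 (.node 0 55 .nil .nil) (.node 2 67 .nil .nil)) (.node 5 60 (.node 4 60 .nil .nil) (.node 6 60 .nil .nil))) .nil .nil) (.node 62 (.node 3 62 (.node 1 62 (.node 0 69 .nil .nil) (.node 2 55 .nil .nil)) (.node 5 62 (.node 4 62 .nil .nil) (.node 6 62 .nil .nil))) .nil .nil)))))) (.node 95 (.node 3 95 (.node 1 99 (.node 0 89 .nil .nil) (.node 2 95 .nil .nil)) (.node 5 95 (.node 4 95 .nil .nil) (.node 6 91 .nil .nil))) (.node 79 (.node 3 79 (.node 1 85 (.node 0 86 .nil .nil) (.node 2 72 .nil .nil)) (.node 5 84 (.node 4 74 .nil .nil) (.node 6 79 .nil .nil))) (.node 71 (.node 3 77 (.node 1 71 (.node 0 71 .nil .nil) (.node 2 71 .nil .nil)) (.node 5 65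 (.node 4 64 .nil .nil) (.node 6 76 .nil .nil))) (.node 67 (.node 3 74 (.node 1 67 (.node 0 75 .nil .nil) (.node 2 60 .nil .nil)) (.node 5 67 (.node 4 67 .nil .nil) (.node 6 67 .nil .nil))) (.node 65 (.node 3 72 (.node 1 65 (.node 0 65 .nil .nil) (.node 2 65 .nil .nil)) (.node 5 71 (.node 4 58 .nil .nil) (.node 6 65 .nil .nil))) (.node 64 (.node 3 64 (.node 1 64 (.node 0 64 .nil .nil) (.node 2 64 .nil .nil)) (.node 5 57 (.node 4 71 .nil .nil) (.node 6 70 .nil .nil))) .nil .nil) (.node 66 (.node 3 59 (.node 1 73 (.node 0 66 .nil .nil) (.node 2 74 .nil .nil)) (.node 5 66 (.node 4 72 .nil .nil) (.node 6 66 .nil .nil))) .nil .nil)) (.node 69 (.node 3 69 (.node 1 69 (.node 0 62 .nil .nil) (.node 2 75 .nil .nil)) (.node 5 69 (.node 4 69 .nil .nil) (.node 6 69 .nil .nil))) (.node 68 (.node 3 73 (.node 1 61 (.node 0 68 .nil .nil) (.node 2 68 .nil .nil)) (.node 5 68 (.node 4 68 .nil .nil) (.node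 6 68 .nil .nil))) .nil .nil) (.node 70 (.node 3 70 (.node 1 70 (.node 0 70 .nil .nil) (.node 2 70 .nil .nil)) (.node 5 63 (.node 4 76 .nil .nil) (.node 6 64 .nil .nil))) .nil .nil))) (.node 75 (.node 3 81 (.node 1 75 (.node 0 67 .nil .nil) (.node 2 69 .nil .nil)) (.node 5 75 (.node 4 75 .nil .nil) (.node 6 75 .nil .nil))) (.node 73 (.node 3 68 (.node 1 66 (.node 0 73 .nil .nil) (.node 2 80 .nil .nil)) (.node 5 73 (.node 4 78 .nil .nil) (.node 6 73 .nil .nil))) (.node 72 (.node 3 65 (.node 1 78 (.node 0 72 .nil .nil) (.node 2 79 .nil .nil)) (.node 5 77 (.node 4 66 .nil .nil) (.node 6 72 .nil .nil))) .nil .nil) (.node 74 (.node 3 67 (.node 1 80 (.node 0 81 .nil .nil) (.node 2 66 .nil .nil)) (.node 5 74 (.node 4 79 .nil .nil) (.node 6 74 .nil .nil))) .nil .nil)) (.node 77 (.node 3 71 (.node 1 83 (.node 0 77 .nil .nil) (.node 2 84 .nil .nil)) (.node 5 72 (.node 4 77 .nil .nil) (.node 6 82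 .nil .nil))) (.node 76 (.node 3 82 (.node 1 76 (.node 0 76 .nil .nil) (.node 2 76 .nil .nil)) (.node 5 76 (.node 4 70 .nil .nil) (.node 6 71 .nil .nil))) .nil .nil) (.node 78 (.node 3 78 (.node 1 72 (.node 0 78 .nil .nil) (.node 2 85 .nil .nil)) (.node 5 83 (.node 4 73 .nil .nil) (.node 6 78 .nil .nil))) .nil .nil)))) (.node 87 (.node 3 87 (.node 1 81 (.node 0 80 .nil .nil) (.node 2 87 .nil .nil)) (.node 5 87 (.node 4 92 .nil .nil) (.node 6 87 .nil .nil))) (.node 83 (.node 3 83 (.node 1 77 (.node 0 83 .nil .nil) (.node 2 90 .nil .nil)) (.node 5 78 (.node 4 83 .nil .nil) (.node 6 88 .nil .nil))) (.node 81 (.node 3 75 (.node 1 87 (.node 0 74 .nil .nil) (.node 2 81 .nil .nil)) (.node 5 81 (.node 4 86 .nil .nil) (.node 6 81 .nil .nil))) (.node 80 (.node 3 80 (.node 1 74 (.node 0 87 .nil .nil) (.node 2 73 .nil .nil)) (.node 5 80 (.node 4 85 .nil .nil) (.node 6 80 .nil .nil))) .nil .nil) (.node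 82 (.node 3 76 (.node 1 88 (.node 0 82 .nil .nil) (.node 2 89 .nil .nil)) (.node 5 82 (.node 4 82 .nil .nil) (.node 6 77 .nil .nil))) .nil .nil)) (.node 85 (.node 3 93 (.node 1 79 (.node 0 92 .nil .nil) (.node 2 78 .nil .nil)) (.node 5 90 (.node 4 80 .nil .nil) (.node 6 85 .nil .nil))) (.node 84 (.node 3 84 (.node 1 90 (.node 0 91 .nil .nil) (.node 2 77 .nil .nil)) (.node 5 79 (.node 4 84 .nil .nil) (.node 6 89 .nil .nil))) .nil .nil) (.node 86 (.node 3 86 (.node 1 92 (.node 0 79 .nil .nil) (.node 2 86 .nil .nil)) (.node 5 91 (.node 4 81 .nil .nil) (.node 6 86 .nil .nil))) .nil .nil))) (.node 91 (.node 3 91 (.node 1 96 (.node 0 84 .nil .nil) (.node 2 91 .nil .nil)) (.node 5 86 (.node 4 91 .nil .nil) (.node 6 95 .nil .nil))) (.node 89 (.node 3 89 (.node 1 94 (.node 0 95 .nil .nil) (.node 2 82 .nil .nil)) (.node 5 89 (.node 4 89 .nil .nil) (.node 6 84 .nil .nil))) (.node 88 (.node 3 88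 (.node 1 82 (.node 0 88 .nil .nil) (.node 2 94 .nil .nil)) (.node 5 88 (.node 4 88 .nil .nil) (.node 6 83 .nil .nil))) .nil .nil) (.node 90 (.node 3 97 (.node 1 84 (.node 0 96 .nil .nil) (.node 2 83 .nil .nil)) (.node 5 85 (.node 4 90 .nil .nil) (.node 6 94 .nil .nil))) .nil .nil)) (.node 93 (.node 3 85 (.node 1 93 (.node 0 98 .nil .nil) (.node 2 93 .nil .nil)) (.node 5 97 (.node 4 93 .nil .nil) (.node 6 93 .nil .nil))) (.node 92 (.node 3 98 (.node 1 86 (.node 0 85 .nil .nil) (.node 2 92 .nil .nil)) (.node 5 96 (.node 4 87 .nil .nil) (.node 6 92 .nil .nil))) .nil .nil) (.node 94 (.node 3 100 (.node 1 89 (.node 0 99 .nil .nil) (.node 2 88 .nil .nil)) (.node 5 94 (.node 4 94 .nil .nil) (.node 6 90 .nil .nil))) .nil .nil))))) (.node 111 (.node 3 114 (.node 1 111 (.node 0 111 .nil .nil) (.node 2 107 .nil .nil)) (.node 5 111 (.node 4 106 .nil .nil) (.node 6 112 .nil .nil))) (.node 103 (.node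 3 103 (.node 1 103 (.node 0 103 .nil .nil) (.node 2 98 .nil .nil)) (.node 5 106 (.node 4 103 .nil .nil) (.node 6 103 .nil .nil))) (.node 99 (.node 3 104 (.node 1 95 (.node 0 94 .nil .nil) (.node 2 99 .nil .nil)) (.node 5 99 (.node 4 99 .nil .nil) (.node 6 96 .nil .nil))) (.node 97 (.node 3 90 (.node 1 97 (.node 0 101 .nil .nil) (.node 2 97 .nil .nil)) (.node 5 93 (.node 4 102 .nil .nil) (.node 6 100 .nil .nil))) (.node 96 (.node 3 101 (.node 1 91 (.node 0 90 .nil .nil) (.node 2 96 .nil .nil)) (.node 5 92 (.node 4 96 .nil .nil) (.node 6 99 .nil .nil))) .nil .nil) (.node 98 (.node 3 92 (.node 1 98 (.node 0 93 .nil .nil) (.node 2 103 .nil .nil)) (.node 5 101 (.node 4 98 .nil .nil) (.node 6 98 .nil .nil))) .nil .nil)) (.node 101 (.node 3 96 (.node 1 101 (.node 0 97 .nil .nil) (.node 2 106 .nil .nil)) (.node 5 98 (.node 4 107 .nil .nil) (.node 6 104 .nil .nil))) (.node 100 (.node 3 94 (.node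 1 100 (.node 0 104 .nil .nil) (.node 2 100 .nil .nil)) (.node 5 100 (.node 4 105 .nil .nil) (.node 6 97 .nil .nil))) .nil .nil) (.node 102 (.node 3 102 (.node 1 102 (.node 0 107 .nil .nil) (.node 2 102 .nil .nil)) (.node 5 102 (.node 4 97 .nil .nil) (.node 6 105 .nil .nil))) .nil .nil))) (.node 107 (.node 3 107 (.node 1 107 (.node 0 102 .nil .nil) (.node 2 111 .nil .nil)) (.node 5 107 (.node 4 101 .nil .nil) (.node 6 109 .nil .nil))) (.node 105 (.node 3 105 (.node 1 105 (.node 0 109 .nil .nil) (.node 2 105 .nil .nil)) (.node 5 110 (.node 4 100 .nil .nil) (.node 6 102 .nil .nil))) (.node 104 (.node 3 99 (.node 1 104 (.node 0 100 .nil .nil) (.node 2 108 .nil .nil)) (.node 5 104 (.node 4 109 .nil .nil) (.node 6 101 .nil .nil))) .nil .nil) (.node 106 (.node 3 106 (.node 1 106 (.node 0 106 .nil .nil) (.node 2 101 .nil .nil)) (.node 5 103 (.node 4 111 .nil .nil) (.node 6 108 .nil .nil))) .nil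 .nil)) (.node 109 (.node 3 109 (.node 1 109 (.node 0 105 .nil .nil) (.node 2 112 .nil .nil)) (.node 5 113 (.node 4 104 .nil .nil) (.node 6 107 .nil .nil))) (.node 108 (.node 3 108 (.node 1 108 (.node 0 108 .nil .nil) (.node 2 104 .nil .nil)) (.node 5 108 (.node 4 112 .nil .nil) (.node 6 106 .nil .nil))) .nil .nil) (.node 110 (.node 3 110 (.node 1 110 (.node 0 113 .nil .nil) (.node 2 110 .nil .nil)) (.node 5 105 (.node 4 110 .nil .nil) (.node 6 110 .nil .nil))) .nil .nil)))) (.node 119 (.node 3 116 (.node 1 120 (.node 0 119 .nil .nil) (.node 2 119 .nil .nil)) (.node 5 115 (.node 4 121 .nil .nil) (.node 6 119 .nil .nil))) (.node 115 (.node 3 112 (.node 1 118 (.node 0 115 .nil .nil) (.node 2 115 .nil .nil)) (.node 5 119 (.node 4 115 .nil .nil) (.node 6 114 .nil .nil))) (.node 113 (.node 3 113 (.node 1 113 (.node 0 110 .nil .nil) (.node 2 116 .nil .nil)) (.node 5 109 (.node 4 113 .nil .nil)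 (.node 6 113 .nil .nil))) (.node 112 (.node 3 115 (.node 1 112 (.node 0 112 .nil .nil) (.node 2 109 .nil .nil)) (.node 5 116 (.node 4 108 .nil .nil) (.node 6 111 .nil .nil))) .nil .nil) (.node 114 (.node 3 111 (.node 1 117 (.node 0 114 .nil .nil) (.node 2 114 .nil .nil)) (.node 5 114 (.node 4 114 .nil .nil) (.node 6 115 .nil .nil))) .nil .nil)) (.node 117 (.node 3 117 (.node 1 114 (.node 0 117 .nil .nil) (.node 2 117 .nil .nil)) (.node 5 117 (.node 4 117 .nil .nil) (.node 6 118 .nil .nil))) (.node 116 (.node 3 119 (.node 1 116 (.node 0 116 .nil .nil) (.node 2 113 .nil .nil)) (.node 5 112 (.node 4 116 .nil .nil) (.node 6 116 .nil .nil))) .nil .nil) (.node 118 (.node 3 118 (.node 1 115 (.node 0 118 .nil .nil) (.node 2 118 .nil .nil)) (.node 5 120 (.node 4 118 .nil .nil) (.node 6 117 .nil .nil))) .nil .nil))) (.node 123 (.node 3 122 (.node 1 123 (.node 0 123 .nil .nil) (.node 2 124 .nil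 .nil)) (.node 5 123 (.node 4 123 .nil .nil) (.node 6 123 .nil .nil))) (.node 121 (.node 3 121 (.node 1 122 (.node 0 121 .nil .nil) (.node 2 121 .nil .nil)) (.node 5 121 (.node 4 119 .nil .nil) (.node 6 121 .nil .nil))) (.node 120 (.node 3 120 (.node 1 119 (.node 0 120 .nil .nil) (.node 2 120 .nil .nil)) (.node 5 118 (.node 4 122 .nil .nil) (.node 6 120 .nil .nil))) .nil .nil) (.node 122 (.node 3 123 (.node 1 121 (.node 0 122 .nil .nil) (.node 2 122 .nil .nil)) (.node 5 122 (.node 4 120 .nil .nil) (.node 6 122 .nil .nil))) .nil .nil)) (.node 125 (.node 3 125 (.node 1 125 (.node 0 124 .nil .nil) (.node 2 125 .nil .nil)) (.node 5 125 (.node 4 125 .nil .nil) (.node 6 125 .nil .nil))) (.node 124 (.node 3 124 (.node 1 124 (.node 0 125 .nil .nil) (.node 2 123 .nil .nil)) (.node 5 124 (.node 4 124 .nil .nil) (.node 6 124 .nil .nil))) .nil .nil) .nil))))))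
  cT := (.node 63 (.node 3 (576, 8) (.node 1 (574, 8) (.node 0 (573, 8) .nil .nil) (.node 2 (575, 8) .nil .nil)) (.node 5 (70, 0) (.node 4 (577, 8) .nil .nil) (.node 6 (227, 8) .nil .nil))) (.node 31 (.node 3 (424, 7) (.node 1 (422, 7) (.node 0 (421, 7) .nil .nil) (.node 2 (423, 3) .nil .nil)) (.node 5 (187, 7) (.node 4 (425, 4) .nil .nil) (.node 6 (426, 4) .nil .nil))) (.node 15 (.node 3 (352, 4) (.node 1 (351, 4) (.node 0 (350, 2) .nil .nil) (.node 2 (165, 7) .nil .nil)) (.node 5 (166, 7) (.node 4 (19, 0) .nil .nil) (.node 6 (20, 0) .nil .nil))) (.node 7 (.node 3 (318, 7) (.node 1 (316, 7) (.node 0 (315, 7) .nil .nil) (.node 2 (317, 7) .nil .nil)) (.node 5 (153, 7) (.node 4 (319, 7) .nil .nil) (.node 6 (10, 0) .nil .nil))) (.node 3 (.node 3 (142, 5) (.node 1 (4, 0) (.node 0 (304, 5) .nil .nil) (.node 2 (305, 5) .nil .nil)) (.node 5 (143, 5) (.node 4 (5, 0) .nil .nil) (.node 6 (144,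 5) .nil .nil))) (.node 1 (.node 3 (134, 2) (.node 1 (133, 2) (.node 0 (132, 2) .nil .nil) (.node 2 (2, 0) .nil .nil)) (.node 5 (136, 2) (.node 4 (135, 2) .nil .nil) (.node 6 (137, 2) .nil .nil))) (.node 0 (.node 3 (128, 1) (.node 1 (126, 1) (.node 0 (1, 0) .nil .nil) (.node 2 (127, 1) .nil .nil)) (.node 5 (130, 1) (.node 4 (129, 1) .nil .nil) (.node 6 (131, 1) .nil .nil))) .nil .nil) (.node 2 (.node 3 (3, 0) (.node 1 (303, 4) (.node 0 (302, 4) .nil .nil) (.node 2 (138, 4) .nil .nil)) (.node 5 (140, 4) (.node 4 (139, 4) .nil .nil) (.node 6 (141, 4) .nil .nil))) .nil .nil)) (.node 5 (.node 3 (312, 6) (.node 1 (310, 3) (.node 0 (309, 6) .nil .nil) (.node 2 (311, 6) .nil .nil)) (.node 5 (7, 0) (.node 4 (148, 6) .nil .nil) (.node 6 (149, 6) .nil .nil))) (.node 4 (.node 3 (308, 3) (.node 1 (145, 3) (.node 0 (306, 3) .nil .nil) (.node 2 (307, 3) .nil .nil)) (.node 5 (146, 3) (.node 4 (6, 0)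 .nil .nil) (.node 6 (147, 3) .nil .nil))) .nil .nil) (.node 6 (.node 3 (8, 0) (.node 1 (150, 6) (.node 0 (313, 3) .nil .nil) (.node 2 (314, 3) .nil .nil)) (.node 5 (9, 0) (.node 4 (151, 6) .nil .nil) (.node 6 (152, 6) .nil .nil))) .nil .nil))) (.node 11 (.node 3 (335, 4) (.node 1 (334, 4) (.node 0 (14, 0) .nil .nil) (.node 2 (158, 4) .nil .nil)) (.node 5 (15, 0) (.node 4 (336, 4) .nil .nil) (.node 6 (159, 4) .nil .nil))) (.node 9 (.node 3 (326, 5) (.node 1 (324, 2) (.node 0 (323, 7) .nil .nil) (.node 2 (325, 3) .nil .nil)) (.node 5 (156, 7) (.node 4 (327, 3) .nil .nil) (.node 6 (13, 0) .nil .nil))) (.node 8 (.node 3 (154, 5) (.node 1 (321, 5) (.node 0 (320, 5) .nil .nil) (.node 2 (11, 0) .nil .nil)) (.node 5 (12, 0) (.node 4 (322, 5) .nil .nil) (.node 6 (155, 5) .nil .nil))) .nil .nil) (.node 10 (.node 3 (331, 8) (.node 1 (329, 8) (.node 0 (328, 8) .nil .nil) (.node 2 (330, 8) .nil .nil))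 (.node 5 (333, 8) (.node 4 (332, 8) .nil .nil) (.node 6 (157, 8) .nil .nil))) .nil .nil)) (.node 13 (.node 3 (343, 8) (.node 1 (341, 2) (.node 0 (340, 8) .nil .nil) (.node 2 (342, 3) .nil .nil)) (.node 5 (345, 3) (.node 4 (344, 3) .nil .nil) (.node 6 (162, 8) .nil .nil))) (.node 12 (.node 3 (160, 7) (.node 1 (338, 5) (.node 0 (337, 5) .nil .nil) (.node 2 (339, 4) .nil .nil)) (.node 5 (161, 7) (.node 4 (16, 0) .nil .nil) (.node 6 (17, 0) .nil .nil))) .nil .nil) (.node 14 (.node 3 (348, 2) (.node 1 (346, 2) (.node 0 (163, 2) .nil .nil) (.node 2 (347, 2) .nil .nil)) (.node 5 (18, 0) (.node 4 (349, 2) .nil .nil) (.node 6 (164, 2) .nil .nil))) .nil .nil)))) (.node 23 (.node 3 (388, 2) (.node 1 (386, 2) (.node 0 (385, 2) .nil .nil) (.node 2 (387, 2) .nil .nil)) (.node 5 (390, 2) (.node 4 (389, 6) .nil .nil) (.node 6 (176, 8) .nil .nil))) (.node 19 (.node 3 (24, 0) (.node 1 (368, 6) (.node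 0 (367, 6) .nil .nil) (.node 2 (369, 3) .nil .nil)) (.node 5 (370, 4) (.node 4 (171, 6) .nil .nil) (.node 6 (25, 0) .nil .nil))) (.node 17 (.node 3 (361, 2) (.node 1 (359, 8) (.node 0 (358, 8) .nil .nil) (.node 2 (360, 8) .nil .nil)) (.node 5 (363, 5) (.node 4 (362, 6) .nil .nil) (.node 6 (168, 8) .nil .nil))) (.node 16 (.node 3 (356, 6) (.node 1 (354, 6) (.node 0 (353, 6) .nil .nil) (.node 2 (355, 6) .nil .nil)) (.node 5 (357, 6) (.node 4 (167, 6) .nil .nil) (.node 6 (21, 0) .nil .nil))) .nil .nil) (.node 18 (.node 3 (366, 2) (.node 1 (364, 2) (.node 0 (169, 7) .nil .nil) (.node 2 (365, 2) .nil .nil)) (.node 5 (170, 7) (.node 4 (22, 0) .nil .nil) (.node 6 (23, 0) .nil .nil))) .nil .nil)) (.node 21 (.node 3 (380, 6) (.node 1 (378, 6) (.node 0 (377, 6) .nil .nil) (.node 2 (379, 6) .nil .nil)) (.node 5 (26, 0) (.node 4 (173, 8) .nil .nil) (.node 6 (174, 8) .nil .nil))) (.node 20 (.node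 3 (374, 4) (.node 1 (372, 8) (.node 0 (371, 8) .nil .nil) (.node 2 (373, 3) .nil .nil)) (.node 5 (376, 4) (.node 4 (375, 6) .nil .nil) (.node 6 (172, 8) .nil .nil))) .nil .nil) (.node 22 (.node 3 (27, 0) (.node 1 (382, 2) (.node 0 (381, 2) .nil .nil) (.node 2 (383, 2) .nil .nil)) (.node 5 (384, 2) (.node 4 (175, 6) .nil .nil) (.node 6 (28, 0) .nil .nil))) .nil .nil))) (.node 27 (.node 3 (181, 5) (.node 1 (32, 0) (.node 0 (405, 2) .nil .nil) (.node 2 (33, 0) .nil .nil)) (.node 5 (407, 2) (.node 4 (406, 2) .nil .nil) (.node 6 (34, 0) .nil .nil))) (.node 25 (.node 3 (398, 5) (.node 1 (396, 6) (.node 0 (395, 6) .nil .nil) (.node 2 (397, 3) .nil .nil)) (.node 5 (31, 0) (.node 4 (178, 8) .nil .nil) (.node 6 (179, 8) .nil .nil))) (.node 24 (.node 3 (177, 5) (.node 1 (29, 0) (.node 0 (391, 5) .nil .nil) (.node 2 (392, 5) .nil .nil)) (.node 5 (394, 5) (.node 4 (393, 5) .nil .nil) (.node 6 (30,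 0) .nil .nil))) .nil .nil) (.node 26 (.node 3 (402, 7) (.node 1 (400, 7) (.node 0 (399, 7) .nil .nil) (.node 2 (401, 7) .nil .nil)) (.node 5 (180, 7) (.node 4 (403, 7) .nil .nil) (.node 6 (404, 7) .nil .nil))) .nil .nil)) (.node 29 (.node 3 (414, 3) (.node 1 (184, 3) (.node 0 (412, 3) .nil .nil) (.node 2 (413, 3) .nil .nil)) (.node 5 (416, 3) (.node 4 (415, 3) .nil .nil) (.node 6 (36, 0) .nil .nil))) (.node 28 (.node 3 (411, 5) (.node 1 (409, 2) (.node 0 (408, 2) .nil .nil) (.node 2 (410, 2) .nil .nil)) (.node 5 (35, 0) (.node 4 (182, 8) .nil .nil) (.node 6 (183, 8) .nil .nil))) .nil .nil) (.node 30 (.node 3 (185, 8) (.node 1 (418, 3) (.node 0 (417, 5) .nil .nil) (.node 2 (419, 5) .nil .nil)) (.node 5 (37, 0) (.node 4 (420, 5) .nil .nil) (.node 6 (186, 8) .nil .nil))) .nil .nil))))) (.node 47 (.node 3 (498, 4) (.node 1 (496, 7) (.node 0 (495, 7) .nil .nil) (.node 2 (497, 2) .nil .nil))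 (.node 5 (209, 7) (.node 4 (54, 0) .nil .nil) (.node 6 (499, 4) .nil .nil))) (.node 39 (.node 3 (460, 2) (.node 1 (198, 8) (.node 0 (458, 2) .nil .nil) (.node 2 (459, 4) .nil .nil)) (.node 5 (46, 0) (.node 4 (461, 2) .nil .nil) (.node 6 (199, 8) .nil .nil))) (.node 35 (.node 3 (443, 7) (.node 1 (441, 2) (.node 0 (440, 2) .nil .nil) (.node 2 (442, 2) .nil .nil)) (.node 5 (192, 7) (.node 4 (444, 2) .nil .nil) (.node 6 (445, 2) .nil .nil))) (.node 33 (.node 3 (433, 4) (.node 1 (432, 3) (.node 0 (431, 4) .nil .nil) (.node 2 (189, 4) .nil .nil)) (.node 5 (435, 4) (.node 4 (434, 4) .nil .nil) (.node 6 (40, 0) .nil .nil))) (.node 32 (.node 3 (428, 2) (.node 1 (188, 3) (.node 0 (427, 2) .nil .nil) (.node 2 (38, 0) .nil .nil)) (.node 5 (430, 2) (.node 4 (429, 2) .nil .nil) (.node 6 (39, 0) .nil .nil))) .nil .nil) (.node 34 (.node 3 (190, 8) (.node 1 (437, 3) (.node 0 (436, 2) .nil .nil) (.node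 2 (438, 4) .nil .nil)) (.node 5 (41, 0) (.node 4 (439, 2) .nil .nil) (.node 6 (191, 8) .nil .nil))) .nil .nil)) (.node 37 (.node 3 (453, 4) (.node 1 (451, 7) (.node 0 (450, 7) .nil .nil) (.node 2 (452, 7) .nil .nil)) (.node 5 (195, 7) (.node 4 (43, 0) .nil .nil) (.node 6 (454, 5) .nil .nil))) (.node 36 (.node 3 (448, 3) (.node 1 (193, 8) (.node 0 (446, 3) .nil .nil) (.node 2 (447, 3) .nil .nil)) (.node 5 (42, 0) (.node 4 (449, 3) .nil .nil) (.node 6 (194, 8) .nil .nil))) .nil .nil) (.node 38 (.node 3 (44, 0) (.node 1 (196, 4) (.node 0 (455, 3) .nil .nil) (.node 2 (197, 4) .nil .nil)) (.node 5 (457, 3) (.node 4 (456, 3) .nil .nil) (.node 6 (45, 0) .nil .nil))) .nil .nil))) (.node 43 (.node 3 (479, 6) (.node 1 (477, 6) (.node 0 (476, 6) .nil .nil) (.node 2 (478, 6) .nil .nil)) (.node 5 (480, 6) (.node 4 (204, 6) .nil .nil) (.node 6 (481, 6) .nil .nil))) (.node 41 (.node 3 (469, 2) (.node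 1 (467, 7) (.node 0 (466, 2) .nil .nil) (.node 2 (468, 7) .nil .nil)) (.node 5 (202, 7) (.node 4 (48, 0) .nil .nil) (.node 6 (470, 2) .nil .nil))) (.node 40 (.node 3 (464, 4) (.node 1 (463, 4) (.node 0 (462, 4) .nil .nil) (.node 2 (200, 8) .nil .nil)) (.node 5 (47, 0) (.node 4 (465, 4) .nil .nil) (.node 6 (201, 8) .nil .nil))) .nil .nil) (.node 42 (.node 3 (474, 3) (.node 1 (472, 3) (.node 0 (471, 7) .nil .nil) (.node 2 (473, 3) .nil .nil)) (.node 5 (203, 7) (.node 4 (49, 0) .nil .nil) (.node 6 (475, 3) .nil .nil))) .nil .nil)) (.node 45 (.node 3 (488, 5) (.node 1 (487, 2) (.node 0 (486, 4) .nil .nil) (.node 2 (206, 8) .nil .nil)) (.node 5 (52, 0) (.node 4 (489, 3) .nil .nil) (.node 6 (207, 8) .nil .nil))) (.node 44 (.node 3 (205, 5) (.node 1 (483, 5) (.node 0 (482, 5) .nil .nil) (.node 2 (484, 5) .nil .nil)) (.node 5 (485, 5) (.node 4 (50, 0) .nil .nil) (.node 6 (51, 0) .nil .nil)))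 .nil .nil) (.node 46 (.node 3 (493, 2) (.node 1 (491, 2) (.node 0 (490, 2) .nil .nil) (.node 2 (492, 7) .nil .nil)) (.node 5 (208, 7) (.node 4 (53, 0) .nil .nil) (.node 6 (494, 2) .nil .nil))) .nil .nil)))) (.node 55 (.node 3 (218, 5) (.node 1 (535, 5) (.node 0 (534, 5) .nil .nil) (.node 2 (62, 0) .nil .nil)) (.node 5 (537, 5) (.node 4 (536, 5) .nil .nil) (.node 6 (538, 5) .nil .nil))) (.node 51 (.node 3 (213, 8) (.node 1 (516, 5) (.node 0 (515, 5) .nil .nil) (.node 2 (517, 5) .nil .nil)) (.node 5 (58, 0) (.node 4 (518, 6) .nil .nil) (.node 6 (214, 8) .nil .nil))) (.node 49 (.node 3 (55, 0) (.node 1 (507, 3) (.node 0 (506, 6) .nil .nil) (.node 2 (508, 3) .nil .nil)) (.node 5 (509, 3) (.node 4 (211, 6) .nil .nil) (.node 6 (510, 3) .nil .nil))) (.node 48 (.node 3 (503, 2) (.node 1 (501, 6) (.node 0 (500, 2) .nil .nil) (.node 2 (502, 6) .nil .nil)) (.node 5 (504, 2) (.node 4 (210, 6) .nil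 .nil) (.node 6 (505, 2) .nil .nil))) .nil .nil) (.node 50 (.node 3 (514, 6) (.node 1 (512, 6) (.node 0 (511, 6) .nil .nil) (.node 2 (513, 6) .nil .nil)) (.node 5 (56, 0) (.node 4 (212, 6) .nil .nil) (.node 6 (57, 0) .nil .nil))) .nil .nil)) (.node 53 (.node 3 (60, 0) (.node 1 (525, 2) (.node 0 (524, 2) .nil .nil) (.node 2 (526, 6) .nil .nil)) (.node 5 (527, 2) (.node 4 (216, 6) .nil .nil) (.node 6 (528, 2) .nil .nil))) (.node 52 (.node 3 (522, 7) (.node 1 (520, 2) (.node 0 (519, 7) .nil .nil) (.node 2 (521, 2) .nil .nil)) (.node 5 (215, 7) (.node 4 (59, 0) .nil .nil) (.node 6 (523, 3) .nil .nil))) .nil .nil) (.node 54 (.node 3 (61, 0) (.node 1 (530, 6) (.node 0 (529, 6) .nil .nil) (.node 2 (531, 2) .nil .nil)) (.node 5 (532, 4) (.node 4 (217, 6) .nil .nil) (.node 6 (533, 4) .nil .nil))) .nil .nil))) (.node 59 (.node 3 (66, 0) (.node 1 (554, 2) (.node 0 (553, 6) .nil .nil) (.node 2 (555,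 2) .nil .nil)) (.node 5 (556, 3) (.node 4 (223, 6) .nil .nil) (.node 6 (557, 3) .nil .nil))) (.node 57 (.node 3 (547, 6) (.node 1 (545, 6) (.node 0 (544, 6) .nil .nil) (.node 2 (546, 6) .nil .nil)) (.node 5 (64, 0) (.node 4 (220, 8) .nil .nil) (.node 6 (221, 8) .nil .nil))) (.node 56 (.node 3 (542, 7) (.node 1 (540, 7) (.node 0 (539, 7) .nil .nil) (.node 2 (541, 7) .nil .nil)) (.node 5 (219, 7) (.node 4 (543, 7) .nil .nil) (.node 6 (63, 0) .nil .nil))) .nil .nil) (.node 58 (.node 3 (551, 2) (.node 1 (549, 7) (.node 0 (548, 7) .nil .nil) (.node 2 (550, 7) .nil .nil)) (.node 5 (222, 7) (.node 4 (65, 0) .nil .nil) (.node 6 (552, 5) .nil .nil))) .nil .nil)) (.node 61 (.node 3 (225, 5) (.node 1 (68, 0) (.node 0 (563, 5) .nil .nil) (.node 2 (564, 5) .nil .nil)) (.node 5 (566, 5) (.node 4 (565, 5) .nil .nil) (.node 6 (567, 5) .nil .nil))) (.node 60 (.node 3 (224, 5) (.node 1 (559, 2) (.node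 0 (558, 2) .nil .nil) (.node 2 (67, 0) .nil .nil)) (.node 5 (561, 2) (.node 4 (560, 2) .nil .nil) (.node 6 (562, 2) .nil .nil))) .nil .nil) (.node 62 (.node 3 (569, 4) (.node 1 (568, 4) (.node 0 (69, 0) .nil .nil) (.node 2 (226, 4) .nil .nil)) (.node 5 (571, 4) (.node 4 (570, 4) .nil .nil) (.node 6 (572, 4) .nil .nil))) .nil .nil)))))) (.node 95 (.node 3 (731, 2) (.node 1 (729, 2) (.node 0 (264, 2) .nil .nil) (.node 2 (730, 2) .nil .nil)) (.node 5 (733, 2) (.node 4 (732, 2) .nil .nil) (.node 6 (734, 2) .nil .nil))) (.node 79 (.node 3 (653, 4) (.node 1 (652, 3) (.node 0 (86, 0) .nil .nil) (.node 2 (244, 4) .nil .nil)) (.node 5 (655, 4) (.node 4 (654, 4) .nil .nil) (.node 6 (656, 4) .nil .nil))) (.node 71 (.node 3 (77, 0) (.node 1 (614, 6) (.node 0 (613, 6) .nil .nil) (.node 2 (615, 6) .nil .nil)) (.node 5 (616, 2) (.node 4 (236, 6) .nil .nil) (.node 6 (617, 6) .nil .nil))) (.node 67 (.node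 3 (593, 4) (.node 1 (592, 4) (.node 0 (75, 0) .nil .nil) (.node 2 (231, 4) .nil .nil)) (.node 5 (595, 4) (.node 4 (594, 4) .nil .nil) (.node 6 (596, 4) .nil .nil))) (.node 65 (.node 3 (72, 0) (.node 1 (584, 6) (.node 0 (583, 6) .nil .nil) (.node 2 (585, 6) .nil .nil)) (.node 5 (586, 6) (.node 4 (229, 6) .nil .nil) (.node 6 (587, 6) .nil .nil))) (.node 64 (.node 3 (581, 7) (.node 1 (579, 7) (.node 0 (578, 7) .nil .nil) (.node 2 (580, 7) .nil .nil)) (.node 5 (228, 7) (.node 4 (71, 0) .nil .nil) (.node 6 (582, 7) .nil .nil))) .nil .nil) (.node 66 (.node 3 (230, 5) (.node 1 (73, 0) (.node 0 (588, 5) .nil .nil) (.node 2 (74, 0) .nil .nil)) (.node 5 (590, 5) (.node 4 (589, 5) .nil .nil) (.node 6 (591, 5) .nil .nil))) .nil .nil)) (.node 69 (.node 3 (605, 2) (.node 1 (603, 2) (.node 0 (233, 2) .nil .nil) (.node 2 (604, 2) .nil .nil)) (.node 5 (607, 2) (.node 4 (606, 2) .nil .nil) (.node 6 (608,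 2) .nil .nil))) (.node 68 (.node 3 (599, 3) (.node 1 (232, 3) (.node 0 (597, 3) .nil .nil) (.node 2 (598, 3) .nil .nil)) (.node 5 (601, 3) (.node 4 (600, 3) .nil .nil) (.node 6 (602, 3) .nil .nil))) .nil .nil) (.node 70 (.node 3 (612, 7) (.node 1 (610, 7) (.node 0 (609, 7) .nil .nil) (.node 2 (611, 7) .nil .nil)) (.node 5 (234, 7) (.node 4 (76, 0) .nil .nil) (.node 6 (235, 7) .nil .nil))) .nil .nil))) (.node 75 (.node 3 (634, 2) (.node 1 (632, 2) (.node 0 (240, 2) .nil .nil) (.node 2 (633, 2) .nil .nil)) (.node 5 (636, 2) (.node 4 (635, 2) .nil .nil) (.node 6 (637, 2) .nil .nil))) (.node 73 (.node 3 (623, 2) (.node 1 (238, 3) (.node 0 (622, 3) .nil .nil) (.node 2 (80, 0) .nil .nil)) (.node 5 (625, 3) (.node 4 (624, 3) .nil .nil) (.node 6 (626, 3) .nil .nil))) (.node 72 (.node 3 (237, 5) (.node 1 (78, 0) (.node 0 (618, 5) .nil .nil) (.node 2 (79, 0) .nil .nil)) (.node 5 (620, 5) (.node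 4 (619, 2) .nil .nil) (.node 6 (621, 5) .nil .nil))) .nil .nil) (.node 74 (.node 3 (628, 4) (.node 1 (627, 3) (.node 0 (81, 0) .nil .nil) (.node 2 (239, 4) .nil .nil)) (.node 5 (630, 4) (.node 4 (629, 4) .nil .nil) (.node 6 (631, 4) .nil .nil))) .nil .nil)) (.node 77 (.node 3 (242, 5) (.node 1 (83, 0) (.node 0 (643, 5) .nil .nil) (.node 2 (84, 0) .nil .nil)) (.node 5 (645, 2) (.node 4 (644, 5) .nil .nil) (.node 6 (646, 5) .nil .nil))) (.node 76 (.node 3 (82, 0) (.node 1 (639, 6) (.node 0 (638, 6) .nil .nil) (.node 2 (640, 6) .nil .nil)) (.node 5 (641, 6) (.node 4 (241, 6) .nil .nil) (.node 6 (642, 2) .nil .nil))) .nil .nil) (.node 78 (.node 3 (648, 3) (.node 1 (243, 3) (.node 0 (647, 3) .nil .nil) (.node 2 (85, 0) .nil .nil)) (.node 5 (650, 3) (.node 4 (649, 2) .nil .nil) (.node 6 (651, 3) .nil .nil))) .nil .nil)))) (.node 87 (.node 3 (692, 2) (.node 1 (690, 2) (.node 0 (254, 2) .nil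 .nil) (.node 2 (691, 2) .nil .nil)) (.node 5 (694, 2) (.node 4 (693, 2) .nil .nil) (.node 6 (695, 2) .nil .nil))) (.node 83 (.node 3 (672, 3) (.node 1 (249, 3) (.node 0 (671, 3) .nil .nil) (.node 2 (90, 0) .nil .nil)) (.node 5 (674, 2) (.node 4 (673, 3) .nil .nil) (.node 6 (675, 3) .nil .nil))) (.node 81 (.node 3 (663, 2) (.node 1 (661, 2) (.node 0 (247, 2) .nil .nil) (.node 2 (662, 2) .nil .nil)) (.node 5 (665, 2) (.node 4 (664, 2) .nil .nil) (.node 6 (666, 2) .nil .nil))) (.node 80 (.node 3 (657, 3) (.node 1 (245, 4) (.node 0 (87, 0) .nil .nil) (.node 2 (246, 4) .nil .nil)) (.node 5 (659, 3) (.node 4 (658, 3) .nil .nil) (.node 6 (660, 3) .nil .nil))) .nil .nil) (.node 82 (.node 3 (248, 5) (.node 1 (88, 0) (.node 0 (667, 5) .nil .nil) (.node 2 (89, 0) .nil .nil)) (.node 5 (669, 5) (.node 4 (668, 5) .nil .nil) (.node 6 (670, 2) .nil .nil))) .nil .nil)) (.node 85 (.node 3 (93, 0) (.node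 1 (251, 4) (.node 0 (92, 0) .nil .nil) (.node 2 (252, 4) .nil .nil)) (.node 5 (682, 3) (.node 4 (681, 3) .nil .nil) (.node 6 (683, 3) .nil .nil))) (.node 84 (.node 3 (677, 4) (.node 1 (676, 3) (.node 0 (91, 0) .nil .nil) (.node 2 (250, 4) .nil .nil)) (.node 5 (679, 4) (.node 4 (678, 4) .nil .nil) (.node 6 (680, 4) .nil .nil))) .nil .nil) (.node 86 (.node 3 (686, 2) (.node 1 (684, 2) (.node 0 (253, 2) .nil .nil) (.node 2 (685, 2) .nil .nil)) (.node 5 (688, 2) (.node 4 (687, 2) .nil .nil) (.node 6 (689, 2) .nil .nil))) .nil .nil))) (.node 91 (.node 3 (711, 2) (.node 1 (709, 2) (.node 0 (259, 2) .nil .nil) (.node 2 (710, 2) .nil .nil)) (.node 5 (713, 2) (.node 4 (712, 2) .nil .nil) (.node 6 (714, 2) .nil .nil))) (.node 89 (.node 3 (702, 4) (.node 1 (701, 3) (.node 0 (95, 0) .nil .nil) (.node 2 (256, 4) .nil .nil)) (.node 5 (704, 4) (.node 4 (703, 4) .nil .nil) (.node 6 (705, 4) .nil .nil)))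 (.node 88 (.node 3 (697, 3) (.node 1 (255, 3) (.node 0 (696, 3) .nil .nil) (.node 2 (94, 0) .nil .nil)) (.node 5 (699, 3) (.node 4 (698, 3) .nil .nil) (.node 6 (700, 2) .nil .nil))) .nil .nil) (.node 90 (.node 3 (97, 0) (.node 1 (257, 4) (.node 0 (96, 0) .nil .nil) (.node 2 (258, 4) .nil .nil)) (.node 5 (707, 3) (.node 4 (706, 3) .nil .nil) (.node 6 (708, 3) .nil .nil))) .nil .nil)) (.node 93 (.node 3 (261, 5) (.node 1 (721, 5) (.node 0 (720, 2) .nil .nil) (.node 2 (722, 5) .nil .nil)) (.node 5 (724, 5) (.node 4 (723, 5) .nil .nil) (.node 6 (725, 5) .nil .nil))) (.node 92 (.node 3 (98, 0) (.node 1 (715, 2) (.node 0 (260, 2) .nil .nil) (.node 2 (716, 2) .nil .nil)) (.node 5 (718, 2) (.node 4 (717, 2) .nil .nil) (.node 6 (719, 2) .nil .nil))) .nil .nil) (.node 94 (.node 3 (100, 0) (.node 1 (262, 4) (.node 0 (99, 0) .nil .nil) (.node 2 (263, 4) .nil .nil)) (.node 5 (727, 3) (.node 4 (726,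 3) .nil .nil) (.node 6 (728, 3) .nil .nil))) .nil .nil))))) (.node 111 (.node 3 (114, 0) (.node 1 (810, 4) (.node 0 (809, 4) .nil .nil) (.node 2 (283, 6) .nil .nil)) (.node 5 (811, 4) (.node 4 (284, 6) .nil .nil) (.node 6 (812, 4) .nil .nil))) (.node 103 (.node 3 (770, 4) (.node 1 (769, 4) (.node 0 (768, 4) .nil .nil) (.node 2 (274, 4) .nil .nil)) (.node 5 (772, 4) (.node 4 (771, 4) .nil .nil) (.node 6 (773, 4) .nil .nil))) (.node 99 (.node 3 (104, 0) (.node 1 (749, 2) (.node 0 (269, 2) .nil .nil) (.node 2 (750, 2) .nil .nil)) (.node 5 (752, 2) (.node 4 (751, 2) .nil .nil) (.node 6 (753, 2) .nil .nil))) (.node 97 (.node 3 (266, 5) (.node 1 (741, 5) (.node 0 (740, 2) .nil .nil) (.node 2 (742, 5) .nil .nil)) (.node 5 (743, 3) (.node 4 (102, 0) .nil .nil) (.node 6 (744, 5) .nil .nil))) (.node 96 (.node 3 (101, 0) (.node 1 (735, 2) (.node 0 (265, 2) .nil .nil) (.node 2 (736, 2) .nil .nil))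 (.node 5 (738, 2) (.node 4 (737, 2) .nil .nil) (.node 6 (739, 2) .nil .nil))) .nil .nil) (.node 98 (.node 3 (268, 5) (.node 1 (745, 2) (.node 0 (267, 5) .nil .nil) (.node 2 (103, 0) .nil .nil)) (.node 5 (747, 2) (.node 4 (746, 2) .nil .nil) (.node 6 (748, 2) .nil .nil))) .nil .nil)) (.node 101 (.node 3 (272, 5) (.node 1 (759, 2) (.node 0 (271, 5) .nil .nil) (.node 2 (106, 0) .nil .nil)) (.node 5 (760, 2) (.node 4 (107, 0) .nil .nil) (.node 6 (761, 2) .nil .nil))) (.node 100 (.node 3 (270, 5) (.node 1 (755, 5) (.node 0 (754, 2) .nil .nil) (.node 2 (756, 5) .nil .nil)) (.node 5 (757, 5) (.node 4 (105, 0) .nil .nil) (.node 6 (758, 3) .nil .nil))) .nil .nil) (.node 102 (.node 3 (765, 6) (.node 1 (763, 6) (.node 0 (762, 6) .nil .nil) (.node 2 (764, 6) .nil .nil)) (.node 5 (766, 6) (.node 4 (273, 6) .nil .nil) (.node 6 (767, 6) .nil .nil))) .nil .nil))) (.node 107 (.node 3 (790, 2) (.node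 1 (788, 2) (.node 0 (787, 2) .nil .nil) (.node 2 (789, 4) .nil .nil)) (.node 5 (791, 2) (.node 4 (279, 6) .nil .nil) (.node 6 (792, 6) .nil .nil))) (.node 105 (.node 3 (780, 6) (.node 1 (778, 6) (.node 0 (777, 6) .nil .nil) (.node 2 (779, 6) .nil .nil)) (.node 5 (110, 0) (.node 4 (277, 6) .nil .nil) (.node 6 (781, 3) .nil .nil))) (.node 104 (.node 3 (276, 5) (.node 1 (774, 2) (.node 0 (275, 5) .nil .nil) (.node 2 (108, 0) .nil .nil)) (.node 5 (775, 2) (.node 4 (109, 0) .nil .nil) (.node 6 (776, 2) .nil .nil))) .nil .nil) (.node 106 (.node 3 (784, 4) (.node 1 (783, 4) (.node 0 (782, 4) .nil .nil) (.node 2 (278, 4) .nil .nil)) (.node 5 (785, 2) (.node 4 (111, 0) .nil .nil) (.node 6 (786, 4) .nil .nil))) .nil .nil)) (.node 109 (.node 3 (801, 2) (.node 1 (799, 2) (.node 0 (798, 2) .nil .nil) (.node 2 (800, 4) .nil .nil)) (.node 5 (113, 0) (.node 4 (281, 6) .nil .nil) (.node 6 (802, 2) .nil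 .nil))) (.node 108 (.node 3 (795, 4) (.node 1 (794, 4) (.node 0 (793, 4) .nil .nil) (.node 2 (280, 4) .nil .nil)) (.node 5 (796, 4) (.node 4 (112, 0) .nil .nil) (.node 6 (797, 2) .nil .nil))) .nil .nil) (.node 110 (.node 3 (806, 7) (.node 1 (804, 7) (.node 0 (803, 7) .nil .nil) (.node 2 (805, 7) .nil .nil)) (.node 5 (282, 7) (.node 4 (807, 7) .nil .nil) (.node 6 (808, 7) .nil .nil))) .nil .nil)))) (.node 119 (.node 3 (293, 7) (.node 1 (849, 3) (.node 0 (848, 5) .nil .nil) (.node 2 (850, 5) .nil .nil)) (.node 5 (294, 7) (.node 4 (121, 0) .nil .nil) (.node 6 (851, 5) .nil .nil))) (.node 115 (.node 3 (289, 5) (.node 1 (118, 0) (.node 0 (827, 5) .nil .nil) (.node 2 (828, 5) .nil .nil)) (.node 5 (119, 0) (.node 4 (829, 5) .nil .nil) (.node 6 (830, 2) .nil .nil))) (.node 113 (.node 3 (819, 2) (.node 1 (817, 2) (.node 0 (816, 2) .nil .nil) (.node 2 (818, 7) .nil .nil)) (.node 5 (287, 7) (.node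 4 (820, 2) .nil .nil) (.node 6 (821, 2) .nil .nil))) (.node 112 (.node 3 (115, 0) (.node 1 (814, 4) (.node 0 (813, 4) .nil .nil) (.node 2 (285, 6) .nil .nil)) (.node 5 (116, 0) (.node 4 (286, 6) .nil .nil) (.node 6 (815, 2) .nil .nil))) .nil .nil) (.node 114 (.node 3 (288, 5) (.node 1 (117, 0) (.node 0 (822, 5) .nil .nil) (.node 2 (823, 5) .nil .nil)) (.node 5 (825, 5) (.node 4 (824, 5) .nil .nil) (.node 6 (826, 5) .nil .nil))) .nil .nil)) (.node 117 (.node 3 (839, 3) (.node 1 (291, 3) (.node 0 (837, 3) .nil .nil) (.node 2 (838, 3) .nil .nil)) (.node 5 (841, 3) (.node 4 (840, 3) .nil .nil) (.node 6 (842, 3) .nil .nil))) (.node 116 (.node 3 (834, 5) (.node 1 (832, 7) (.node 0 (831, 7) .nil .nil) (.node 2 (833, 2) .nil .nil)) (.node 5 (290, 7) (.node 4 (835, 4) .nil .nil) (.node 6 (836, 4) .nil .nil))) .nil .nil) (.node 118 (.node 3 (845, 3) (.node 1 (292, 3) (.node 0 (843, 3) .nil .nil)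 (.node 2 (844, 3) .nil .nil)) (.node 5 (120, 0) (.node 4 (846, 3) .nil .nil) (.node 6 (847, 2) .nil .nil))) .nil .nil))) (.node 123 (.node 3 (299, 5) (.node 1 (868, 5) (.node 0 (867, 5) .nil .nil) (.node 2 (124, 0) .nil .nil)) (.node 5 (870, 5) (.node 4 (869, 5) .nil .nil) (.node 6 (871, 5) .nil .nil))) (.node 121 (.node 3 (859, 6) (.node 1 (857, 6) (.node 0 (856, 6) .nil .nil) (.node 2 (858, 6) .nil .nil)) (.node 5 (860, 6) (.node 4 (297, 6) .nil .nil) (.node 6 (861, 6) .nil .nil))) (.node 120 (.node 3 (854, 3) (.node 1 (295, 7) (.node 0 (852, 3) .nil .nil) (.node 2 (853, 3) .nil .nil)) (.node 5 (296, 7) (.node 4 (122, 0) .nil .nil) (.node 6 (855, 3) .nil .nil))) .nil .nil) (.node 122 (.node 3 (123, 0) (.node 1 (863, 2) (.node 0 (862, 6) .nil .nil) (.node 2 (864, 3) .nil .nil)) (.node 5 (865, 3) (.node 4 (298, 6) .nil .nil) (.node 6 (866, 3) .nil .nil))) .nil .nil)) (.node 125 (.node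 3 (879, 2) (.node 1 (877, 2) (.node 0 (301, 2) .nil .nil) (.node 2 (878, 2) .nil .nil)) (.node 5 (881, 2) (.node 4 (880, 2) .nil .nil) (.node 6 (882, 2) .nil .nil))) (.node 124 (.node 3 (873, 4) (.node 1 (872, 4) (.node 0 (125, 0) .nil .nil) (.node 2 (300, 4) .nil .nil)) (.node 5 (875, 4) (.node 4 (874, 4) .nil .nil) (.node 6 (876, 4) .nil .nil))) .nil .nil) .nil))))))
  wT := (.node 63 [0, 2, 3, 1, 4, 3, 2, 0, 5, 4, 3, 1, 2, 3, 4, 5, 6] (.node 31 [0, 2, 3, 1, 4, 3, 2, 5, 4, 6, 5] (.node 15 [0, 2, 3, 1, 4, 3, 2, 5] (.node 7 [0, 2, 3, 4, 5] (.node 3 [0, 2, 3] (.node 1 [0] (.node 0 [] .nil .nil) (.node 2 [0, 2] .nil .nil)) (.node 5 [0, 2, 3, 4] (.node 4 [0, 2, 3, 1] .nil .nil) (.node 6 [0, 2, 3, 1, 4] .nil .nil))) (.node 11 [0, 2, 3, 1, 4, 3, 2] (.node 9 [0, 2, 3, 1, 4, 5] (.node 8 [0, 2, 3, 1, 4, 3] .nil .nil) (.node 10 [0, 2, 3, 4, 5, 6] .nil .nil)) (.node 13 [0, 2, 3, 1, 4, 5, 6] (.node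 12 [0, 2, 3, 1, 4, 3, 5] .nil .nil) (.node 14 [0, 2, 3, 1, 4, 3, 2, 0] .nil .nil)))) (.node 23 [0, 2, 3, 1, 4, 3, 2, 0, 5, 6] (.node 19 [0, 2, 3, 1, 4, 3, 2, 5, 4] (.node 17 [0, 2, 3, 1, 4, 3, 5, 6] (.node 16 [0, 2, 3, 1, 4, 3, 5, 4] .nil .nil) (.node 18 [0, 2, 3, 1, 4, 3, 2, 0, 5] .nil .nil)) (.node 21 [0, 2, 3, 1, 4, 3, 5, 4, 6] (.node 20 [0, 2, 3, 1, 4, 3, 2, 5, 6] .nil .nil) (.node 22 [0, 2, 3, 1, 4, 3, 2, 0, 5, 4] .nil .nil))) (.node 27 [0, 2, 3, 1, 4, 3, 2, 0, 5, 4, 3] (.node 25 [0, 2, 3, 1, 4, 3, 2, 5, 4, 6] (.node 24 [0, 2, 3, 1, 4, 3, 2, 5, 4, 3] .nil .nil) (.node 26 [0, 2, 3, 1, 4, 3, 5, 4, 6, 5] .nil .nil)) (.node 29 [0, 2, 3, 1, 4, 3, 2, 5, 4, 3, 1] (.node 28 [0, 2, 3, 1, 4, 3, 2, 0, 5, 4, 6] .nil .nil) (.node 30 [0, 2, 3, 1, 4, 3, 2, 5, 4, 3, 6] .nil .nil))))) (.node 47 [0, 2, 3, 1, 4, 3, 2, 0, 5, 4, 3, 2, 6, 5] (.node 39 [0, 2, 3, 1, 4, 3, 2, 0, 5, 4, 3, 1, 6] (.node 35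 [0, 2, 3, 1, 4, 3, 2, 0, 5, 4, 6, 5] (.node 33 [0, 2, 3, 1, 4, 3, 2, 0, 5, 4, 3, 2] (.node 32 [0, 2, 3, 1, 4, 3, 2, 0, 5, 4, 3, 1] .nil .nil) (.node 34 [0, 2, 3, 1, 4, 3, 2, 0, 5, 4, 3, 6] .nil .nil)) (.node 37 [0, 2, 3, 1, 4, 3, 2, 5, 4, 3, 6, 5] (.node 36 [0, 2, 3, 1, 4, 3, 2, 5, 4, 3, 1, 6] .nil .nil) (.node 38 [0, 2, 3, 1, 4, 3, 2, 0, 5, 4, 3, 1, 2] .nil .nil))) (.node 43 [0, 2, 3, 1, 4, 3, 2, 5, 4, 3, 6, 5, 4] (.node 41 [0, 2, 3, 1, 4, 3, 2, 0, 5, 4, 3, 6, 5] (.node 40 [0, 2, 3, 1, 4, 3, 2, 0, 5, 4, 3, 2, 6] .nil .nil) (.node 42 [0, 2, 3, 1, 4, 3, 2, 5, 4, 3, 1, 6, 5] .nil .nil)) (.node 45 [0, 2, 3, 1, 4, 3, 2, 0, 5, 4, 3, 1, 2, 6] (.node 44 [0, 2, 3, 1, 4, 3, 2, 0, 5, 4, 3, 1, 2, 3] .nil .nil) (.node 46 [0, 2, 3, 1, 4, 3, 2, 0, 5, 4, 3, 1, 6, 5] .nil .nil)))) (.node 55 [0, 2, 3, 1, 4, 3, 2, 5, 4, 3, 1, 6, 5, 4, 3] (.node 51 [0, 2, 3, 1, 4, 3, 2, 0, 5, 4, 3, 1, 2, 3, 6] (.node 49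 [0, 2, 3, 1, 4, 3, 2, 5, 4, 3, 1, 6, 5, 4] (.node 48 [0, 2, 3, 1, 4, 3, 2, 0, 5, 4, 3, 6, 5, 4] .nil .nil) (.node 50 [0, 2, 3, 1, 4, 3, 2, 0, 5, 4, 3, 1, 2, 3, 4] .nil .nil)) (.node 53 [0, 2, 3, 1, 4, 3, 2, 0, 5, 4, 3, 1, 6, 5, 4] (.node 52 [0, 2, 3, 1, 4, 3, 2, 0, 5, 4, 3, 1, 2, 6, 5] .nil .nil) (.node 54 [0, 2, 3, 1, 4, 3, 2, 0, 5, 4, 3, 2, 6, 5, 4] .nil .nil))) (.node 59 [0, 2, 3, 1, 4, 3, 2, 0, 5, 4, 3, 1, 2, 6, 5, 4] (.node 57 [0, 2, 3, 1, 4, 3, 2, 0, 5, 4, 3, 1, 2, 3, 4, 6] (.node 56 [0, 2, 3, 1, 4, 3, 2, 0, 5, 4, 3, 1, 2, 3, 4, 5] .nil .nil) (.node 58 [0, 2, 3, 1, 4, 3, 2, 0, 5, 4, 3, 1, 2, 3, 6, 5] .nil .nil)) (.node 61 [0, 2, 3, 1, 4, 3, 2, 0, 5, 4, 3, 2, 6, 5, 4, 3] (.node 60 [0, 2, 3, 1, 4, 3, 2, 0, 5, 4, 3, 1, 6, 5, 4, 3] .nil .nil) (.node 62 [0, 2, 3, 1, 4, 3, 2, 5, 4, 3, 1, 6, 5, 4, 3, 2] .nil .nil)))))) (.node 95 [0, 2, 3, 1, 4, 3, 2, 0, 5, 4, 3, 1, 2, 3, 4, 5, 6, 5, 4,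 3, 2, 0] (.node 79 [0, 2, 3, 1, 4, 3, 2, 0, 5, 4, 3, 1, 2, 3, 6, 5, 4, 3, 2] (.node 71 [0, 2, 3, 1, 4, 3, 2, 0, 5, 4, 3, 1, 2, 3, 4, 6, 5, 4] (.node 67 [0, 2, 3, 1, 4, 3, 2, 0, 5, 4, 3, 1, 6, 5, 4, 3, 2] (.node 65 [0, 2, 3, 1, 4, 3, 2, 0, 5, 4, 3, 1, 2, 3, 6, 5, 4] (.node 64 [0, 2, 3, 1, 4, 3, 2, 0, 5, 4, 3, 1, 2, 3, 4, 6, 5] .nil .nil) (.node 66 [0, 2, 3, 1, 4, 3, 2, 0, 5, 4, 3, 1, 2, 6, 5, 4, 3] .nil .nil)) (.node 69 [0, 2, 3, 1, 4, 3, 2, 5, 4, 3, 1, 6, 5, 4, 3, 2, 0] (.node 68 [0, 2, 3, 1, 4, 3, 2, 0, 5, 4, 3, 2, 6, 5, 4, 3, 1] .nil .nil) (.node 70 [0, 2, 3, 1, 4, 3, 2, 0, 5, 4, 3, 1, 2, 3, 4, 5, 6, 5] .nil .nil))) (.node 75 [0, 2, 3, 1, 4, 3, 2, 0, 5, 4, 3, 1, 6, 5, 4, 3, 2, 0] (.node 73 [0, 2, 3, 1, 4, 3, 2, 0, 5, 4, 3, 1, 2, 6, 5, 4, 3, 1] (.node 72 [0, 2, 3, 1, 4, 3, 2, 0, 5, 4, 3, 1, 2, 3, 6, 5, 4, 3] .nil .nil) (.node 74 [0, 2, 3, 1, 4, 3, 2, 0, 5, 4, 3, 1, 2, 6, 5, 4, 3, 2]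 .nil .nil)) (.node 77 [0, 2, 3, 1, 4, 3, 2, 0, 5, 4, 3, 1, 2, 3, 4, 6, 5, 4, 3] (.node 76 [0, 2, 3, 1, 4, 3, 2, 0, 5, 4, 3, 1, 2, 3, 4, 5, 6, 5, 4] .nil .nil) (.node 78 [0, 2, 3, 1, 4, 3, 2, 0, 5, 4, 3, 1, 2, 3, 6, 5, 4, 3, 1] .nil .nil)))) (.node 87 [0, 2, 3, 1, 4, 3, 2, 0, 5, 4, 3, 1, 2, 6, 5, 4, 3, 1, 2, 0] (.node 83 [0, 2, 3, 1, 4, 3, 2, 0, 5, 4, 3, 1, 2, 3, 4, 6, 5, 4, 3, 1] (.node 81 [0, 2, 3, 1, 4, 3, 2, 0, 5, 4, 3, 1, 2, 6, 5, 4, 3, 2, 0] (.node 80 [0, 2, 3, 1, 4, 3, 2, 0, 5, 4, 3, 1, 2, 6, 5, 4, 3, 1, 2] .nil .nil) (.node 82 [0, 2, 3, 1, 4, 3, 2, 0, 5, 4, 3, 1, 2, 3, 4, 5, 6, 5, 4, 3] .nil .nil)) (.node 85 [0, 2, 3, 1, 4, 3, 2, 0, 5, 4, 3, 1, 2, 3, 6, 5, 4, 3, 1, 2] (.node 84 [0, 2, 3, 1, 4, 3, 2, 0, 5, 4, 3, 1, 2, 3, 4, 6, 5, 4, 3, 2] .nil .nil) (.node 86 [0, 2, 3, 1, 4, 3, 2, 0, 5, 4, 3, 1, 2, 3, 6, 5, 4, 3, 2, 0] .nil .nil))) (.node 91 [0, 2, 3, 1, 4, 3, 2, 0, 5, 4, 3, 1,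 2, 3, 4, 6, 5, 4, 3, 2, 0] (.node 89 [0, 2, 3, 1, 4, 3, 2, 0, 5, 4, 3, 1, 2, 3, 4, 5, 6, 5, 4, 3, 2] (.node 88 [0, 2, 3, 1, 4, 3, 2, 0, 5, 4, 3, 1, 2, 3, 4, 5, 6, 5, 4, 3, 1] .nil .nil) (.node 90 [0, 2, 3, 1, 4, 3, 2, 0, 5, 4, 3, 1, 2, 3, 4, 6, 5, 4, 3, 1, 2] .nil .nil)) (.node 93 [0, 2, 3, 1, 4, 3, 2, 0, 5, 4, 3, 1, 2, 3, 6, 5, 4, 3, 1, 2, 3] (.node 92 [0, 2, 3, 1, 4, 3, 2, 0, 5, 4, 3, 1, 2, 3, 6, 5, 4, 3, 1, 2, 0] .nil .nil) (.node 94 [0, 2, 3, 1, 4, 3, 2, 0, 5, 4, 3, 1, 2, 3, 4, 5, 6, 5, 4, 3, 1, 2] .nil .nil))))) (.node 111 [0, 2, 3, 1, 4, 3, 2, 0, 5, 4, 3, 1, 2, 3, 4, 6, 5, 4, 3, 1, 2, 0, 3, 2, 4] (.node 103 [0, 2, 3, 1, 4, 3, 2, 0, 5, 4, 3, 1, 2, 3, 6, 5, 4, 3, 1, 2, 0, 3, 2] (.node 99 [0, 2, 3, 1, 4, 3, 2, 0, 5, 4, 3, 1, 2, 3, 4, 5, 6, 5, 4, 3, 1, 2, 0] (.node 97 [0, 2, 3, 1, 4, 3, 2, 0, 5, 4, 3, 1, 2, 3, 4, 6, 5, 4, 3, 1, 2, 3] (.node 96 [0, 2, 3, 1, 4, 3, 2, 0, 5, 4, 3, 1, 2,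 3, 4, 6, 5, 4, 3, 1, 2, 0] .nil .nil) (.node 98 [0, 2, 3, 1, 4, 3, 2, 0, 5, 4, 3, 1, 2, 3, 6, 5, 4, 3, 1, 2, 0, 3] .nil .nil)) (.node 101 [0, 2, 3, 1, 4, 3, 2, 0, 5, 4, 3, 1, 2, 3, 4, 6, 5, 4, 3, 1, 2, 0, 3] (.node 100 [0, 2, 3, 1, 4, 3, 2, 0, 5, 4, 3, 1, 2, 3, 4, 5, 6, 5, 4, 3, 1, 2, 3] .nil .nil) (.node 102 [0, 2, 3, 1, 4, 3, 2, 0, 5, 4, 3, 1, 2, 3, 4, 6, 5, 4, 3, 1, 2, 3, 4] .nil .nil))) (.node 107 [0, 2, 3, 1, 4, 3, 2, 0, 5, 4, 3, 1, 2, 3, 4, 6, 5, 4, 3, 1, 2, 0, 3, 4] (.node 105 [0, 2, 3, 1, 4, 3, 2, 0, 5, 4, 3, 1, 2, 3, 4, 5, 6, 5, 4, 3, 1, 2, 3, 4] (.node 104 [0, 2, 3, 1, 4, 3, 2, 0, 5, 4, 3, 1, 2, 3, 4, 5, 6, 5, 4, 3, 1, 2, 0, 3] .nil .nil) (.node 106 [0, 2, 3, 1, 4, 3, 2, 0, 5, 4, 3, 1, 2, 3, 4, 6, 5, 4, 3, 1, 2, 0, 3, 2] .nil .nil)) (.node 109 [0, 2, 3, 1, 4, 3, 2, 0, 5, 4, 3, 1, 2, 3, 4, 5, 6, 5, 4, 3, 1, 2, 0, 3, 4] (.node 108 [0, 2, 3, 1, 4, 3, 2, 0, 5, 4, 3, 1, 2, 3, 4,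 5, 6, 5, 4, 3, 1, 2, 0, 3, 2] .nil .nil) (.node 110 [0, 2, 3, 1, 4, 3, 2, 0, 5, 4, 3, 1, 2, 3, 4, 5, 6, 5, 4, 3, 1, 2, 3, 4, 5] .nil .nil)))) (.node 119 [0, 2, 3, 1, 4, 3, 2, 0, 5, 4, 3, 1, 2, 3, 4, 5, 6, 5, 4, 3, 1, 2, 0, 3, 2, 4, 3, 5] (.node 115 [0, 2, 3, 1, 4, 3, 2, 0, 5, 4, 3, 1, 2, 3, 4, 5, 6, 5, 4, 3, 1, 2, 0, 3, 2, 4, 3] (.node 113 [0, 2, 3, 1, 4, 3, 2, 0, 5, 4, 3, 1, 2, 3, 4, 5, 6, 5, 4, 3, 1, 2, 0, 3, 4, 5] (.node 112 [0, 2, 3, 1, 4, 3, 2, 0, 5, 4, 3, 1, 2, 3, 4, 5, 6, 5, 4, 3, 1, 2, 0, 3, 2, 4] .nil .nil) (.node 114 [0, 2, 3, 1, 4, 3, 2, 0, 5, 4, 3, 1, 2, 3, 4, 6, 5, 4, 3, 1, 2, 0, 3, 2, 4, 3] .nil .nil)) (.node 117 [0, 2, 3, 1, 4, 3, 2, 0, 5, 4, 3, 1, 2, 3, 4, 6, 5, 4, 3, 1, 2, 0, 3, 2, 4, 3, 1] (.node 116 [0, 2, 3, 1, 4, 3, 2, 0, 5, 4, 3, 1, 2, 3, 4, 5, 6, 5, 4, 3, 1, 2, 0, 3, 2, 4, 5] .nil .nil) (.node 118 [0, 2, 3, 1, 4, 3, 2, 0, 5, 4, 3, 1, 2, 3, 4, 5, 6, 5, 4, 3, 1,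 2, 0, 3, 2, 4, 3, 1] .nil .nil))) (.node 123 [0, 2, 3, 1, 4, 3, 2, 0, 5, 4, 3, 1, 2, 3, 4, 5, 6, 5, 4, 3, 1, 2, 0, 3, 2, 4, 3, 1, 5, 4, 3] (.node 121 [0, 2, 3, 1, 4, 3, 2, 0, 5, 4, 3, 1, 2, 3, 4, 5, 6, 5, 4, 3, 1, 2, 0, 3, 2, 4, 3, 5, 4] (.node 120 [0, 2, 3, 1, 4, 3, 2, 0, 5, 4, 3, 1, 2, 3, 4, 5, 6, 5, 4, 3, 1, 2, 0, 3, 2, 4, 3, 1, 5] .nil .nil) (.node 122 [0, 2, 3, 1, 4, 3, 2, 0, 5, 4, 3, 1, 2, 3, 4, 5, 6, 5, 4, 3, 1, 2, 0, 3, 2, 4, 3, 1, 5, 4] .nil .nil)) (.node 125 [0, 2, 3, 1, 4, 3, 2, 0, 5, 4, 3, 1, 2, 3, 4, 5, 6, 5, 4, 3, 1, 2, 0, 3, 2, 4, 3, 1, 5, 4, 3, 2, 0] (.node 124 [0, 2, 3, 1, 4, 3, 2, 0, 5, 4, 3, 1, 2, 3, 4, 5, 6, 5, 4, 3, 1, 2, 0, 3, 2, 4, 3, 1, 5, 4, 3, 2] .nil .nil) .nil))))))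

theorem tab6 : tableOK L6 mF = true := by decide +kernel
theorem orb6 : orbitOK L6 sg = true := by decide +kernel
theorem kn6 : lall (fun j => Nat.blt j 7) L6.K = true := by decide +kernel

/-- The representation on the orbit. -/
abbrev rho : Mx.Group →* Equiv.Perm (Fin 126) := rhoOf Mx hP hM

def P0 : ℕ := 1

theorem good0 : Good (sC Mx) rho [6] (1 * L0.mc) := by
  have h := goodC_step Mx hP hM (L := L0) (P := 1) (good_nil (s := sC Mx) (ρ := rho)) hpos kn0 tab0 orb0 (by decide +kernel)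
  rwa [Nat.mul_comm] at h

def P1 : ℕ := P0 * L0.mc

theorem good1 : Good (sC Mx) rho [5, 6] (P1 * L1.mc) := by
  have h := goodC_step Mx hP hM (L := L1) (P := P1) good0 hpos kn1 tab1 orb1 (by decide +kernel)
  rwa [Nat.mul_comm] at h

def P2 : ℕ := P1 * L1.mc

theorem good2 : Good (sC Mx) rho [4, 5, 6] (P2 * L2.mc) := by
  have h := goodC_step Mx hP hM (L := L2) (P := P2) good1 hpos kn2 tab2 orb2 (by decide +kernel)
  rwa [Nat.mul_comm] at h

def P3 : ℕ := P2 * L2.mc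

theorem good3 : Good (sC Mx) rho [1, 4, 5, 6] (P3 * L3.mc) := by
  have h := goodC_step Mx hP hM (L := L3) (P := P3) good2 hpos kn3 tab3 orb3 (by decide +kernel)
  rwa [Nat.mul_comm] at h

def P4 : ℕ := P3 * L3.mc

theorem good4 : Good (sC Mx) rho [1, 3, 4, 5, 6] (P4 * L4.mc) := by
  have h := goodC_step Mx hP hM (L := L4) (P := P4) good3 hpos kn4 tab4 orb4 (by decide +kernel)
  rwa [Nat.mul_comm] at h

def P5 : ℕ := P4 * L4.mc

theorem good5 : Good (sC Mx) rho [1, 2, 3, 4, 5, 6] (P5 * L5.mc) := by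
  have h := goodC_step Mx hP hM (L := L5) (P := P5) good4 hpos kn5 tab5 orb5 (by decide +kernel)
  rwa [Nat.mul_comm] at h

def P6 : ℕ := P5 * L5.mc

theorem good6 : Good (sC Mx) rho [0, 1, 2, 3, 4, 5, 6] (P6 * L6.mc) := by
  have h := goodC_step Mx hP hM (L := L6) (P := P6) good5 hpos kn6 tab6 orb6 (by decide +kernel)
  rwa [Nat.mul_comm] at h

theorem main : Finite Mx.Group ∧ Nat.card Mx.Group = 2903040 ∧ Function.Injective rho := by
  have h := (show Good (sC Mx) rho (List.range 7) (P6 * L6.mc) from good6).final (cl_range Mx)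
  have hc : P6 * L6.mc = 2903040 := by decide +kernel
  rwa [hc] at h

end

end Cfsg.Agent.Lib.Chevalley.Weyl.E7
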