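import Cfsg.Agent.Lib.Chevalley.Weyl.Chain
import Cfsg.Prelude.Def_ChevStructure

/-! Generated: the order of the Coxeter group of type E8 from coset tables. -/

set_option autoImplicit false
set_option maxRecDepth 1000000

namespace Cfsg.Agent.Lib.Chevalley.Weyl.E8

open Cfsg.Agent.Lib.Chevalley.Reflect Cfsg.Agent.Lib.Chevalley.Weyl

noncomputable section

/-- The Coxeter matrix. -/
abbrev Mx : CoxeterMatrix (Fin 8) := CoxeterMatrix.E₈

/-- The index in the root table of the points of the orbit. -/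
def rootOf : Tr ℕ := (.node 120 120 (.node 60 60 (.node 30 30 (.node 15 15 (.node 7 7 (.node 3 3 (.node 1 1 (.node 0 0 .nil .nil) (.node 2 2 .nil .nil)) (.node 5 5 (.node 4 4 .nil .nil) (.node 6 6 .nil .nil))) (.node 11 11 (.node 9 9 (.node 8 8 .nil .nil) (.node 10 10 .nil .nil)) (.node 13 13 (.node 12 12 .nil .nil) (.node 14 14 .nil .nil)))) (.node 23 23 (.node 19 19 (.node 17 17 (.node 16 16 .nil .nil) (.node 18 18 .nil .nil)) (.node 21 21 (.node 20 20 .nil .nil) (.node 22 22 .nil .nil))) (.node 27 27 (.node 25 25 (.node 24 24 .nil .nil) (.node 26 26 .nil .nil)) (.node 29 29 (.node 28 28 .nil .nil) .nil)))) (.node 45 45 (.node 38 38 (.node 34 34 (.node 32 32 (.node 31 31 .nil .nil) (.node 33 33 .nil .nil)) (.node 36 36 (.node 35 35 .nil .nil) (.node 37 37 .nil .nil))) (.node 42 42 (.node 40 40 (.node 39 39 .nil .nil) (.node 41 41 .nil .nil)) (.node 44 44 (.node 43 43 .nil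 .nil) .nil))) (.node 53 53 (.node 49 49 (.node 47 47 (.node 46 46 .nil .nil) (.node 48 48 .nil .nil)) (.node 51 51 (.node 50 50 .nil .nil) (.node 52 52 .nil .nil))) (.node 57 57 (.node 55 55 (.node 54 54 .nil .nil) (.node 56 56 .nil .nil)) (.node 59 59 (.node 58 58 .nil .nil) .nil))))) (.node 90 90 (.node 75 75 (.node 68 68 (.node 64 64 (.node 62 62 (.node 61 61 .nil .nil) (.node 63 63 .nil .nil)) (.node 66 66 (.node 65 65 .nil .nil) (.node 67 67 .nil .nil))) (.node 72 72 (.node 70 70 (.node 69 69 .nil .nil) (.node 71 71 .nil .nil)) (.node 74 74 (.node 73 73 .nil .nil) .nil))) (.node 83 83 (.node 79 79 (.node 77 77 (.node 76 76 .nil .nil) (.node 78 78 .nil .nil)) (.node 81 81 (.node 80 80 .nil .nil) (.node 82 82 .nil .nil))) (.node 87 87 (.node 85 85 (.node 84 84 .nil .nil) (.node 86 86 .nil .nil)) (.node 89 89 (.node 88 88 .nil .nil) .nil)))) (.node 105 105 (.node 98 98 (.node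 94 94 (.node 92 92 (.node 91 91 .nil .nil) (.node 93 93 .nil .nil)) (.node 96 96 (.node 95 95 .nil .nil) (.node 97 97 .nil .nil))) (.node 102 102 (.node 100 100 (.node 99 99 .nil .nil) (.node 101 101 .nil .nil)) (.node 104 104 (.node 103 103 .nil .nil) .nil))) (.node 113 113 (.node 109 109 (.node 107 107 (.node 106 106 .nil .nil) (.node 108 108 .nil .nil)) (.node 111 111 (.node 110 110 .nil .nil) (.node 112 112 .nil .nil))) (.node 117 117 (.node 115 115 (.node 114 114 .nil .nil) (.node 116 116 .nil .nil)) (.node 119 119 (.node 118 118 .nil .nil) .nil)))))) (.node 180 180 (.node 150 150 (.node 135 135 (.node 128 128 (.node 124 124 (.node 122 122 (.node 121 121 .nil .nil) (.node 123 123 .nil .nil)) (.node 126 126 (.node 125 125 .nil .nil) (.node 127 127 .nil .nil))) (.node 132 132 (.node 130 130 (.node 129 129 .nil .nil) (.node 131 131 .nil .nil)) (.node 134 134 (.node 133 133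 .nil .nil) .nil))) (.node 143 143 (.node 139 139 (.node 137 137 (.node 136 136 .nil .nil) (.node 138 138 .nil .nil)) (.node 141 141 (.node 140 140 .nil .nil) (.node 142 142 .nil .nil))) (.node 147 147 (.node 145 145 (.node 144 144 .nil .nil) (.node 146 146 .nil .nil)) (.node 149 149 (.node 148 148 .nil .nil) .nil)))) (.node 165 165 (.node 158 158 (.node 154 154 (.node 152 152 (.node 151 151 .nil .nil) (.node 153 153 .nil .nil)) (.node 156 156 (.node 155 155 .nil .nil) (.node 157 157 .nil .nil))) (.node 162 162 (.node 160 160 (.node 159 159 .nil .nil) (.node 161 161 .nil .nil)) (.node 164 164 (.node 163 163 .nil .nil) .nil))) (.node 173 173 (.node 169 169 (.node 167 167 (.node 166 166 .nil .nil) (.node 168 168 .nil .nil)) (.node 171 171 (.node 170 170 .nil .nil) (.node 172 172 .nil .nil))) (.node 177 177 (.node 175 175 (.node 174 174 .nil .nil) (.node 176 176 .nil .nil)) (.node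 179 179 (.node 178 178 .nil .nil) .nil))))) (.node 210 210 (.node 195 195 (.node 188 188 (.node 184 184 (.node 182 182 (.node 181 181 .nil .nil) (.node 183 183 .nil .nil)) (.node 186 186 (.node 185 185 .nil .nil) (.node 187 187 .nil .nil))) (.node 192 192 (.node 190 190 (.node 189 189 .nil .nil) (.node 191 191 .nil .nil)) (.node 194 194 (.node 193 193 .nil .nil) .nil))) (.node 203 203 (.node 199 199 (.node 197 197 (.node 196 196 .nil .nil) (.node 198 198 .nil .nil)) (.node 201 201 (.node 200 200 .nil .nil) (.node 202 202 .nil .nil))) (.node 207 207 (.node 205 205 (.node 204 204 .nil .nil) (.node 206 206 .nil .nil)) (.node 209 209 (.node 208 208 .nil .nil) .nil)))) (.node 225 225 (.node 218 218 (.node 214 214 (.node 212 212 (.node 211 211 .nil .nil) (.node 213 213 .nil .nil)) (.node 216 216 (.node 215 215 .nil .nil) (.node 217 217 .nil .nil))) (.node 222 222 (.node 220 220 (.node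 219 219 .nil .nil) (.node 221 221 .nil .nil)) (.node 224 224 (.node 223 223 .nil .nil) .nil))) (.node 233 233 (.node 229 229 (.node 227 227 (.node 226 226 .nil .nil) (.node 228 228 .nil .nil)) (.node 231 231 (.node 230 230 .nil .nil) (.node 232 232 .nil .nil))) (.node 237 237 (.node 235 235 (.node 234 234 .nil .nil) (.node 236 236 .nil .nil)) (.node 239 239 (.node 238 238 .nil .nil) .nil)))))))

/-- The permutation table: each simple reflection acting on the orbit of roots. -/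
def sgT : Tr (Tr ℕ) := (.node 4 (.node 120 120 (.node 60 63 (.node 30 27 (.node 15 15 (.node 7 7 (.node 3 4 (.node 1 1 (.node 0 0 .nil .nil) (.node 2 2 .nil .nil)) (.node 5 5 (.node 4 3 .nil .nil) (.node 6 6 .nil .nil))) (.node 11 11 (.node 9 10 (.node 8 8 .nil .nil) (.node 10 9 .nil .nil)) (.node 13 13 (.node 12 12 .nil .nil) (.node 14 14 .nil .nil)))) (.node 23 23 (.node 19 19 (.node 17 16 (.node 16 17 .nil .nil) (.node 18 18 .nil .nil)) (.node 21 22 (.node 20 20 .nil .nil) (.node 22 21 .nil .nil))) (.node 27 30 (.node 25 25 (.node 24 24 .nil .nil) (.node 26 26 .nil .nil)) (.node 29 32 (.node 28 31 .nil .nil) .nil)))) (.node 45 45 (.node 38 41 (.node 34 34 (.node 32 29 (.node 31 28 .nil .nil) (.node 33 33 .nil .nil)) (.node 36 36 (.node 35 35 .nil .nil) (.node 37 40 .nil .nil))) (.node 42 39 (.node 40 37 (.node 39 42 .nil .nil) (.node 41 38 .nil .nil)) (.node 44 44 (.node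 43 43 .nil .nil) .nil))) (.node 53 50 (.node 49 52 (.node 47 47 (.node 46 46 .nil .nil) (.node 48 48 .nil .nil)) (.node 51 54 (.node 50 53 .nil .nil) (.node 52 49 .nil .nil))) (.node 57 57 (.node 55 55 (.node 54 51 .nil .nil) (.node 56 56 .nil .nil)) (.node 59 62 (.node 58 58 .nil .nil) .nil))))) (.node 90 90 (.node 75 74 (.node 68 68 (.node 64 61 (.node 62 59 (.node 61 64 .nil .nil) (.node 63 60 .nil .nil)) (.node 66 66 (.node 65 65 .nil .nil) (.node 67 67 .nil .nil))) (.node 72 72 (.node 70 69 (.node 69 70 .nil .nil) (.node 71 71 .nil .nil)) (.node 74 75 (.node 73 73 .nil .nil) .nil))) (.node 83 86 (.node 79 79 (.node 77 77 (.node 76 76 .nil .nil) (.node 78 78 .nil .nil)) (.node 81 84 (.node 80 80 .nil .nil) (.node 82 85 .nil .nil))) (.node 87 87 (.node 85 82 (.node 84 81 .nil .nil) (.node 86 83 .nil .nil)) (.node 89 89 (.node 88 88 .nil .nil) .nil)))) (.node 105 105 (.node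 98 98 (.node 94 94 (.node 92 91 (.node 91 92 .nil .nil) (.node 93 93 .nil .nil)) (.node 96 97 (.node 95 95 .nil .nil) (.node 97 96 .nil .nil))) (.node 102 103 (.node 100 100 (.node 99 99 .nil .nil) (.node 101 101 .nil .nil)) (.node 104 104 (.node 103 102 .nil .nil) .nil))) (.node 113 126 (.node 109 108 (.node 107 107 (.node 106 106 .nil .nil) (.node 108 109 .nil .nil)) (.node 111 115 (.node 110 114 .nil .nil) (.node 112 116 .nil .nil))) (.node 117 117 (.node 115 111 (.node 114 110 .nil .nil) (.node 116 112 .nil .nil)) (.node 119 119 (.node 118 118 .nil .nil) .nil)))))) (.node 180 177 (.node 150 150 (.node 135 135 (.node 128 124 (.node 124 128 (.node 122 122 (.node 121 121 .nil .nil) (.node 123 127 .nil .nil)) (.node 126 113 (.node 125 129 .nil .nil) (.node 127 123 .nil .nil))) (.node 132 132 (.node 130 131 (.node 129 125 .nil .nil) (.node 131 130 .nil .nil)) (.node 134 134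 (.node 133 133 .nil .nil) .nil))) (.node 143 142 (.node 139 139 (.node 137 136 (.node 136 137 .nil .nil) (.node 138 138 .nil .nil)) (.node 141 141 (.node 140 140 .nil .nil) (.node 142 143 .nil .nil))) (.node 147 148 (.node 145 145 (.node 144 144 .nil .nil) (.node 146 146 .nil .nil)) (.node 149 149 (.node 148 147 .nil .nil) .nil)))) (.node 165 164 (.node 158 155 (.node 154 157 (.node 152 152 (.node 151 151 .nil .nil) (.node 153 156 .nil .nil)) (.node 156 153 (.node 155 158 .nil .nil) (.node 157 154 .nil .nil))) (.node 162 162 (.node 160 160 (.node 159 159 .nil .nil) (.node 161 161 .nil .nil)) (.node 164 165 (.node 163 163 .nil .nil) .nil))) (.node 173 173 (.node 169 170 (.node 167 167 (.node 166 166 .nil .nil) (.node 168 168 .nil .nil)) (.node 171 171 (.node 170 169 .nil .nil) (.node 172 172 .nil .nil))) (.node 177 180 (.node 175 178 (.node 174 174 .nil .nil) (.node 176 179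 .nil .nil)) (.node 179 176 (.node 178 175 .nil .nil) .nil))))) (.node 210 207 (.node 195 195 (.node 188 185 (.node 184 184 (.node 182 182 (.node 181 181 .nil .nil) (.node 183 183 .nil .nil)) (.node 186 189 (.node 185 188 .nil .nil) (.node 187 190 .nil .nil))) (.node 192 192 (.node 190 187 (.node 189 186 .nil .nil) (.node 191 191 .nil .nil)) (.node 194 194 (.node 193 193 .nil .nil) .nil))) (.node 203 203 (.node 199 202 (.node 197 200 (.node 196 196 .nil .nil) (.node 198 201 .nil .nil)) (.node 201 198 (.node 200 197 .nil .nil) (.node 202 199 .nil .nil))) (.node 207 210 (.node 205 205 (.node 204 204 .nil .nil) (.node 206 206 .nil .nil)) (.node 209 212 (.node 208 211 .nil .nil) .nil)))) (.node 225 225 (.node 218 217 (.node 214 214 (.node 212 209 (.node 211 208 .nil .nil) (.node 213 213 .nil .nil)) (.node 216 216 (.node 215 215 .nil .nil) (.node 217 218 .nil .nil))) (.node 222 223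 (.node 220 220 (.node 219 219 .nil .nil) (.node 221 221 .nil .nil)) (.node 224 224 (.node 223 222 .nil .nil) .nil))) (.node 233 233 (.node 229 230 (.node 227 227 (.node 226 226 .nil .nil) (.node 228 228 .nil .nil)) (.node 231 231 (.node 230 229 .nil .nil) (.node 232 232 .nil .nil))) (.node 237 237 (.node 235 236 (.node 234 234 .nil .nil) (.node 236 235 .nil .nil)) (.node 239 239 (.node 238 238 .nil .nil) .nil))))))) (.node 2 (.node 120 120 (.node 60 50 (.node 30 30 (.node 15 15 (.node 7 8 (.node 3 3 (.node 1 1 (.node 0 0 .nil .nil) (.node 2 2 .nil .nil)) (.node 5 6 (.node 4 4 .nil .nil) (.node 6 5 .nil .nil))) (.node 11 11 (.node 9 9 (.node 8 7 .nil .nil) (.node 10 10 .nil .nil)) (.node 13 13 (.node 12 12 .nil .nil) (.node 14 14 .nil .nil)))) (.node 23 18 (.node 19 24 (.node 17 22 (.node 16 21 .nil .nil) (.node 18 23 .nil .nil)) (.node 21 16 (.node 20 25 .nil .nil) (.node 22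 17 .nil .nil))) (.node 27 27 (.node 25 20 (.node 24 19 .nil .nil) (.node 26 26 .nil .nil)) (.node 29 29 (.node 28 28 .nil .nil) .nil)))) (.node 45 45 (.node 38 38 (.node 34 34 (.node 32 32 (.node 31 31 .nil .nil) (.node 33 33 .nil .nil)) (.node 36 36 (.node 35 35 .nil .nil) (.node 37 37 .nil .nil))) (.node 42 42 (.node 40 40 (.node 39 39 .nil .nil) (.node 41 41 .nil .nil)) (.node 44 44 (.node 43 43 .nil .nil) .nil))) (.node 53 63 (.node 49 59 (.node 47 57 (.node 46 56 .nil .nil) (.node 48 58 .nil .nil)) (.node 51 61 (.node 50 60 .nil .nil) (.node 52 62 .nil .nil))) (.node 57 47 (.node 55 65 (.node 54 64 .nil .nil) (.node 56 46 .nil .nil)) (.node 59 49 (.node 58 48 .nil .nil) .nil))))) (.node 90 95 (.node 75 75 (.node 68 68 (.node 64 54 (.node 62 52 (.node 61 51 .nil .nil) (.node 63 53 .nil .nil)) (.node 66 66 (.node 65 55 .nil .nil) (.node 67 67 .nil .nil))) (.node 72 72 (.node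 70 70 (.node 69 69 .nil .nil) (.node 71 71 .nil .nil)) (.node 74 74 (.node 73 73 .nil .nil) .nil))) (.node 83 83 (.node 79 79 (.node 77 76 (.node 76 77 .nil .nil) (.node 78 78 .nil .nil)) (.node 81 81 (.node 80 80 .nil .nil) (.node 82 82 .nil .nil))) (.node 87 87 (.node 85 85 (.node 84 84 .nil .nil) (.node 86 86 .nil .nil)) (.node 89 94 (.node 88 93 .nil .nil) .nil)))) (.node 105 99 (.node 98 98 (.node 94 89 (.node 92 97 (.node 91 96 .nil .nil) (.node 93 88 .nil .nil)) (.node 96 91 (.node 95 90 .nil .nil) (.node 97 92 .nil .nil))) (.node 102 108 (.node 100 106 (.node 99 105 .nil .nil) (.node 101 107 .nil .nil)) (.node 104 135 (.node 103 109 .nil .nil) .nil))) (.node 113 113 (.node 109 103 (.node 107 101 (.node 106 100 .nil .nil) (.node 108 102 .nil .nil)) (.node 111 111 (.node 110 110 .nil .nil) (.node 112 112 .nil .nil))) (.node 117 117 (.node 115 115 (.node 114 114 .nil .nil)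 (.node 116 116 .nil .nil)) (.node 119 119 (.node 118 118 .nil .nil) .nil)))))) (.node 180 190 (.node 150 145 (.node 135 104 (.node 128 128 (.node 124 124 (.node 122 122 (.node 121 121 .nil .nil) (.node 123 123 .nil .nil)) (.node 126 126 (.node 125 125 .nil .nil) (.node 127 127 .nil .nil))) (.node 132 138 (.node 130 136 (.node 129 129 .nil .nil) (.node 131 137 .nil .nil)) (.node 134 140 (.node 133 139 .nil .nil) .nil))) (.node 143 148 (.node 139 133 (.node 137 131 (.node 136 130 .nil .nil) (.node 138 132 .nil .nil)) (.node 141 141 (.node 140 134 .nil .nil) (.node 142 147 .nil .nil))) (.node 147 142 (.node 145 150 (.node 144 149 .nil .nil) (.node 146 151 .nil .nil)) (.node 149 144 (.node 148 143 .nil .nil) .nil)))) (.node 165 165 (.node 158 158 (.node 154 154 (.node 152 152 (.node 151 146 .nil .nil) (.node 153 153 .nil .nil)) (.node 156 156 (.node 155 155 .nil .nil) (.node 157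 157 .nil .nil))) (.node 162 163 (.node 160 160 (.node 159 159 .nil .nil) (.node 161 161 .nil .nil)) (.node 164 164 (.node 163 162 .nil .nil) .nil))) (.node 173 173 (.node 169 169 (.node 167 167 (.node 166 166 .nil .nil) (.node 168 168 .nil .nil)) (.node 171 171 (.node 170 170 .nil .nil) (.node 172 172 .nil .nil))) (.node 177 187 (.node 175 185 (.node 174 184 .nil .nil) (.node 176 186 .nil .nil)) (.node 179 189 (.node 178 188 .nil .nil) .nil))))) (.node 210 210 (.node 195 195 (.node 188 178 (.node 184 174 (.node 182 192 (.node 181 191 .nil .nil) (.node 183 193 .nil .nil)) (.node 186 176 (.node 185 175 .nil .nil) (.node 187 177 .nil .nil))) (.node 192 182 (.node 190 180 (.node 189 179 .nil .nil) (.node 191 181 .nil .nil)) (.node 194 194 (.node 193 183 .nil .nil) .nil))) (.node 203 203 (.node 199 199 (.node 197 197 (.node 196 196 .nil .nil) (.node 198 198 .nil .nil)) (.node 201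 201 (.node 200 200 .nil .nil) (.node 202 202 .nil .nil))) (.node 207 207 (.node 205 205 (.node 204 204 .nil .nil) (.node 206 206 .nil .nil)) (.node 209 209 (.node 208 208 .nil .nil) .nil)))) (.node 225 225 (.node 218 223 (.node 214 219 (.node 212 212 (.node 211 211 .nil .nil) (.node 213 213 .nil .nil)) (.node 216 221 (.node 215 220 .nil .nil) (.node 217 222 .nil .nil))) (.node 222 217 (.node 220 215 (.node 219 214 .nil .nil) (.node 221 216 .nil .nil)) (.node 224 224 (.node 223 218 .nil .nil) .nil))) (.node 233 234 (.node 229 229 (.node 227 227 (.node 226 226 .nil .nil) (.node 228 228 .nil .nil)) (.node 231 232 (.node 230 230 .nil .nil) (.node 232 231 .nil .nil))) (.node 237 237 (.node 235 235 (.node 234 233 .nil .nil) (.node 236 236 .nil .nil)) (.node 239 239 (.node 238 238 .nil .nil) .nil))))))) (.node 1 (.node 120 120 (.node 60 60 (.node 30 40 (.node 15 14 (.node 7 5 (.node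 3 3 (.node 1 1 (.node 0 0 .nil .nil) (.node 2 2 .nil .nil)) (.node 5 7 (.node 4 4 .nil .nil) (.node 6 8 .nil .nil))) (.node 11 11 (.node 9 9 (.node 8 6 .nil .nil) (.node 10 10 .nil .nil)) (.node 13 13 (.node 12 12 .nil .nil) (.node 14 15 .nil .nil)))) (.node 23 23 (.node 19 19 (.node 17 17 (.node 16 16 .nil .nil) (.node 18 18 .nil .nil)) (.node 21 21 (.node 20 20 .nil .nil) (.node 22 22 .nil .nil))) (.node 27 37 (.node 25 25 (.node 24 24 .nil .nil) (.node 26 36 .nil .nil)) (.node 29 39 (.node 28 38 .nil .nil) .nil)))) (.node 45 35 (.node 38 28 (.node 34 44 (.node 32 42 (.node 31 41 .nil .nil) (.node 33 43 .nil .nil)) (.node 36 26 (.node 35 45 .nil .nil) (.node 37 27 .nil .nil))) (.node 42 32 (.node 40 30 (.node 39 29 .nil .nil) (.node 41 31 .nil .nil)) (.node 44 34 (.node 43 33 .nil .nil) .nil))) (.node 53 53 (.node 49 49 (.node 47 47 (.node 46 46 .nil .nil) (.node 48 48 .nil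 .nil)) (.node 51 51 (.node 50 50 .nil .nil) (.node 52 52 .nil .nil))) (.node 57 57 (.node 55 55 (.node 54 54 .nil .nil) (.node 56 56 .nil .nil)) (.node 59 59 (.node 58 58 .nil .nil) .nil))))) (.node 90 101 (.node 75 70 (.node 68 73 (.node 64 64 (.node 62 62 (.node 61 61 .nil .nil) (.node 63 63 .nil .nil)) (.node 66 71 (.node 65 65 .nil .nil) (.node 67 72 .nil .nil))) (.node 72 67 (.node 70 75 (.node 69 74 .nil .nil) (.node 71 66 .nil .nil)) (.node 74 69 (.node 73 68 .nil .nil) .nil))) (.node 83 83 (.node 79 79 (.node 77 77 (.node 76 76 .nil .nil) (.node 78 78 .nil .nil)) (.node 81 81 (.node 80 80 .nil .nil) (.node 82 82 .nil .nil))) (.node 87 87 (.node 85 85 (.node 84 84 .nil .nil) (.node 86 86 .nil .nil)) (.node 89 100 (.node 88 99 .nil .nil) .nil)))) (.node 105 93 (.node 98 141 (.node 94 106 (.node 92 103 (.node 91 102 .nil .nil) (.node 93 105 .nil .nil)) (.node 96 108 (.node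 95 107 .nil .nil) (.node 97 109 .nil .nil))) (.node 102 91 (.node 100 89 (.node 99 88 .nil .nil) (.node 101 90 .nil .nil)) (.node 104 104 (.node 103 92 .nil .nil) .nil))) (.node 113 113 (.node 109 97 (.node 107 95 (.node 106 94 .nil .nil) (.node 108 96 .nil .nil)) (.node 111 111 (.node 110 110 .nil .nil) (.node 112 112 .nil .nil))) (.node 117 117 (.node 115 115 (.node 114 114 .nil .nil) (.node 116 116 .nil .nil)) (.node 119 119 (.node 118 118 .nil .nil) .nil)))))) (.node 180 180 (.node 150 139 (.node 135 135 (.node 128 128 (.node 124 124 (.node 122 122 (.node 121 121 .nil .nil) (.node 123 123 .nil .nil)) (.node 126 126 (.node 125 125 .nil .nil) (.node 127 127 .nil .nil))) (.node 132 144 (.node 130 142 (.node 129 129 .nil .nil) (.node 131 143 .nil .nil)) (.node 134 146 (.node 133 145 .nil .nil) .nil))) (.node 143 131 (.node 139 150 (.node 137 148 (.node 136 147 .nil .nil) (.node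 138 149 .nil .nil)) (.node 141 98 (.node 140 151 .nil .nil) (.node 142 130 .nil .nil))) (.node 147 136 (.node 145 133 (.node 144 132 .nil .nil) (.node 146 134 .nil .nil)) (.node 149 138 (.node 148 137 .nil .nil) .nil)))) (.node 165 170 (.node 158 158 (.node 154 154 (.node 152 152 (.node 151 140 .nil .nil) (.node 153 153 .nil .nil)) (.node 156 156 (.node 155 155 .nil .nil) (.node 157 157 .nil .nil))) (.node 162 162 (.node 160 160 (.node 159 159 .nil .nil) (.node 161 161 .nil .nil)) (.node 164 169 (.node 163 163 .nil .nil) .nil))) (.node 173 168 (.node 169 164 (.node 167 172 (.node 166 171 .nil .nil) (.node 168 173 .nil .nil)) (.node 171 166 (.node 170 165 .nil .nil) (.node 172 167 .nil .nil))) (.node 177 177 (.node 175 175 (.node 174 174 .nil .nil) (.node 176 176 .nil .nil)) (.node 179 179 (.node 178 178 .nil .nil) .nil))))) (.node 210 200 (.node 195 205 (.node 188 188 (.node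 184 184 (.node 182 182 (.node 181 181 .nil .nil) (.node 183 183 .nil .nil)) (.node 186 186 (.node 185 185 .nil .nil) (.node 187 187 .nil .nil))) (.node 192 192 (.node 190 190 (.node 189 189 .nil .nil) (.node 191 191 .nil .nil)) (.node 194 204 (.node 193 193 .nil .nil) .nil))) (.node 203 213 (.node 199 209 (.node 197 207 (.node 196 206 .nil .nil) (.node 198 208 .nil .nil)) (.node 201 211 (.node 200 210 .nil .nil) (.node 202 212 .nil .nil))) (.node 207 197 (.node 205 195 (.node 204 194 .nil .nil) (.node 206 196 .nil .nil)) (.node 209 199 (.node 208 198 .nil .nil) .nil)))) (.node 225 224 (.node 218 218 (.node 214 214 (.node 212 202 (.node 211 201 .nil .nil) (.node 213 203 .nil .nil)) (.node 216 216 (.node 215 215 .nil .nil) (.node 217 217 .nil .nil))) (.node 222 222 (.node 220 220 (.node 219 219 .nil .nil) (.node 221 221 .nil .nil)) (.node 224 225 (.node 223 223 .nil .nil) .nil)))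 (.node 233 231 (.node 229 229 (.node 227 227 (.node 226 226 .nil .nil) (.node 228 228 .nil .nil)) (.node 231 233 (.node 230 230 .nil .nil) (.node 232 234 .nil .nil))) (.node 237 237 (.node 235 235 (.node 234 232 .nil .nil) (.node 236 236 .nil .nil)) (.node 239 239 (.node 238 238 .nil .nil) .nil))))))) (.node 0 (.node 120 120 (.node 60 82 (.node 30 30 (.node 15 8 (.node 7 7 (.node 3 3 (.node 1 1 (.node 0 0 .nil .nil) (.node 2 2 .nil .nil)) (.node 5 5 (.node 4 4 .nil .nil) (.node 6 14 .nil .nil))) (.node 11 18 (.node 9 16 (.node 8 15 .nil .nil) (.node 10 17 .nil .nil)) (.node 13 20 (.node 12 19 .nil .nil) (.node 14 6 .nil .nil)))) (.node 23 23 (.node 19 12 (.node 17 10 (.node 16 9 .nil .nil) (.node 18 11 .nil .nil)) (.node 21 21 (.node 20 13 .nil .nil) (.node 22 22 .nil .nil))) (.node 27 27 (.node 25 25 (.node 24 24 .nil .nil) (.node 26 26 .nil .nil)) (.node 29 29 (.node 28 28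 .nil .nil) .nil)))) (.node 45 45 (.node 38 38 (.node 34 34 (.node 32 32 (.node 31 31 .nil .nil) (.node 33 33 .nil .nil)) (.node 36 36 (.node 35 35 .nil .nil) (.node 37 37 .nil .nil))) (.node 42 42 (.node 40 40 (.node 39 39 .nil .nil) (.node 41 41 .nil .nil)) (.node 44 44 (.node 43 43 .nil .nil) .nil))) (.node 53 53 (.node 49 49 (.node 47 47 (.node 46 46 .nil .nil) (.node 48 48 .nil .nil)) (.node 51 51 (.node 50 50 .nil .nil) (.node 52 52 .nil .nil))) (.node 57 79 (.node 55 55 (.node 54 54 .nil .nil) (.node 56 78 .nil .nil)) (.node 59 81 (.node 58 80 .nil .nil) .nil))))) (.node 90 68 (.node 75 103 (.node 68 90 (.node 64 86 (.node 62 84 (.node 61 83 .nil .nil) (.node 63 85 .nil .nil)) (.node 66 88 (.node 65 87 .nil .nil) (.node 67 89 .nil .nil))) (.node 72 100 (.node 70 92 (.node 69 91 .nil .nil) (.node 71 99 .nil .nil)) (.node 74 102 (.node 73 101 .nil .nil) .nil))) (.node 83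 61 (.node 79 57 (.node 77 162 (.node 76 104 .nil .nil) (.node 78 56 .nil .nil)) (.node 81 59 (.node 80 58 .nil .nil) (.node 82 60 .nil .nil))) (.node 87 65 (.node 85 63 (.node 84 62 .nil .nil) (.node 86 64 .nil .nil)) (.node 89 67 (.node 88 66 .nil .nil) .nil)))) (.node 105 105 (.node 98 98 (.node 94 94 (.node 92 70 (.node 91 69 .nil .nil) (.node 93 93 .nil .nil)) (.node 96 96 (.node 95 95 .nil .nil) (.node 97 97 .nil .nil))) (.node 102 74 (.node 100 72 (.node 99 71 .nil .nil) (.node 101 73 .nil .nil)) (.node 104 76 (.node 103 75 .nil .nil) .nil))) (.node 113 113 (.node 109 109 (.node 107 107 (.node 106 106 .nil .nil) (.node 108 108 .nil .nil)) (.node 111 111 (.node 110 110 .nil .nil) (.node 112 112 .nil .nil))) (.node 117 117 (.node 115 115 (.node 114 114 .nil .nil) (.node 116 116 .nil .nil)) (.node 119 119 (.node 118 118 .nil .nil) .nil)))))) (.node 180 158 (.node 150 172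 (.node 135 163 (.node 128 128 (.node 124 124 (.node 122 122 (.node 121 121 .nil .nil) (.node 123 123 .nil .nil)) (.node 126 126 (.node 125 125 .nil .nil) (.node 127 127 .nil .nil))) (.node 132 132 (.node 130 130 (.node 129 129 .nil .nil) (.node 131 131 .nil .nil)) (.node 134 134 (.node 133 133 .nil .nil) .nil))) (.node 143 143 (.node 139 167 (.node 137 165 (.node 136 164 .nil .nil) (.node 138 166 .nil .nil)) (.node 141 141 (.node 140 168 .nil .nil) (.node 142 142 .nil .nil))) (.node 147 169 (.node 145 145 (.node 144 144 .nil .nil) (.node 146 146 .nil .nil)) (.node 149 171 (.node 148 170 .nil .nil) .nil)))) (.node 165 137 (.node 158 180 (.node 154 176 (.node 152 174 (.node 151 173 .nil .nil) (.node 153 175 .nil .nil)) (.node 156 178 (.node 155 177 .nil .nil) (.node 157 179 .nil .nil))) (.node 162 77 (.node 160 182 (.node 159 181 .nil .nil) (.node 161 183 .nil .nil)) (.node 164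 136 (.node 163 135 .nil .nil) .nil))) (.node 173 151 (.node 169 147 (.node 167 139 (.node 166 138 .nil .nil) (.node 168 140 .nil .nil)) (.node 171 149 (.node 170 148 .nil .nil) (.node 172 150 .nil .nil))) (.node 177 155 (.node 175 153 (.node 174 152 .nil .nil) (.node 176 154 .nil .nil)) (.node 179 157 (.node 178 156 .nil .nil) .nil))))) (.node 210 210 (.node 195 195 (.node 188 188 (.node 184 184 (.node 182 160 (.node 181 159 .nil .nil) (.node 183 161 .nil .nil)) (.node 186 186 (.node 185 185 .nil .nil) (.node 187 187 .nil .nil))) (.node 192 192 (.node 190 190 (.node 189 189 .nil .nil) (.node 191 191 .nil .nil)) (.node 194 194 (.node 193 193 .nil .nil) .nil))) (.node 203 203 (.node 199 199 (.node 197 197 (.node 196 196 .nil .nil) (.node 198 198 .nil .nil)) (.node 201 201 (.node 200 200 .nil .nil) (.node 202 202 .nil .nil))) (.node 207 207 (.node 205 205 (.node 204 204 .nil .nil)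 (.node 206 206 .nil .nil)) (.node 209 209 (.node 208 208 .nil .nil) .nil)))) (.node 225 233 (.node 218 218 (.node 214 214 (.node 212 212 (.node 211 211 .nil .nil) (.node 213 213 .nil .nil)) (.node 216 216 (.node 215 215 .nil .nil) (.node 217 217 .nil .nil))) (.node 222 229 (.node 220 227 (.node 219 226 .nil .nil) (.node 221 228 .nil .nil)) (.node 224 231 (.node 223 230 .nil .nil) .nil))) (.node 233 225 (.node 229 222 (.node 227 220 (.node 226 219 .nil .nil) (.node 228 221 .nil .nil)) (.node 231 224 (.node 230 223 .nil .nil) (.node 232 232 .nil .nil))) (.node 237 237 (.node 235 235 (.node 234 234 .nil .nil) (.node 236 236 .nil .nil)) (.node 239 239 (.node 238 238 .nil .nil) .nil))))))) .nil .nil) .nil) (.node 3 (.node 120 120 (.node 60 60 (.node 30 30 (.node 15 16 (.node 7 7 (.node 3 3 (.node 1 1 (.node 0 0 .nil .nil) (.node 2 2 .nil .nil)) (.node 5 4 (.node 4 5 .nil .nil) (.node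 6 6 .nil .nil))) (.node 11 11 (.node 9 8 (.node 8 9 .nil .nil) (.node 10 10 .nil .nil)) (.node 13 13 (.node 12 12 .nil .nil) (.node 14 14 .nil .nil)))) (.node 23 27 (.node 19 19 (.node 17 17 (.node 16 15 .nil .nil) (.node 18 18 .nil .nil)) (.node 21 21 (.node 20 20 .nil .nil) (.node 22 26 .nil .nil))) (.node 27 23 (.node 25 29 (.node 24 28 .nil .nil) (.node 26 22 .nil .nil)) (.node 29 25 (.node 28 24 .nil .nil) .nil)))) (.node 45 51 (.node 38 38 (.node 34 34 (.node 32 32 (.node 31 31 .nil .nil) (.node 33 33 .nil .nil)) (.node 36 36 (.node 35 35 .nil .nil) (.node 37 37 .nil .nil))) (.node 42 48 (.node 40 46 (.node 39 39 .nil .nil) (.node 41 47 .nil .nil)) (.node 44 50 (.node 43 49 .nil .nil) .nil))) (.node 53 53 (.node 49 43 (.node 47 41 (.node 46 40 .nil .nil) (.node 48 42 .nil .nil)) (.node 51 45 (.node 50 44 .nil .nil) (.node 52 52 .nil .nil))) (.node 57 57 (.node 55 55 (.node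 54 54 .nil .nil) (.node 56 56 .nil .nil)) (.node 59 59 (.node 58 58 .nil .nil) .nil))))) (.node 90 86 (.node 75 76 (.node 68 64 (.node 64 68 (.node 62 66 (.node 61 61 .nil .nil) (.node 63 67 .nil .nil)) (.node 66 62 (.node 65 69 .nil .nil) (.node 67 63 .nil .nil))) (.node 72 72 (.node 70 70 (.node 69 65 .nil .nil) (.node 71 71 .nil .nil)) (.node 74 74 (.node 73 73 .nil .nil) .nil))) (.node 83 83 (.node 79 79 (.node 77 77 (.node 76 75 .nil .nil) (.node 78 78 .nil .nil)) (.node 81 81 (.node 80 80 .nil .nil) (.node 82 82 .nil .nil))) (.node 87 91 (.node 85 89 (.node 84 88 .nil .nil) (.node 86 90 .nil .nil)) (.node 89 85 (.node 88 84 .nil .nil) .nil)))) (.node 105 110 (.node 98 97 (.node 94 94 (.node 92 92 (.node 91 87 .nil .nil) (.node 93 93 .nil .nil)) (.node 96 96 (.node 95 95 .nil .nil) (.node 97 98 .nil .nil))) (.node 102 102 (.node 100 100 (.node 99 99 .nil .nil) (.node 101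 101 .nil .nil)) (.node 104 103 (.node 103 104 .nil .nil) .nil))) (.node 113 108 (.node 109 130 (.node 107 112 (.node 106 111 .nil .nil) (.node 108 113 .nil .nil)) (.node 111 106 (.node 110 105 .nil .nil) (.node 112 107 .nil .nil))) (.node 117 117 (.node 115 115 (.node 114 114 .nil .nil) (.node 116 116 .nil .nil)) (.node 119 119 (.node 118 118 .nil .nil) .nil)))))) (.node 180 180 (.node 150 154 (.node 135 136 (.node 128 133 (.node 124 124 (.node 122 122 (.node 121 121 .nil .nil) (.node 123 123 .nil .nil)) (.node 126 131 (.node 125 125 .nil .nil) (.node 127 132 .nil .nil))) (.node 132 127 (.node 130 109 (.node 129 134 .nil .nil) (.node 131 126 .nil .nil)) (.node 134 129 (.node 133 128 .nil .nil) .nil))) (.node 143 143 (.node 139 139 (.node 137 137 (.node 136 135 .nil .nil) (.node 138 138 .nil .nil)) (.node 141 142 (.node 140 140 .nil .nil) (.node 142 141 .nil .nil))) (.node 147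 147 (.node 145 145 (.node 144 144 .nil .nil) (.node 146 146 .nil .nil)) (.node 149 153 (.node 148 152 .nil .nil) .nil)))) (.node 165 165 (.node 158 158 (.node 154 150 (.node 152 148 (.node 151 155 .nil .nil) (.node 153 149 .nil .nil)) (.node 156 156 (.node 155 151 .nil .nil) (.node 157 157 .nil .nil))) (.node 162 162 (.node 160 160 (.node 159 159 .nil .nil) (.node 161 161 .nil .nil)) (.node 164 163 (.node 163 164 .nil .nil) .nil))) (.node 173 177 (.node 169 169 (.node 167 167 (.node 166 166 .nil .nil) (.node 168 168 .nil .nil)) (.node 171 175 (.node 170 174 .nil .nil) (.node 172 176 .nil .nil))) (.node 177 173 (.node 175 171 (.node 174 170 .nil .nil) (.node 176 172 .nil .nil)) (.node 179 179 (.node 178 178 .nil .nil) .nil))))) (.node 210 214 (.node 195 189 (.node 188 194 (.node 184 184 (.node 182 182 (.node 181 181 .nil .nil) (.node 183 183 .nil .nil)) (.node 186 186 (.node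 185 185 .nil .nil) (.node 187 187 .nil .nil))) (.node 192 198 (.node 190 196 (.node 189 195 .nil .nil) (.node 191 197 .nil .nil)) (.node 194 188 (.node 193 199 .nil .nil) .nil))) (.node 203 203 (.node 199 193 (.node 197 191 (.node 196 190 .nil .nil) (.node 198 192 .nil .nil)) (.node 201 201 (.node 200 200 .nil .nil) (.node 202 202 .nil .nil))) (.node 207 207 (.node 205 205 (.node 204 204 .nil .nil) (.node 206 206 .nil .nil)) (.node 209 209 (.node 208 208 .nil .nil) .nil)))) (.node 225 225 (.node 218 218 (.node 214 210 (.node 212 216 (.node 211 215 .nil .nil) (.node 213 217 .nil .nil)) (.node 216 212 (.node 215 211 .nil .nil) (.node 217 213 .nil .nil))) (.node 222 222 (.node 220 220 (.node 219 219 .nil .nil) (.node 221 221 .nil .nil)) (.node 224 223 (.node 223 224 .nil .nil) .nil))) (.node 233 233 (.node 229 229 (.node 227 227 (.node 226 226 .nil .nil) (.node 228 228 .nil .nil))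 (.node 231 230 (.node 230 231 .nil .nil) (.node 232 232 .nil .nil))) (.node 237 237 (.node 235 234 (.node 234 235 .nil .nil) (.node 236 236 .nil .nil)) (.node 239 239 (.node 238 238 .nil .nil) .nil))))))) .nil .nil)) (.node 6 (.node 120 122 (.node 60 61 (.node 30 31 (.node 15 15 (.node 7 7 (.node 3 3 (.node 1 2 (.node 0 0 .nil .nil) (.node 2 1 .nil .nil)) (.node 5 5 (.node 4 4 .nil .nil) (.node 6 6 .nil .nil))) (.node 11 12 (.node 9 9 (.node 8 8 .nil .nil) (.node 10 10 .nil .nil)) (.node 13 13 (.node 12 11 .nil .nil) (.node 14 14 .nil .nil)))) (.node 23 24 (.node 19 18 (.node 17 17 (.node 16 16 .nil .nil) (.node 18 19 .nil .nil)) (.node 21 21 (.node 20 20 .nil .nil) (.node 22 22 .nil .nil))) (.node 27 28 (.node 25 25 (.node 24 23 .nil .nil) (.node 26 26 .nil .nil)) (.node 29 29 (.node 28 27 .nil .nil) .nil)))) (.node 45 44 (.node 38 37 (.node 34 35 (.node 32 32 (.node 31 30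 .nil .nil) (.node 33 33 .nil .nil)) (.node 36 36 (.node 35 34 .nil .nil) (.node 37 38 .nil .nil))) (.node 42 42 (.node 40 41 (.node 39 39 .nil .nil) (.node 41 40 .nil .nil)) (.node 44 45 (.node 43 43 .nil .nil) .nil))) (.node 53 54 (.node 49 49 (.node 47 46 (.node 46 47 .nil .nil) (.node 48 48 .nil .nil)) (.node 51 50 (.node 50 51 .nil .nil) (.node 52 52 .nil .nil))) (.node 57 56 (.node 55 55 (.node 54 53 .nil .nil) (.node 56 57 .nil .nil)) (.node 59 59 (.node 58 58 .nil .nil) .nil))))) (.node 90 89 (.node 75 75 (.node 68 67 (.node 64 63 (.node 62 62 (.node 61 60 .nil .nil) (.node 63 64 .nil .nil)) (.node 66 66 (.node 65 65 .nil .nil) (.node 67 68 .nil .nil))) (.node 72 73 (.node 70 70 (.node 69 69 .nil .nil) (.node 71 71 .nil .nil)) (.node 74 74 (.node 73 72 .nil .nil) .nil))) (.node 83 82 (.node 79 78 (.node 77 77 (.node 76 76 .nil .nil) (.node 78 79 .nil .nil)) (.node 81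 81 (.node 80 80 .nil .nil) (.node 82 83 .nil .nil))) (.node 87 87 (.node 85 86 (.node 84 84 .nil .nil) (.node 86 85 .nil .nil)) (.node 89 90 (.node 88 88 .nil .nil) .nil)))) (.node 105 105 (.node 98 98 (.node 94 95 (.node 92 92 (.node 91 91 .nil .nil) (.node 93 93 .nil .nil)) (.node 96 96 (.node 95 94 .nil .nil) (.node 97 97 .nil .nil))) (.node 102 102 (.node 100 101 (.node 99 99 .nil .nil) (.node 101 100 .nil .nil)) (.node 104 104 (.node 103 103 .nil .nil) .nil))) (.node 113 113 (.node 109 109 (.node 107 106 (.node 106 107 .nil .nil) (.node 108 108 .nil .nil)) (.node 111 112 (.node 110 110 .nil .nil) (.node 112 111 .nil .nil))) (.node 117 119 (.node 115 116 (.node 114 114 .nil .nil) (.node 116 115 .nil .nil)) (.node 119 117 (.node 118 121 .nil .nil) .nil)))))) (.node 180 180 (.node 150 149 (.node 135 135 (.node 128 127 (.node 124 123 (.node 122 120 (.node 121 118 .nil .nil)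 (.node 123 124 .nil .nil)) (.node 126 126 (.node 125 125 .nil .nil) (.node 127 128 .nil .nil))) (.node 132 133 (.node 130 130 (.node 129 129 .nil .nil) (.node 131 131 .nil .nil)) (.node 134 134 (.node 133 132 .nil .nil) .nil))) (.node 143 143 (.node 139 138 (.node 137 137 (.node 136 136 .nil .nil) (.node 138 139 .nil .nil)) (.node 141 141 (.node 140 140 .nil .nil) (.node 142 142 .nil .nil))) (.node 147 147 (.node 145 144 (.node 144 145 .nil .nil) (.node 146 146 .nil .nil)) (.node 149 150 (.node 148 148 .nil .nil) .nil)))) (.node 165 165 (.node 158 158 (.node 154 153 (.node 152 152 (.node 151 151 .nil .nil) (.node 153 154 .nil .nil)) (.node 156 157 (.node 155 155 .nil .nil) (.node 157 156 .nil .nil))) (.node 162 162 (.node 160 161 (.node 159 159 .nil .nil) (.node 161 160 .nil .nil)) (.node 164 164 (.node 163 163 .nil .nil) .nil))) (.node 173 173 (.node 169 169 (.node 167 166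 (.node 166 167 .nil .nil) (.node 168 168 .nil .nil)) (.node 171 172 (.node 170 170 .nil .nil) (.node 172 171 .nil .nil))) (.node 177 177 (.node 175 176 (.node 174 174 .nil .nil) (.node 176 175 .nil .nil)) (.node 179 178 (.node 178 179 .nil .nil) .nil))))) (.node 210 210 (.node 195 194 (.node 188 189 (.node 184 184 (.node 182 183 (.node 181 181 .nil .nil) (.node 183 182 .nil .nil)) (.node 186 185 (.node 185 186 .nil .nil) (.node 187 187 .nil .nil))) (.node 192 193 (.node 190 190 (.node 189 188 .nil .nil) (.node 191 191 .nil .nil)) (.node 194 195 (.node 193 192 .nil .nil) .nil))) (.node 203 203 (.node 199 198 (.node 197 197 (.node 196 196 .nil .nil) (.node 198 199 .nil .nil)) (.node 201 202 (.node 200 200 .nil .nil) (.node 202 201 .nil .nil))) (.node 207 207 (.node 205 204 (.node 204 205 .nil .nil) (.node 206 206 .nil .nil)) (.node 209 208 (.node 208 209 .nil .nil) .nil)))) (.node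 225 225 (.node 218 218 (.node 214 214 (.node 212 211 (.node 211 212 .nil .nil) (.node 213 213 .nil .nil)) (.node 216 215 (.node 215 216 .nil .nil) (.node 217 217 .nil .nil))) (.node 222 222 (.node 220 221 (.node 219 219 .nil .nil) (.node 221 220 .nil .nil)) (.node 224 224 (.node 223 223 .nil .nil) .nil))) (.node 233 233 (.node 229 229 (.node 227 228 (.node 226 226 .nil .nil) (.node 228 227 .nil .nil)) (.node 231 231 (.node 230 230 .nil .nil) (.node 232 232 .nil .nil))) (.node 237 238 (.node 235 235 (.node 234 234 .nil .nil) (.node 236 236 .nil .nil)) (.node 239 239 (.node 238 237 .nil .nil) .nil))))))) (.node 5 (.node 120 120 (.node 60 58 (.node 30 30 (.node 15 15 (.node 7 7 (.node 3 2 (.node 1 1 (.node 0 0 .nil .nil) (.node 2 3 .nil .nil)) (.node 5 5 (.node 4 4 .nil .nil) (.node 6 6 .nil .nil))) (.node 11 10 (.node 9 9 (.node 8 8 .nil .nil) (.node 10 11 .nil .nil)) (.node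 13 13 (.node 12 12 .nil .nil) (.node 14 14 .nil .nil)))) (.node 23 22 (.node 19 19 (.node 17 18 (.node 16 16 .nil .nil) (.node 18 17 .nil .nil)) (.node 21 21 (.node 20 20 .nil .nil) (.node 22 23 .nil .nil))) (.node 27 26 (.node 25 25 (.node 24 24 .nil .nil) (.node 26 27 .nil .nil)) (.node 29 29 (.node 28 28 .nil .nil) .nil)))) (.node 45 45 (.node 38 38 (.node 34 32 (.node 32 34 (.node 31 33 .nil .nil) (.node 33 31 .nil .nil)) (.node 36 37 (.node 35 35 .nil .nil) (.node 37 36 .nil .nil))) (.node 42 44 (.node 40 40 (.node 39 39 .nil .nil) (.node 41 43 .nil .nil)) (.node 44 42 (.node 43 41 .nil .nil) .nil))) (.node 53 53 (.node 49 47 (.node 47 49 (.node 46 46 .nil .nil) (.node 48 50 .nil .nil)) (.node 51 51 (.node 50 48 .nil .nil) (.node 52 52 .nil .nil))) (.node 57 59 (.node 55 54 (.node 54 55 .nil .nil) (.node 56 56 .nil .nil)) (.node 59 57 (.node 58 60 .nil .nil) .nil)))))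 (.node 90 91 (.node 75 75 (.node 68 69 (.node 64 65 (.node 62 62 (.node 61 61 .nil .nil) (.node 63 63 .nil .nil)) (.node 66 66 (.node 65 64 .nil .nil) (.node 67 67 .nil .nil))) (.node 72 72 (.node 70 70 (.node 69 68 .nil .nil) (.node 71 71 .nil .nil)) (.node 74 73 (.node 73 74 .nil .nil) .nil))) (.node 83 83 (.node 79 81 (.node 77 77 (.node 76 76 .nil .nil) (.node 78 78 .nil .nil)) (.node 81 79 (.node 80 82 .nil .nil) (.node 82 80 .nil .nil))) (.node 87 86 (.node 85 85 (.node 84 84 .nil .nil) (.node 86 87 .nil .nil)) (.node 89 89 (.node 88 88 .nil .nil) .nil)))) (.node 105 105 (.node 98 98 (.node 94 94 (.node 92 92 (.node 91 90 .nil .nil) (.node 93 93 .nil .nil)) (.node 96 95 (.node 95 96 .nil .nil) (.node 97 97 .nil .nil))) (.node 102 101 (.node 100 100 (.node 99 99 .nil .nil) (.node 101 102 .nil .nil)) (.node 104 104 (.node 103 103 .nil .nil) .nil))) (.node 113 112 (.node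 109 109 (.node 107 108 (.node 106 106 .nil .nil) (.node 108 107 .nil .nil)) (.node 111 111 (.node 110 110 .nil .nil) (.node 112 113 .nil .nil))) (.node 117 114 (.node 115 118 (.node 114 117 .nil .nil) (.node 116 123 .nil .nil)) (.node 119 119 (.node 118 115 .nil .nil) .nil)))))) (.node 180 182 (.node 150 150 (.node 135 135 (.node 128 128 (.node 124 121 (.node 122 125 (.node 121 124 .nil .nil) (.node 123 116 .nil .nil)) (.node 126 127 (.node 125 122 .nil .nil) (.node 127 126 .nil .nil))) (.node 132 131 (.node 130 130 (.node 129 129 .nil .nil) (.node 131 132 .nil .nil)) (.node 134 134 (.node 133 133 .nil .nil) .nil))) (.node 143 144 (.node 139 139 (.node 137 138 (.node 136 136 .nil .nil) (.node 138 137 .nil .nil)) (.node 141 141 (.node 140 140 .nil .nil) (.node 142 142 .nil .nil))) (.node 147 147 (.node 145 145 (.node 144 143 .nil .nil) (.node 146 146 .nil .nil)) (.node 149 148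 (.node 148 149 .nil .nil) .nil)))) (.node 165 166 (.node 158 160 (.node 154 154 (.node 152 153 (.node 151 151 .nil .nil) (.node 153 152 .nil .nil)) (.node 156 156 (.node 155 155 .nil .nil) (.node 157 159 .nil .nil))) (.node 162 162 (.node 160 158 (.node 159 157 .nil .nil) (.node 161 161 .nil .nil)) (.node 164 164 (.node 163 163 .nil .nil) .nil))) (.node 173 173 (.node 169 169 (.node 167 167 (.node 166 165 .nil .nil) (.node 168 168 .nil .nil)) (.node 171 170 (.node 170 171 .nil .nil) (.node 172 172 .nil .nil))) (.node 177 177 (.node 175 174 (.node 174 175 .nil .nil) (.node 176 176 .nil .nil)) (.node 179 181 (.node 178 178 .nil .nil) .nil))))) (.node 210 210 (.node 195 197 (.node 188 188 (.node 184 185 (.node 182 180 (.node 181 179 .nil .nil) (.node 183 183 .nil .nil)) (.node 186 186 (.node 185 184 .nil .nil) (.node 187 187 .nil .nil))) (.node 192 190 (.node 190 192 (.node 189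 191 .nil .nil) (.node 191 189 .nil .nil)) (.node 194 194 (.node 193 193 .nil .nil) .nil))) (.node 203 202 (.node 199 199 (.node 197 195 (.node 196 198 .nil .nil) (.node 198 196 .nil .nil)) (.node 201 201 (.node 200 200 .nil .nil) (.node 202 203 .nil .nil))) (.node 207 205 (.node 205 207 (.node 204 204 .nil .nil) (.node 206 208 .nil .nil)) (.node 209 209 (.node 208 206 .nil .nil) .nil)))) (.node 225 225 (.node 218 218 (.node 214 214 (.node 212 213 (.node 211 211 .nil .nil) (.node 213 212 .nil .nil)) (.node 216 217 (.node 215 215 .nil .nil) (.node 217 216 .nil .nil))) (.node 222 221 (.node 220 220 (.node 219 219 .nil .nil) (.node 221 222 .nil .nil)) (.node 224 224 (.node 223 223 .nil .nil) .nil))) (.node 233 233 (.node 229 228 (.node 227 227 (.node 226 226 .nil .nil) (.node 228 229 .nil .nil)) (.node 231 231 (.node 230 230 .nil .nil) (.node 232 232 .nil .nil))) (.node 237 236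 (.node 235 235 (.node 234 234 .nil .nil) (.node 236 237 .nil .nil)) (.node 239 239 (.node 238 238 .nil .nil) .nil))))))) .nil .nil) (.node 7 (.node 120 119 (.node 60 59 (.node 30 30 (.node 15 15 (.node 7 7 (.node 3 3 (.node 1 0 (.node 0 1 .nil .nil) (.node 2 2 .nil .nil)) (.node 5 5 (.node 4 4 .nil .nil) (.node 6 6 .nil .nil))) (.node 11 11 (.node 9 9 (.node 8 8 .nil .nil) (.node 10 10 .nil .nil)) (.node 13 12 (.node 12 13 .nil .nil) (.node 14 14 .nil .nil)))) (.node 23 23 (.node 19 20 (.node 17 17 (.node 16 16 .nil .nil) (.node 18 18 .nil .nil)) (.node 21 21 (.node 20 19 .nil .nil) (.node 22 22 .nil .nil))) (.node 27 27 (.node 25 24 (.node 24 25 .nil .nil) (.node 26 26 .nil .nil)) (.node 29 28 (.node 28 29 .nil .nil) .nil)))) (.node 45 45 (.node 38 39 (.node 34 33 (.node 32 31 (.node 31 32 .nil .nil) (.node 33 34 .nil .nil)) (.node 36 36 (.node 35 35 .nil .nil) (.node 37 37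 .nil .nil))) (.node 42 41 (.node 40 40 (.node 39 38 .nil .nil) (.node 41 42 .nil .nil)) (.node 44 43 (.node 43 44 .nil .nil) .nil))) (.node 53 52 (.node 49 50 (.node 47 48 (.node 46 46 .nil .nil) (.node 48 47 .nil .nil)) (.node 51 51 (.node 50 49 .nil .nil) (.node 52 53 .nil .nil))) (.node 57 58 (.node 55 55 (.node 54 54 .nil .nil) (.node 56 56 .nil .nil)) (.node 59 60 (.node 58 57 .nil .nil) .nil))))) (.node 90 90 (.node 75 75 (.node 68 68 (.node 64 64 (.node 62 63 (.node 61 61 .nil .nil) (.node 63 62 .nil .nil)) (.node 66 67 (.node 65 65 .nil .nil) (.node 67 66 .nil .nil))) (.node 72 71 (.node 70 70 (.node 69 69 .nil .nil) (.node 71 72 .nil .nil)) (.node 74 74 (.node 73 73 .nil .nil) .nil))) (.node 83 83 (.node 79 80 (.node 77 77 (.node 76 76 .nil .nil) (.node 78 78 .nil .nil)) (.node 81 82 (.node 80 79 .nil .nil) (.node 82 81 .nil .nil))) (.node 87 87 (.node 85 84 (.node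 84 85 .nil .nil) (.node 86 86 .nil .nil)) (.node 89 88 (.node 88 89 .nil .nil) .nil)))) (.node 105 106 (.node 98 98 (.node 94 93 (.node 92 92 (.node 91 91 .nil .nil) (.node 93 94 .nil .nil)) (.node 96 96 (.node 95 95 .nil .nil) (.node 97 97 .nil .nil))) (.node 102 102 (.node 100 99 (.node 99 100 .nil .nil) (.node 101 101 .nil .nil)) (.node 104 104 (.node 103 103 .nil .nil) .nil))) (.node 113 113 (.node 109 109 (.node 107 107 (.node 106 105 .nil .nil) (.node 108 108 .nil .nil)) (.node 111 110 (.node 110 111 .nil .nil) (.node 112 112 .nil .nil))) (.node 117 118 (.node 115 114 (.node 114 115 .nil .nil) (.node 116 116 .nil .nil)) (.node 119 120 (.node 118 117 .nil .nil) .nil)))))) (.node 180 179 (.node 150 151 (.node 135 135 (.node 128 129 (.node 124 125 (.node 122 121 (.node 121 122 .nil .nil) (.node 123 123 .nil .nil)) (.node 126 126 (.node 125 124 .nil .nil) (.node 127 127 .nil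 .nil))) (.node 132 132 (.node 130 130 (.node 129 128 .nil .nil) (.node 131 131 .nil .nil)) (.node 134 133 (.node 133 134 .nil .nil) .nil))) (.node 143 143 (.node 139 140 (.node 137 137 (.node 136 136 .nil .nil) (.node 138 138 .nil .nil)) (.node 141 141 (.node 140 139 .nil .nil) (.node 142 142 .nil .nil))) (.node 147 147 (.node 145 146 (.node 144 144 .nil .nil) (.node 146 145 .nil .nil)) (.node 149 149 (.node 148 148 .nil .nil) .nil)))) (.node 165 165 (.node 158 157 (.node 154 155 (.node 152 152 (.node 151 150 .nil .nil) (.node 153 153 .nil .nil)) (.node 156 156 (.node 155 154 .nil .nil) (.node 157 158 .nil .nil))) (.node 162 162 (.node 160 159 (.node 159 160 .nil .nil) (.node 161 161 .nil .nil)) (.node 164 164 (.node 163 163 .nil .nil) .nil))) (.node 173 172 (.node 169 169 (.node 167 168 (.node 166 166 .nil .nil) (.node 168 167 .nil .nil)) (.node 171 171 (.node 170 170 .nil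 .nil) (.node 172 173 .nil .nil))) (.node 177 176 (.node 175 175 (.node 174 174 .nil .nil) (.node 176 177 .nil .nil)) (.node 179 180 (.node 178 178 .nil .nil) .nil))))) (.node 210 211 (.node 195 196 (.node 188 188 (.node 184 184 (.node 182 181 (.node 181 182 .nil .nil) (.node 183 183 .nil .nil)) (.node 186 187 (.node 185 185 .nil .nil) (.node 187 186 .nil .nil))) (.node 192 191 (.node 190 189 (.node 189 190 .nil .nil) (.node 191 192 .nil .nil)) (.node 194 194 (.node 193 193 .nil .nil) .nil))) (.node 203 203 (.node 199 199 (.node 197 198 (.node 196 195 .nil .nil) (.node 198 197 .nil .nil)) (.node 201 200 (.node 200 201 .nil .nil) (.node 202 202 .nil .nil))) (.node 207 208 (.node 205 206 (.node 204 204 .nil .nil) (.node 206 205 .nil .nil)) (.node 209 209 (.node 208 207 .nil .nil) .nil)))) (.node 225 225 (.node 218 218 (.node 214 215 (.node 212 212 (.node 211 210 .nil .nil) (.node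 213 213 .nil .nil)) (.node 216 216 (.node 215 214 .nil .nil) (.node 217 217 .nil .nil))) (.node 222 222 (.node 220 219 (.node 219 220 .nil .nil) (.node 221 221 .nil .nil)) (.node 224 224 (.node 223 223 .nil .nil) .nil))) (.node 233 233 (.node 229 229 (.node 227 226 (.node 226 227 .nil .nil) (.node 228 228 .nil .nil)) (.node 231 231 (.node 230 230 .nil .nil) (.node 232 232 .nil .nil))) (.node 237 237 (.node 235 235 (.node 234 234 .nil .nil) (.node 236 236 .nil .nil)) (.node 239 238 (.node 238 239 .nil .nil) .nil))))))) .nil .nil)))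

/-- The Coxeter exponents. -/
def mT : Tr (Tr ℕ) := (.node 4 (.node 4 1 (.node 2 2 (.node 1 2 (.node 0 2 .nil .nil) .nil) (.node 3 3 .nil .nil)) (.node 6 2 (.node 5 3 .nil .nil) (.node 7 2 .nil .nil))) (.node 2 (.node 4 2 (.node 2 1 (.node 1 2 (.node 0 3 .nil .nil) .nil) (.node 3 3 .nil .nil)) (.node 6 2 (.node 5 2 .nil .nil) (.node 7 2 .nil .nil))) (.node 1 (.node 4 2 (.node 2 2 (.node 1 1 (.node 0 2 .nil .nil) .nil) (.node 3 3 .nil .nil)) (.node 6 2 (.node 5 2 .nil .nil) (.node 7 2 .nil .nil))) (.node 0 (.node 4 2 (.node 2 3 (.node 1 2 (.node 0 1 .nil .nil) .nil) (.node 3 2 .nil .nil)) (.node 6 2 (.node 5 2 .nil .nil) (.node 7 2 .nil .nil))) .nil .nil) .nil) (.node 3 (.node 4 3 (.node 2 3 (.node 1 3 (.node 0 2 .nil .nil) .nil) (.node 3 1 .nil .nil)) (.node 6 2 (.node 5 2 .nil .nil) (.node 7 2 .nil .nil))) .nil .nil)) (.node 6 (.node 4 2 (.node 2 2 (.node 1 2 (.node 0 2 .nil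 .nil) .nil) (.node 3 2 .nil .nil)) (.node 6 1 (.node 5 3 .nil .nil) (.node 7 3 .nil .nil))) (.node 5 (.node 4 3 (.node 2 2 (.node 1 2 (.node 0 2 .nil .nil) .nil) (.node 3 2 .nil .nil)) (.node 6 3 (.node 5 1 .nil .nil) (.node 7 2 .nil .nil))) .nil .nil) (.node 7 (.node 4 2 (.node 2 2 (.node 1 2 (.node 0 2 .nil .nil) .nil) (.node 3 2 .nil .nil)) (.node 6 3 (.node 5 2 .nil .nil) (.node 7 1 .nil .nil))) .nil .nil)))

def sg (i y : ℕ) : ℕ := Tr.find 0 (Tr.find Tr.nil sgT i) y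
def mF (a b : ℕ) : ℕ := Tr.find 1 (Tr.find Tr.nil mT a) b

theorem hP : permOK 8 240 mF sg = true := by decide +kernel
theorem hpos : mposOK 8 mF = true := by decide +kernel
theorem hM : ∀ i j : Fin 8, Mx i j = mF i j := hM_of_check Mx (by decide +kernel)

def L0 : Lvl where
  K := [2]
  J := []
  x := 5
  mc := 2
  dT := (.node 1 (.node 2 0 .nil .nil) (.node 0 (.node 2 1 .nil .nil) .nil .nil) .nil)
  cT := (.node 1 (.node 2 (2, 4) .nil .nil) (.node 0 (.node 2 (1, 0) .nil .nil) .nil .nil) .nil)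
  wT := (.node 1 [2] (.node 0 [] .nil .nil) .nil)

theorem tab0 : tableOK L0 mF = true := by decide +kernel
theorem orb0 : orbitOK L0 sg = true := by decide +kernel
theorem kn0 : lall (fun j => Nat.blt j 8) L0.K = true := by decide +kernel

def L1 : Lvl where
  K := [2, 3]
  J := [2]
  x := 4
  mc := 3
  dT := (.node 1 (.node 3 0 (.node 2 2 .nil .nil) .nil) (.node 0 (.node 3 1 (.node 2 0 .nil .nil) .nil) .nil .nil) (.node 2 (.node 3 2 (.node 2 1 .nil .nil) .nil) .nil .nil))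
  cT := (.node 1 (.node 3 (4, 5) (.node 2 (2, 0) .nil .nil) .nil) (.node 0 (.node 3 (1, 0) (.node 2 (3, 1) .nil .nil) .nil) .nil .nil) (.node 2 (.node 3 (6, 4) (.node 2 (5, 4) .nil .nil) .nil) .nil .nil))
  wT := (.node 1 [3] (.node 0 [] .nil .nil) (.node 2 [3, 2] .nil .nil))

theorem tab1 : tableOK L1 mF = true := by decide +kernel
theorem orb1 : orbitOK L1 sg = true := by decide +kernel
theorem kn1 : lall (fun j => Nat.blt j 8) L1.K = true := by decide +kernel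

def L2 : Lvl where
  K := [1, 2, 3]
  J := [2, 3]
  x := 14
  mc := 4
  dT := (.node 2 (.node 2 3 (.node 1 2 .nil .nil) (.node 3 1 .nil .nil)) (.node 1 (.node 2 1 (.node 1 0 .nil .nil) (.node 3 2 .nil .nil)) (.node 0 (.node 2 0 (.node 1 1 .nil .nil) (.node 3 0 .nil .nil)) .nil .nil) .nil) (.node 3 (.node 2 2 (.node 1 3 .nil .nil) (.node 3 3 .nil .nil)) .nil .nil))
  cT := (.node 2 (.node 2 (3, 0) (.node 1 (11, 5) .nil .nil) (.node 3 (8, 5) .nil .nil)) (.node 1 (.node 2 (7, 3) (.node 1 (6, 3) .nil .nil) (.node 3 (2, 0) .nil .nil)) (.node 0 (.node 2 (4, 1) (.node 1 (1, 0) .nil .nil) (.node 3 (5, 1) .nil .nil)) .nil .nil) .nil) (.node 3 (.node 2 (9, 4) (.node 1 (12, 4) .nil .nil) (.node 3 (10, 4) .nil .nil)) .nil .nil))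
  wT := (.node 2 [1, 3] (.node 1 [1] (.node 0 [] .nil .nil) .nil) (.node 3 [1, 3, 2] .nil .nil))

theorem tab2 : tableOK L2 mF = true := by decide +kernel
theorem orb2 : orbitOK L2 sg = true := by decide +kernel
theorem kn2 : lall (fun j => Nat.blt j 8) L2.K = true := by decide +kernel

def L3 : Lvl where
  K := [1, 2, 3, 4]
  J := [1, 2, 3]
  x := 3
  mc := 8
  dT := (.node 4 (.node 3 4 (.node 2 2 (.node 1 5 .nil .nil) .nil) (.node 4 4 .nil .nil)) (.node 2 (.node 3 1 (.node 2 4 (.node 1 3 .nil .nil) .nil) (.node 4 2 .nil .nil)) (.node 1 (.node 3 2 (.node 2 1 (.node 1 1 .nil .nil) .nil) (.node 4 0 .nil .nil)) (.node 0 (.node 3 0 (.node 2 0 (.node 1 0 .nil .nil) .nil) (.node 4 1 .nil .nil)) .nil .nil) .nil) (.node 3 (.node 3 3 (.node 2 5 (.node 1 2 .nil .nil) .nil) (.node 4 3 .nil .nil)) .nil .nil)) (.node 6 (.node 3 5 (.node 2 6 (.node 1 6 .nil .nil) .nil) (.node 4 7 .nil .nil))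 (.node 5 (.node 3 6 (.node 2 3 (.node 1 4 .nil .nil) .nil) (.node 4 5 .nil .nil)) .nil .nil) (.node 7 (.node 3 7 (.node 2 7 (.node 1 7 .nil .nil) .nil) (.node 4 6 .nil .nil)) .nil .nil)))
  cT := (.node 4 (.node 3 (27, 4) (.node 2 (16, 4) (.node 1 (26, 3) .nil .nil) .nil) (.node 4 (17, 4) .nil .nil)) (.node 2 (.node 3 (12, 5) (.node 2 (4, 0) (.node 1 (3, 0) .nil .nil) .nil) (.node 4 (13, 5) .nil .nil)) (.node 1 (.node 3 (2, 0) (.node 2 (24, 6) (.node 1 (23, 6) .nil .nil) .nil) (.node 4 (11, 6) .nil .nil)) (.node 0 (.node 3 (10, 1) (.node 2 (9, 1) (.node 1 (8, 1) .nil .nil) .nil) (.node 4 (1, 0) .nil .nil)) .nil .nil) .nil) (.node 3 (.node 3 (25, 3) (.node 2 (5, 0) (.node 1 (14, 3) .nil .nil) .nil) (.node 4 (15, 3) .nil .nil)) .nil .nil)) (.node 6 (.node 3 (21, 5) (.node 2 (29, 5) (.node 1 (28, 5) .nil .nil) .nil) (.node 4 (7, 0) .nil .nil)) (.node 5 (.node 3 (6, 0) (.node 2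 (19, 4) (.node 1 (18, 4) .nil .nil) .nil) (.node 4 (20, 4) .nil .nil)) .nil .nil) (.node 7 (.node 3 (32, 6) (.node 2 (31, 6) (.node 1 (30, 6) .nil .nil) .nil) (.node 4 (22, 6) .nil .nil)) .nil .nil)))
  wT := (.node 4 [4, 3, 2] (.node 2 [4, 3] (.node 1 [4] (.node 0 [] .nil .nil) .nil) (.node 3 [4, 3, 1] .nil .nil)) (.node 6 [4, 3, 1, 2, 3] (.node 5 [4, 3, 1, 2] .nil .nil) (.node 7 [4, 3, 1, 2, 3, 4] .nil .nil)))

theorem tab3 : tableOK L3 mF = true := by decide +kernel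
theorem orb3 : orbitOK L3 sg = true := by decide +kernel
theorem kn3 : lall (fun j => Nat.blt j 8) L3.K = true := by decide +kernel

def L4 : Lvl where
  K := [0, 1, 2, 3, 4]
  J := [1, 2, 3, 4]
  x := 11
  mc := 10
  dT := (.node 5 (.node 2 5 (.node 1 6 (.node 0 5 .nil .nil) .nil) (.node 4 3 (.node 3 5 .nil .nil) .nil)) (.node 2 (.node 2 1 (.node 1 2 (.node 0 2 .nil .nil) .nil) (.node 4 2 (.node 3 3 .nil .nil) .nil)) (.node 1 (.node 2 2 (.node 1 1 (.node 0 0 .nil .nil) .nil) (.node 4 1 (.node 3 1 .nil .nil) .nil)) (.node 0 (.node 2 0 (.node 1 0 (.node 0 1 .nil .nil) .nil) (.node 4 0 (.node 3 0 .nil .nil) .nil)) .nil .nil) .nil) (.node 4 (.node 2 4 (.node 1 3 (.node 0 4 .nil .nil) .nil) (.node 4 6 (.node 3 4 .nil .nil) .nil)) (.node 3 (.node 2 3 (.node 1 4 (.node 0 3 .nil .nil) .nil) (.node 4 5 (.node 3 2 .nil .nil) .nil)) .nil .nil) .nil)) (.node 8 (.node 2 7 (.node 1 8 (.node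 0 9 .nil .nil) .nil) (.node 4 8 (.node 3 8 .nil .nil) .nil)) (.node 7 (.node 2 8 (.node 1 7 (.node 0 7 .nil .nil) .nil) (.node 4 7 (.node 3 6 .nil .nil) .nil)) (.node 6 (.node 2 6 (.node 1 5 (.node 0 6 .nil .nil) .nil) (.node 4 4 (.node 3 7 .nil .nil) .nil)) .nil .nil) .nil) (.node 9 (.node 2 9 (.node 1 9 (.node 0 8 .nil .nil) .nil) (.node 4 9 (.node 3 9 .nil .nil) .nil)) .nil .nil)))
  cT := (.node 5 (.node 2 (37, 6) (.node 1 (36, 3) (.node 0 (35, 6) .nil .nil) .nil) (.node 4 (22, 6) (.node 3 (38, 6) .nil .nil) .nil)) (.node 2 (.node 2 (18, 4) (.node 1 (29, 4) (.node 0 (28, 4) .nil .nil) .nil) (.node 4 (19, 4) (.node 3 (3, 0) .nil .nil) .nil)) (.node 1 (.node 2 (2, 0) (.node 1 (15, 2) (.node 0 (14, 2) .nil .nil) .nil) (.node 4 (17, 2) (.node 3 (16, 2) .nil .nil) .nil)) (.node 0 (.node 2 (11, 1) (.node 1 (10, 1) (.node 0 (1, 0) .nil .nil) .nil) (.node 4 (13, 1) (.node 3 (12,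 1) .nil .nil) .nil)) .nil .nil) .nil) (.node 4 (.node 2 (33, 3) (.node 1 (21, 3) (.node 0 (32, 3) .nil .nil) .nil) (.node 4 (6, 0) (.node 3 (34, 3) .nil .nil) .nil)) (.node 3 (.node 2 (31, 5) (.node 1 (4, 0) (.node 0 (30, 5) .nil .nil) .nil) (.node 4 (5, 0) (.node 3 (20, 5) .nil .nil) .nil)) .nil .nil) .nil)) (.node 8 (.node 2 (26, 4) (.node 1 (44, 4) (.node 0 (9, 0) .nil .nil) .nil) (.node 4 (46, 4) (.node 3 (45, 4) .nil .nil) .nil)) (.node 7 (.node 2 (8, 0) (.node 1 (42, 5) (.node 0 (41, 5) .nil .nil) .nil) (.node 4 (43, 5) (.node 3 (25, 5) .nil .nil) .nil)) (.node 6 (.node 2 (40, 3) (.node 1 (23, 6) (.node 0 (39, 3) .nil .nil) .nil) (.node 4 (24, 6) (.node 3 (7, 0) .nil .nil) .nil)) .nil .nil) .nil) (.node 9 (.node 2 (48, 2) (.node 1 (47, 2) (.node 0 (27, 2) .nil .nil) .nil) (.node 4 (50, 2) (.node 3 (49, 2) .nil .nil) .nil)) .nil .nil)))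
  wT := (.node 5 [0, 2, 3, 4] (.node 2 [0, 2] (.node 1 [0] (.node 0 [] .nil .nil) .nil) (.node 4 [0, 2, 3, 1] (.node 3 [0, 2, 3] .nil .nil) .nil)) (.node 8 [0, 2, 3, 1, 4, 3, 2] (.node 7 [0, 2, 3, 1, 4, 3] (.node 6 [0, 2, 3, 1, 4] .nil .nil) .nil) (.node 9 [0, 2, 3, 1, 4, 3, 2, 0] .nil .nil)))

theorem tab4 : tableOK L4 mF = true := by decide +kernel
theorem orb4 : orbitOK L4 sg = true := by decide +kernel
theorem kn4 : lall (fun j => Nat.blt j 8) L4.K = true := by decide +kernel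

def L5 : Lvl where
  K := [0, 1, 2, 3, 4, 5]
  J := [0, 1, 2, 3, 4]
  x := 2
  mc := 27
  dT := (.node 13 (.node 3 13 (.node 1 13 (.node 0 11 .nil .nil) (.node 2 15 .nil .nil)) (.node 5 16 (.node 4 10 .nil .nil) .nil)) (.node 6 (.node 3 9 (.node 1 5 (.node 0 8 .nil .nil) (.node 2 4 .nil .nil)) (.node 5 6 (.node 4 6 .nil .nil) .nil)) (.node 3 (.node 3 2 (.node 1 4 (.node 0 3 .nil .nil) (.node 2 5 .nil .nil)) (.node 5 3 (.node 4 3 .nil .nil) .nil)) (.node 1 (.node 3 1 (.node 1 1 (.node 0 1 .nil .nil) (.node 2 1 .nil .nil)) (.node 5 0 (.node 4 2 .nil .nil) .nil)) (.node 0 (.node 3 0 (.node 1 0 (.node 0 0 .nil .nil) (.node 2 0 .nil .nil)) (.node 5 1 (.node 4 0 .nil .nil) .nil)) .nil .nil) (.node 2 (.node 3 3 (.node 1 2 (.node 0 2 .nil .nil) (.node 2 2 .nil .nil)) (.node 5 2 (.node 4 1 .nil .nil) .nil)) .nil .nil)) (.node 5 (.node 3 5 (.node 1 6 (.node 0 7 .nil .nil) (.node 2 3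 .nil .nil)) (.node 5 5 (.node 4 5 .nil .nil) .nil)) (.node 4 (.node 3 4 (.node 1 3 (.node 0 4 .nil .nil) (.node 2 6 .nil .nil)) (.node 5 4 (.node 4 4 .nil .nil) .nil)) .nil .nil) .nil)) (.node 10 (.node 3 8 (.node 1 10 (.node 0 9 .nil .nil) (.node 2 12 .nil .nil)) (.node 5 10 (.node 4 13 .nil .nil) .nil)) (.node 8 (.node 3 10 (.node 1 7 (.node 0 6 .nil .nil) (.node 2 8 .nil .nil)) (.node 5 8 (.node 4 8 .nil .nil) .nil)) (.node 7 (.node 3 7 (.node 1 8 (.node 0 5 .nil .nil) (.node 2 7 .nil .nil)) (.node 5 7 (.node 4 7 .nil .nil) .nil)) .nil .nil) (.node 9 (.node 3 6 (.node 1 9 (.node 0 10 .nil .nil) (.node 2 9 .nil .nil)) (.node 5 9 (.node 4 11 .nil .nil) .nil)) .nil .nil)) (.node 12 (.node 3 12 (.node 1 12 (.node 0 12 .nil .nil) (.node 2 10 .nil .nil)) (.node 5 12 (.node 4 15 .nil .nil) .nil)) (.node 11 (.node 3 11 (.node 1 11 (.node 0 13 .nil .nil) (.node 2 11 .nil .nil)) (.node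 5 14 (.node 4 9 .nil .nil) .nil)) .nil .nil) .nil))) (.node 20 (.node 3 18 (.node 1 21 (.node 0 20 .nil .nil) (.node 2 20 .nil .nil)) (.node 5 17 (.node 4 22 .nil .nil) .nil)) (.node 17 (.node 3 15 (.node 1 19 (.node 0 17 .nil .nil) (.node 2 17 .nil .nil)) (.node 5 20 (.node 4 17 .nil .nil) .nil)) (.node 15 (.node 3 17 (.node 1 15 (.node 0 15 .nil .nil) (.node 2 13 .nil .nil)) (.node 5 18 (.node 4 12 .nil .nil) .nil)) (.node 14 (.node 3 14 (.node 1 14 (.node 0 16 .nil .nil) (.node 2 14 .nil .nil)) (.node 5 11 (.node 4 14 .nil .nil) .nil)) .nil .nil) (.node 16 (.node 3 16 (.node 1 16 (.node 0 14 .nil .nil) (.node 2 18 .nil .nil)) (.node 5 13 (.node 4 16 .nil .nil) .nil)) .nil .nil)) (.node 19 (.node 3 19 (.node 1 17 (.node 0 19 .nil .nil) (.node 2 19 .nil .nil)) (.node 5 21 (.node 4 19 .nil .nil) .nil)) (.node 18 (.node 3 20 (.node 1 18 (.node 0 18 .nil .nil) (.node 2 16 .nil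 .nil)) (.node 5 15 (.node 4 18 .nil .nil) .nil)) .nil .nil) .nil)) (.node 24 (.node 3 23 (.node 1 24 (.node 0 24 .nil .nil) (.node 2 25 .nil .nil)) (.node 5 24 (.node 4 24 .nil .nil) .nil)) (.node 22 (.node 3 22 (.node 1 23 (.node 0 22 .nil .nil) (.node 2 22 .nil .nil)) (.node 5 22 (.node 4 20 .nil .nil) .nil)) (.node 21 (.node 3 21 (.node 1 20 (.node 0 21 .nil .nil) (.node 2 21 .nil .nil)) (.node 5 19 (.node 4 23 .nil .nil) .nil)) .nil .nil) (.node 23 (.node 3 24 (.node 1 22 (.node 0 23 .nil .nil) (.node 2 23 .nil .nil)) (.node 5 23 (.node 4 21 .nil .nil) .nil)) .nil .nil)) (.node 26 (.node 3 26 (.node 1 26 (.node 0 25 .nil .nil) (.node 2 26 .nil .nil)) (.node 5 26 (.node 4 26 .nil .nil) .nil)) (.node 25 (.node 3 25 (.node 1 25 (.node 0 26 .nil .nil) (.node 2 24 .nil .nil)) (.node 5 25 (.node 4 25 .nil .nil) .nil)) .nil .nil) .nil))))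
  cT := (.node 13 (.node 3 (110, 2) (.node 1 (108, 2) (.node 0 (107, 2) .nil .nil) (.node 2 (109, 4) .nil .nil)) (.node 5 (16, 0) (.node 4 (56, 6) .nil .nil) .nil)) (.node 6 (.node 3 (9, 0) (.node 1 (41, 4) (.node 0 (8, 0) .nil .nil) (.node 2 (42, 4) .nil .nil)) (.node 5 (43, 4) (.node 4 (88, 3) .nil .nil) .nil)) (.node 3 (.node 3 (35, 5) (.node 1 (4, 0) (.node 0 (80, 5) .nil .nil) (.node 2 (5, 0) .nil .nil)) (.node 5 (36, 5) (.node 4 (81, 5) .nil .nil) .nil)) (.node 1 (.node 3 (76, 7) (.node 1 (74, 7) (.node 0 (73, 7) .nil .nil) (.node 2 (75, 7) .nil .nil)) (.node 5 (32, 7) (.node 4 (2, 0) .nil .nil) .nil)) (.node 0 (.node 3 (30, 1) (.node 1 (28, 1) (.node 0 (27, 1) .nil .nil) (.node 2 (29, 1) .nil .nil)) (.node 5 (1, 0) (.node 4 (31, 1) .nil .nil) .nil)) .nil .nil) (.node 2 (.node 3 (3, 0) (.node 1 (78, 6) (.node 0 (77, 6) .nil .nil) (.node 2 (79, 6) .nil .nil)) (.node 5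 (34, 6) (.node 4 (33, 6) .nil .nil) .nil)) .nil .nil)) (.node 5 (.node 3 (86, 4) (.node 1 (85, 3) (.node 0 (7, 0) .nil .nil) (.node 2 (39, 4) .nil .nil)) (.node 5 (40, 4) (.node 4 (87, 4) .nil .nil) .nil)) (.node 4 (.node 3 (83, 3) (.node 1 (37, 3) (.node 0 (82, 3) .nil .nil) (.node 2 (6, 0) .nil .nil)) (.node 5 (38, 3) (.node 4 (84, 3) .nil .nil) .nil)) .nil .nil) .nil)) (.node 10 (.node 3 (51, 5) (.node 1 (99, 2) (.node 0 (50, 5) .nil .nil) (.node 2 (12, 0) .nil .nil)) (.node 5 (52, 5) (.node 4 (13, 0) .nil .nil) .nil)) (.node 8 (.node 3 (10, 0) (.node 1 (93, 2) (.node 0 (46, 2) .nil .nil) (.node 2 (94, 2) .nil .nil)) (.node 5 (47, 2) (.node 4 (95, 2) .nil .nil) .nil)) (.node 7 (.node 3 (91, 2) (.node 1 (89, 2) (.node 0 (44, 2) .nil .nil) (.node 2 (90, 2) .nil .nil)) (.node 5 (45, 2) (.node 4 (92, 2) .nil .nil) .nil)) .nil .nil) (.node 9 (.node 3 (48, 5) (.node 1 (97, 5)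 (.node 0 (96, 2) .nil .nil) (.node 2 (98, 5) .nil .nil)) (.node 5 (49, 5) (.node 4 (11, 0) .nil .nil) .nil)) .nil .nil)) (.node 12 (.node 3 (106, 4) (.node 1 (105, 4) (.node 0 (104, 4) .nil .nil) (.node 2 (54, 4) .nil .nil)) (.node 5 (55, 4) (.node 4 (15, 0) .nil .nil) .nil)) (.node 11 (.node 3 (103, 6) (.node 1 (101, 6) (.node 0 (100, 6) .nil .nil) (.node 2 (102, 6) .nil .nil)) (.node 5 (14, 0) (.node 4 (53, 6) .nil .nil) .nil)) .nil .nil) .nil))) (.node 20 (.node 3 (64, 7) (.node 1 (136, 3) (.node 0 (135, 5) .nil .nil) (.node 2 (137, 5) .nil .nil)) (.node 5 (65, 7) (.node 4 (22, 0) .nil .nil) .nil)) (.node 17 (.node 3 (61, 5) (.node 1 (19, 0) (.node 0 (123, 5) .nil .nil) (.node 2 (124, 5) .nil .nil)) (.node 5 (20, 0) (.node 4 (125, 5) .nil .nil) .nil)) (.node 15 (.node 3 (17, 0) (.node 1 (117, 4) (.node 0 (116, 4) .nil .nil) (.node 2 (58, 6) .nil .nil)) (.node 5 (18, 0) (.node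 4 (59, 6) .nil .nil) .nil)) (.node 14 (.node 3 (114, 7) (.node 1 (112, 7) (.node 0 (111, 7) .nil .nil) (.node 2 (113, 7) .nil .nil)) (.node 5 (57, 7) (.node 4 (115, 7) .nil .nil) .nil)) .nil .nil) (.node 16 (.node 3 (121, 2) (.node 1 (119, 2) (.node 0 (118, 2) .nil .nil) (.node 2 (120, 7) .nil .nil)) (.node 5 (60, 7) (.node 4 (122, 2) .nil .nil) .nil)) .nil .nil)) (.node 19 (.node 3 (133, 3) (.node 1 (63, 3) (.node 0 (131, 3) .nil .nil) (.node 2 (132, 3) .nil .nil)) (.node 5 (21, 0) (.node 4 (134, 3) .nil .nil) .nil)) (.node 18 (.node 3 (129, 5) (.node 1 (127, 7) (.node 0 (126, 7) .nil .nil) (.node 2 (128, 2) .nil .nil)) (.node 5 (62, 7) (.node 4 (130, 4) .nil .nil) .nil)) .nil .nil) .nil)) (.node 24 (.node 3 (70, 5) (.node 1 (151, 5) (.node 0 (150, 5) .nil .nil) (.node 2 (25, 0) .nil .nil)) (.node 5 (153, 5) (.node 4 (152, 5) .nil .nil) .nil)) (.node 22 (.node 3 (144, 6) (.node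 1 (142, 6) (.node 0 (141, 6) .nil .nil) (.node 2 (143, 6) .nil .nil)) (.node 5 (145, 6) (.node 4 (68, 6) .nil .nil) .nil)) (.node 21 (.node 3 (140, 3) (.node 1 (66, 7) (.node 0 (138, 3) .nil .nil) (.node 2 (139, 3) .nil .nil)) (.node 5 (67, 7) (.node 4 (23, 0) .nil .nil) .nil)) .nil .nil) (.node 23 (.node 3 (24, 0) (.node 1 (147, 2) (.node 0 (146, 6) .nil .nil) (.node 2 (148, 3) .nil .nil)) (.node 5 (149, 3) (.node 4 (69, 6) .nil .nil) .nil)) .nil .nil)) (.node 26 (.node 3 (160, 2) (.node 1 (158, 2) (.node 0 (72, 2) .nil .nil) (.node 2 (159, 2) .nil .nil)) (.node 5 (162, 2) (.node 4 (161, 2) .nil .nil) .nil)) (.node 25 (.node 3 (155, 4) (.node 1 (154, 4) (.node 0 (26, 0) .nil .nil) (.node 2 (71, 4) .nil .nil)) (.node 5 (157, 4) (.node 4 (156, 4) .nil .nil) .nil)) .nil .nil) .nil))))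
  wT := (.node 13 [5, 4, 3, 1, 2, 0, 3, 4] (.node 6 [5, 4, 3, 1, 2] (.node 3 [5, 4, 3] (.node 1 [5] (.node 0 [] .nil .nil) (.node 2 [5, 4] .nil .nil)) (.node 5 [5, 4, 3, 2] (.node 4 [5, 4, 3, 1] .nil .nil) .nil)) (.node 10 [5, 4, 3, 1, 2, 0, 3] (.node 8 [5, 4, 3, 1, 2, 0] (.node 7 [5, 4, 3, 2, 0] .nil .nil) (.node 9 [5, 4, 3, 1, 2, 3] .nil .nil)) (.node 12 [5, 4, 3, 1, 2, 0, 3, 2] (.node 11 [5, 4, 3, 1, 2, 3, 4] .nil .nil) .nil))) (.node 20 [5, 4, 3, 1, 2, 0, 3, 2, 4, 3, 5] (.node 17 [5, 4, 3, 1, 2, 0, 3, 2, 4, 3] (.node 15 [5, 4, 3, 1, 2, 0, 3, 2, 4] (.node 14 [5, 4, 3, 1, 2, 3, 4, 5] .nil .nil) (.node 16 [5, 4, 3, 1, 2, 0, 3, 4, 5] .nil .nil)) (.node 19 [5, 4, 3, 1, 2, 0, 3, 2, 4, 3, 1] (.node 18 [5, 4, 3, 1, 2, 0, 3, 2, 4, 5] .nil .nil) .nil)) (.node 24 [5, 4, 3, 1, 2, 0, 3, 2, 4, 3, 1, 5, 4, 3] (.node 22 [5, 4, 3, 1, 2, 0, 3, 2, 4, 3, 5, 4] (.node 21 [5, 4, 3, 1, 2, 0,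 3, 2, 4, 3, 1, 5] .nil .nil) (.node 23 [5, 4, 3, 1, 2, 0, 3, 2, 4, 3, 1, 5, 4] .nil .nil)) (.node 26 [5, 4, 3, 1, 2, 0, 3, 2, 4, 3, 1, 5, 4, 3, 2, 0] (.node 25 [5, 4, 3, 1, 2, 0, 3, 2, 4, 3, 1, 5, 4, 3, 2] .nil .nil) .nil))))

theorem tab5 : tableOK L5 mF = true := by decide +kernel
theorem orb5 : orbitOK L5 sg = true := by decide +kernel
theorem kn5 : lall (fun j => Nat.blt j 8) L5.K = true := by decide +kernel

def L6 : Lvl where
  K := [0, 1, 2, 3, 4, 5, 6]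
  J := [0, 1, 2, 3, 4, 5]
  x := 1
  mc := 56
  dT := (.node 28 (.node 3 31 (.node 1 26 (.node 0 28 .nil .nil) (.node 2 28 .nil .nil)) (.node 5 28 (.node 4 25 .nil .nil) (.node 6 32 .nil .nil))) (.node 14 (.node 3 14 (.node 1 14 (.node 0 12 .nil .nil) (.node 2 16 .nil .nil)) (.node 5 17 (.node 4 11 .nil .nil) (.node 6 14 .nil .nil))) (.node 7 (.node 3 10 (.node 1 6 (.node 0 9 .nil .nil) (.node 2 5 .nil .nil)) (.node 5 7 (.node 4 7 .nil .nil) (.node 6 7 .nil .nil))) (.node 3 (.node 3 4 (.node 1 3 (.node 0 3 .nil .nil) (.node 2 3 .nil .nil)) (.node 5 3 (.node 4 2 .nil .nil) (.node 6 3 .nil .nil))) (.node 1 (.node 3 1 (.node 1 1 (.node 0 1 .nil .nil) (.node 2 1 .nil .nil)) (.node 5 2 (.node 4 1 .nil .nil) (.node 6 0 .nil .nil))) (.node 0 (.node 3 0 (.node 1 0 (.node 0 0 .nil .nil) (.node 2 0 .nil .nil)) (.node 5 0 (.node 4 0 .nil .nil) (.node 6 1 .nil .nil))) .nil .nil) (.node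 2 (.node 3 2 (.node 1 2 (.node 0 2 .nil .nil) (.node 2 2 .nil .nil)) (.node 5 1 (.node 4 3 .nil .nil) (.node 6 2 .nil .nil))) .nil .nil)) (.node 5 (.node 3 5 (.node 1 4 (.node 0 5 .nil .nil) (.node 2 7 .nil .nil)) (.node 5 5 (.node 4 5 .nil .nil) (.node 6 5 .nil .nil))) (.node 4 (.node 3 3 (.node 1 5 (.node 0 4 .nil .nil) (.node 2 6 .nil .nil)) (.node 5 4 (.node 4 4 .nil .nil) (.node 6 4 .nil .nil))) .nil .nil) (.node 6 (.node 3 6 (.node 1 7 (.node 0 8 .nil .nil) (.node 2 4 .nil .nil)) (.node 5 6 (.node 4 6 .nil .nil) (.node 6 6 .nil .nil))) .nil .nil))) (.node 11 (.node 3 9 (.node 1 11 (.node 0 10 .nil .nil) (.node 2 13 .nil .nil)) (.node 5 11 (.node 4 14 .nil .nil) (.node 6 11 .nil .nil))) (.node 9 (.node 3 11 (.node 1 8 (.node 0 7 .nil .nil) (.node 2 9 .nil .nil)) (.node 5 9 (.node 4 9 .nil .nil) (.node 6 9 .nil .nil))) (.node 8 (.node 3 8 (.node 1 9 (.node 0 6 .nil .nil)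 (.node 2 8 .nil .nil)) (.node 5 8 (.node 4 8 .nil .nil) (.node 6 8 .nil .nil))) .nil .nil) (.node 10 (.node 3 7 (.node 1 10 (.node 0 11 .nil .nil) (.node 2 10 .nil .nil)) (.node 5 10 (.node 4 12 .nil .nil) (.node 6 10 .nil .nil))) .nil .nil)) (.node 13 (.node 3 13 (.node 1 13 (.node 0 13 .nil .nil) (.node 2 11 .nil .nil)) (.node 5 13 (.node 4 16 .nil .nil) (.node 6 13 .nil .nil))) (.node 12 (.node 3 12 (.node 1 12 (.node 0 14 .nil .nil) (.node 2 12 .nil .nil)) (.node 5 15 (.node 4 10 .nil .nil) (.node 6 12 .nil .nil))) .nil .nil) .nil))) (.node 21 (.node 3 21 (.node 1 21 (.node 0 18 .nil .nil) (.node 2 24 .nil .nil)) (.node 5 21 (.node 4 21 .nil .nil) (.node 6 17 .nil .nil))) (.node 18 (.node 3 18 (.node 1 18 (.node 0 21 .nil .nil) (.node 2 18 .nil .nil)) (.node 5 18 (.node 4 18 .nil .nil) (.node 6 15 .nil .nil))) (.node 16 (.node 3 19 (.node 1 16 (.node 0 16 .nil .nil) (.node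 2 14 .nil .nil)) (.node 5 20 (.node 4 13 .nil .nil) (.node 6 16 .nil .nil))) (.node 15 (.node 3 15 (.node 1 15 (.node 0 17 .nil .nil) (.node 2 15 .nil .nil)) (.node 5 12 (.node 4 15 .nil .nil) (.node 6 18 .nil .nil))) .nil .nil) (.node 17 (.node 3 17 (.node 1 17 (.node 0 15 .nil .nil) (.node 2 20 .nil .nil)) (.node 5 14 (.node 4 17 .nil .nil) (.node 6 21 .nil .nil))) .nil .nil)) (.node 20 (.node 3 23 (.node 1 20 (.node 0 20 .nil .nil) (.node 2 17 .nil .nil)) (.node 5 16 (.node 4 20 .nil .nil) (.node 6 24 .nil .nil))) (.node 19 (.node 3 16 (.node 1 22 (.node 0 19 .nil .nil) (.node 2 19 .nil .nil)) (.node 5 23 (.node 4 19 .nil .nil) (.node 6 19 .nil .nil))) .nil .nil) .nil)) (.node 25 (.node 3 25 (.node 1 23 (.node 0 25 .nil .nil) (.node 2 25 .nil .nil)) (.node 5 22 (.node 4 28 .nil .nil) (.node 6 29 .nil .nil))) (.node 23 (.node 3 20 (.node 1 25 (.node 0 23 .nil .nil) (.node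 2 23 .nil .nil)) (.node 5 19 (.node 4 26 .nil .nil) (.node 6 27 .nil .nil))) (.node 22 (.node 3 22 (.node 1 19 (.node 0 22 .nil .nil) (.node 2 22 .nil .nil)) (.node 5 25 (.node 4 22 .nil .nil) (.node 6 22 .nil .nil))) .nil .nil) (.node 24 (.node 3 27 (.node 1 24 (.node 0 24 .nil .nil) (.node 2 21 .nil .nil)) (.node 5 24 (.node 4 24 .nil .nil) (.node 6 20 .nil .nil))) .nil .nil)) (.node 27 (.node 3 24 (.node 1 29 (.node 0 27 .nil .nil) (.node 2 27 .nil .nil)) (.node 5 27 (.node 4 30 .nil .nil) (.node 6 23 .nil .nil))) (.node 26 (.node 3 26 (.node 1 28 (.node 0 26 .nil .nil) (.node 2 26 .nil .nil)) (.node 5 26 (.node 4 23 .nil .nil) (.node 6 30 .nil .nil))) .nil .nil) .nil)))) (.node 42 (.node 3 42 (.node 1 42 (.node 0 42 .nil .nil) (.node 2 44 .nil .nil)) (.node 5 42 (.node 4 39 .nil .nil) (.node 6 42 .nil .nil))) (.node 35 (.node 3 32 (.node 1 35 (.node 0 35 .nil .nil) (.node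 2 38 .nil .nil)) (.node 5 39 (.node 4 35 .nil .nil) (.node 6 31 .nil .nil))) (.node 32 (.node 3 35 (.node 1 30 (.node 0 32 .nil .nil) (.node 2 32 .nil .nil)) (.node 5 36 (.node 4 29 .nil .nil) (.node 6 28 .nil .nil))) (.node 30 (.node 3 30 (.node 1 32 (.node 0 30 .nil .nil) (.node 2 30 .nil .nil)) (.node 5 33 (.node 4 27 .nil .nil) (.node 6 26 .nil .nil))) (.node 29 (.node 3 29 (.node 1 27 (.node 0 29 .nil .nil) (.node 2 29 .nil .nil)) (.node 5 29 (.node 4 32 .nil .nil) (.node 6 25 .nil .nil))) .nil .nil) (.node 31 (.node 3 28 (.node 1 31 (.node 0 31 .nil .nil) (.node 2 34 .nil .nil)) (.node 5 31 (.node 4 31 .nil .nil) (.node 6 35 .nil .nil))) .nil .nil)) (.node 34 (.node 3 34 (.node 1 34 (.node 0 37 .nil .nil) (.node 2 31 .nil .nil)) (.node 5 34 (.node 4 34 .nil .nil) (.node 6 38 .nil .nil))) (.node 33 (.node 3 33 (.node 1 36 (.node 0 33 .nil .nil) (.node 2 33 .nil .nil))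 (.node 5 30 (.node 4 33 .nil .nil) (.node 6 33 .nil .nil))) .nil .nil) .nil)) (.node 39 (.node 3 36 (.node 1 39 (.node 0 39 .nil .nil) (.node 2 41 .nil .nil)) (.node 5 35 (.node 4 42 .nil .nil) (.node 6 39 .nil .nil))) (.node 37 (.node 3 37 (.node 1 37 (.node 0 34 .nil .nil) (.node 2 37 .nil .nil)) (.node 5 37 (.node 4 37 .nil .nil) (.node 6 40 .nil .nil))) (.node 36 (.node 3 39 (.node 1 33 (.node 0 36 .nil .nil) (.node 2 36 .nil .nil)) (.node 5 32 (.node 4 36 .nil .nil) (.node 6 36 .nil .nil))) .nil .nil) (.node 38 (.node 3 38 (.node 1 38 (.node 0 40 .nil .nil) (.node 2 35 .nil .nil)) (.node 5 41 (.node 4 38 .nil .nil) (.node 6 34 .nil .nil))) .nil .nil)) (.node 41 (.node 3 41 (.node 1 41 (.node 0 43 .nil .nil) (.node 2 39 .nil .nil)) (.node 5 38 (.node 4 44 .nil .nil) (.node 6 41 .nil .nil))) (.node 40 (.node 3 40 (.node 1 40 (.node 0 38 .nil .nil) (.node 2 40 .nil .nil))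 (.node 5 43 (.node 4 40 .nil .nil) (.node 6 37 .nil .nil))) .nil .nil) .nil))) (.node 49 (.node 3 49 (.node 1 47 (.node 0 48 .nil .nil) (.node 2 51 .nil .nil)) (.node 5 49 (.node 4 49 .nil .nil) (.node 6 49 .nil .nil))) (.node 46 (.node 3 44 (.node 1 48 (.node 0 47 .nil .nil) (.node 2 46 .nil .nil)) (.node 5 46 (.node 4 46 .nil .nil) (.node 6 46 .nil .nil))) (.node 44 (.node 3 46 (.node 1 44 (.node 0 45 .nil .nil) (.node 2 42 .nil .nil)) (.node 5 44 (.node 4 41 .nil .nil) (.node 6 44 .nil .nil))) (.node 43 (.node 3 43 (.node 1 43 (.node 0 41 .nil .nil) (.node 2 43 .nil .nil)) (.node 5 40 (.node 4 45 .nil .nil) (.node 6 43 .nil .nil))) .nil .nil) (.node 45 (.node 3 47 (.node 1 45 (.node 0 44 .nil .nil) (.node 2 45 .nil .nil)) (.node 5 45 (.node 4 43 .nil .nil) (.node 6 45 .nil .nil))) .nil .nil)) (.node 48 (.node 3 48 (.node 1 46 (.node 0 49 .nil .nil) (.node 2 48 .nil .nil))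 (.node 5 48 (.node 4 48 .nil .nil) (.node 6 48 .nil .nil))) (.node 47 (.node 3 45 (.node 1 49 (.node 0 46 .nil .nil) (.node 2 50 .nil .nil)) (.node 5 47 (.node 4 47 .nil .nil) (.node 6 47 .nil .nil))) .nil .nil) .nil)) (.node 53 (.node 3 53 (.node 1 53 (.node 0 53 .nil .nil) (.node 2 53 .nil .nil)) (.node 5 54 (.node 4 52 .nil .nil) (.node 6 53 .nil .nil))) (.node 51 (.node 3 52 (.node 1 50 (.node 0 51 .nil .nil) (.node 2 49 .nil .nil)) (.node 5 51 (.node 4 51 .nil .nil) (.node 6 51 .nil .nil))) (.node 50 (.node 3 50 (.node 1 51 (.node 0 50 .nil .nil) (.node 2 47 .nil .nil)) (.node 5 50 (.node 4 50 .nil .nil) (.node 6 50 .nil .nil))) .nil .nil) (.node 52 (.node 3 51 (.node 1 52 (.node 0 52 .nil .nil) (.node 2 52 .nil .nil)) (.node 5 52 (.node 4 53 .nil .nil) (.node 6 52 .nil .nil))) .nil .nil)) (.node 55 (.node 3 55 (.node 1 55 (.node 0 55 .nil .nil) (.node 2 55 .nil .nil))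 (.node 5 55 (.node 4 55 .nil .nil) (.node 6 54 .nil .nil))) (.node 54 (.node 3 54 (.node 1 54 (.node 0 54 .nil .nil) (.node 2 54 .nil .nil)) (.node 5 53 (.node 4 54 .nil .nil) (.node 6 55 .nil .nil))) .nil .nil) .nil)))))
  cT := (.node 28 (.node 3 (31, 0) (.node 1 (257, 2) (.node 0 (256, 6) .nil .nil) (.node 2 (258, 3) .nil .nil)) (.node 5 (259, 3) (.node 4 (110, 6) .nil .nil) (.node 6 (32, 0) .nil .nil))) (.node 14 (.node 3 (196, 2) (.node 1 (194, 2) (.node 0 (193, 2) .nil .nil) (.node 2 (195, 4) .nil .nil)) (.node 5 (17, 0) (.node 4 (89, 6) .nil .nil) (.node 6 (90, 6) .nil .nil))) (.node 7 (.node 3 (10, 0) (.node 1 (73, 4) (.node 0 (9, 0) .nil .nil) (.node 2 (74, 4) .nil .nil)) (.node 5 (169, 3) (.node 4 (168, 3) .nil .nil) (.node 6 (75, 4) .nil .nil))) (.node 3 (.node 3 (4, 0) (.node 1 (154, 6) (.node 0 (153, 6) .nil .nil) (.node 2 (155, 6) .nil .nil)) (.node 5 (156, 6)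 (.node 4 (65, 6) .nil .nil) (.node 6 (66, 6) .nil .nil))) (.node 1 (.node 3 (147, 8) (.node 1 (145, 8) (.node 0 (144, 8) .nil .nil) (.node 2 (146, 8) .nil .nil)) (.node 5 (2, 0) (.node 4 (148, 8) .nil .nil) (.node 6 (62, 8) .nil .nil))) (.node 0 (.node 3 (59, 1) (.node 1 (57, 1) (.node 0 (56, 1) .nil .nil) (.node 2 (58, 1) .nil .nil)) (.node 5 (61, 1) (.node 4 (60, 1) .nil .nil) (.node 6 (1, 0) .nil .nil))) .nil .nil) (.node 2 (.node 3 (152, 7) (.node 1 (150, 7) (.node 0 (149, 7) .nil .nil) (.node 2 (151, 7) .nil .nil)) (.node 5 (63, 7) (.node 4 (3, 0) .nil .nil) (.node 6 (64, 7) .nil .nil))) .nil .nil)) (.node 5 (.node 3 (161, 3) (.node 1 (69, 3) (.node 0 (160, 3) .nil .nil) (.node 2 (7, 0) .nil .nil)) (.node 5 (163, 3) (.node 4 (162, 3) .nil .nil) (.node 6 (70, 3) .nil .nil))) (.node 4 (.node 3 (67, 5) (.node 1 (5, 0) (.node 0 (157, 5) .nil .nil) (.node 2 (6, 0) .nil .nil))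 (.node 5 (159, 5) (.node 4 (158, 5) .nil .nil) (.node 6 (68, 5) .nil .nil))) .nil .nil) (.node 6 (.node 3 (165, 4) (.node 1 (164, 3) (.node 0 (8, 0) .nil .nil) (.node 2 (71, 4) .nil .nil)) (.node 5 (167, 4) (.node 4 (166, 4) .nil .nil) (.node 6 (72, 4) .nil .nil))) .nil .nil))) (.node 11 (.node 3 (83, 5) (.node 1 (183, 2) (.node 0 (82, 5) .nil .nil) (.node 2 (13, 0) .nil .nil)) (.node 5 (184, 2) (.node 4 (14, 0) .nil .nil) (.node 6 (84, 5) .nil .nil))) (.node 9 (.node 3 (11, 0) (.node 1 (175, 2) (.node 0 (78, 2) .nil .nil) (.node 2 (176, 2) .nil .nil)) (.node 5 (178, 2) (.node 4 (177, 2) .nil .nil) (.node 6 (79, 2) .nil .nil))) (.node 8 (.node 3 (172, 2) (.node 1 (170, 2) (.node 0 (76, 2) .nil .nil) (.node 2 (171, 2) .nil .nil)) (.node 5 (174, 2) (.node 4 (173, 2) .nil .nil) (.node 6 (77, 2) .nil .nil))) .nil .nil) (.node 10 (.node 3 (80, 5) (.node 1 (180, 5) (.node 0 (179,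 2) .nil .nil) (.node 2 (181, 5) .nil .nil)) (.node 5 (182, 5) (.node 4 (12, 0) .nil .nil) (.node 6 (81, 5) .nil .nil))) .nil .nil)) (.node 13 (.node 3 (191, 4) (.node 1 (190, 4) (.node 0 (189, 4) .nil .nil) (.node 2 (87, 4) .nil .nil)) (.node 5 (192, 4) (.node 4 (16, 0) .nil .nil) (.node 6 (88, 4) .nil .nil))) (.node 12 (.node 3 (188, 6) (.node 1 (186, 6) (.node 0 (185, 6) .nil .nil) (.node 2 (187, 6) .nil .nil)) (.node 5 (15, 0) (.node 4 (85, 6) .nil .nil) (.node 6 (86, 6) .nil .nil))) .nil .nil) .nil))) (.node 21 (.node 3 (226, 2) (.node 1 (224, 2) (.node 0 (223, 2) .nil .nil) (.node 2 (225, 8) .nil .nil)) (.node 5 (228, 2) (.node 4 (227, 2) .nil .nil) (.node 6 (100, 8) .nil .nil))) (.node 18 (.node 3 (212, 8) (.node 1 (210, 8) (.node 0 (209, 8) .nil .nil) (.node 2 (211, 8) .nil .nil)) (.node 5 (214, 8) (.node 4 (213, 8) .nil .nil) (.node 6 (96, 8) .nil .nil))) (.node 16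 (.node 3 (19, 0) (.node 1 (203, 4) (.node 0 (202, 4) .nil .nil) (.node 2 (92, 6) .nil .nil)) (.node 5 (20, 0) (.node 4 (93, 6) .nil .nil) (.node 6 (94, 6) .nil .nil))) (.node 15 (.node 3 (200, 7) (.node 1 (198, 7) (.node 0 (197, 7) .nil .nil) (.node 2 (199, 7) .nil .nil)) (.node 5 (91, 7) (.node 4 (201, 7) .nil .nil) (.node 6 (18, 0) .nil .nil))) .nil .nil) (.node 17 (.node 3 (207, 2) (.node 1 (205, 2) (.node 0 (204, 2) .nil .nil) (.node 2 (206, 7) .nil .nil)) (.node 5 (95, 7) (.node 4 (208, 2) .nil .nil) (.node 6 (21, 0) .nil .nil))) .nil .nil)) (.node 20 (.node 3 (221, 5) (.node 1 (219, 7) (.node 0 (218, 7) .nil .nil) (.node 2 (220, 2) .nil .nil)) (.node 5 (99, 7) (.node 4 (222, 4) .nil .nil) (.node 6 (24, 0) .nil .nil))) (.node 19 (.node 3 (97, 5) (.node 1 (22, 0) (.node 0 (215, 5) .nil .nil) (.node 2 (216, 5) .nil .nil)) (.node 5 (23, 0) (.node 4 (217, 5) .nil .nil) (.node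 6 (98, 5) .nil .nil))) .nil .nil) .nil)) (.node 25 (.node 3 (244, 3) (.node 1 (106, 7) (.node 0 (242, 3) .nil .nil) (.node 2 (243, 3) .nil .nil)) (.node 5 (107, 7) (.node 4 (28, 0) .nil .nil) (.node 6 (29, 0) .nil .nil))) (.node 23 (.node 3 (103, 7) (.node 1 (234, 3) (.node 0 (233, 5) .nil .nil) (.node 2 (235, 5) .nil .nil)) (.node 5 (104, 7) (.node 4 (26, 0) .nil .nil) (.node 6 (27, 0) .nil .nil))) (.node 22 (.node 3 (231, 3) (.node 1 (101, 3) (.node 0 (229, 3) .nil .nil) (.node 2 (230, 3) .nil .nil)) (.node 5 (25, 0) (.node 4 (232, 3) .nil .nil) (.node 6 (102, 3) .nil .nil))) .nil .nil) (.node 24 (.node 3 (239, 8) (.node 1 (237, 8) (.node 0 (236, 8) .nil .nil) (.node 2 (238, 2) .nil .nil)) (.node 5 (241, 4) (.node 4 (240, 4) .nil .nil) (.node 6 (105, 8) .nil .nil))) .nil .nil)) (.node 27 (.node 3 (253, 2) (.node 1 (251, 8) (.node 0 (250, 8) .nil .nil) (.node 2 (252, 8) .nil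 .nil)) (.node 5 (255, 5) (.node 4 (254, 6) .nil .nil) (.node 6 (109, 8) .nil .nil))) (.node 26 (.node 3 (248, 6) (.node 1 (246, 6) (.node 0 (245, 6) .nil .nil) (.node 2 (247, 6) .nil .nil)) (.node 5 (249, 6) (.node 4 (108, 6) .nil .nil) (.node 6 (30, 0) .nil .nil))) .nil .nil) .nil)))) (.node 42 (.node 3 (324, 6) (.node 1 (322, 6) (.node 0 (321, 6) .nil .nil) (.node 2 (323, 6) .nil .nil)) (.node 5 (325, 6) (.node 4 (129, 6) .nil .nil) (.node 6 (326, 6) .nil .nil))) (.node 35 (.node 3 (119, 8) (.node 1 (289, 5) (.node 0 (288, 5) .nil .nil) (.node 2 (290, 4) .nil .nil)) (.node 5 (39, 0) (.node 4 (291, 5) .nil .nil) (.node 6 (120, 8) .nil .nil))) (.node 32 (.node 3 (277, 5) (.node 1 (275, 2) (.node 0 (274, 6) .nil .nil) (.node 2 (276, 3) .nil .nil)) (.node 5 (36, 0) (.node 4 (115, 8) .nil .nil) (.node 6 (116, 8) .nil .nil))) (.node 30 (.node 3 (269, 6) (.node 1 (267, 6) (.node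 0 (266, 6) .nil .nil) (.node 2 (268, 6) .nil .nil)) (.node 5 (33, 0) (.node 4 (112, 8) .nil .nil) (.node 6 (113, 8) .nil .nil))) (.node 29 (.node 3 (263, 3) (.node 1 (261, 2) (.node 0 (260, 8) .nil .nil) (.node 2 (262, 3) .nil .nil)) (.node 5 (265, 3) (.node 4 (264, 6) .nil .nil) (.node 6 (111, 8) .nil .nil))) .nil .nil) (.node 31 (.node 3 (114, 5) (.node 1 (271, 5) (.node 0 (270, 5) .nil .nil) (.node 2 (34, 0) .nil .nil)) (.node 5 (273, 5) (.node 4 (272, 5) .nil .nil) (.node 6 (35, 0) .nil .nil))) .nil .nil)) (.node 34 (.node 3 (285, 4) (.node 1 (284, 4) (.node 0 (37, 0) .nil .nil) (.node 2 (118, 4) .nil .nil)) (.node 5 (287, 4) (.node 4 (286, 4) .nil .nil) (.node 6 (38, 0) .nil .nil))) (.node 33 (.node 3 (281, 7) (.node 1 (279, 7) (.node 0 (278, 7) .nil .nil) (.node 2 (280, 7) .nil .nil)) (.node 5 (117, 7) (.node 4 (282, 7) .nil .nil) (.node 6 (283, 7) .nil .nil))) .nil .nil)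 .nil)) (.node 39 (.node 3 (310, 2) (.node 1 (308, 7) (.node 0 (307, 7) .nil .nil) (.node 2 (309, 7) .nil .nil)) (.node 5 (125, 7) (.node 4 (42, 0) .nil .nil) (.node 6 (311, 5) .nil .nil))) (.node 37 (.node 3 (300, 2) (.node 1 (298, 2) (.node 0 (122, 2) .nil .nil) (.node 2 (299, 2) .nil .nil)) (.node 5 (302, 2) (.node 4 (301, 2) .nil .nil) (.node 6 (40, 0) .nil .nil))) (.node 36 (.node 3 (295, 7) (.node 1 (293, 2) (.node 0 (292, 7) .nil .nil) (.node 2 (294, 3) .nil .nil)) (.node 5 (121, 7) (.node 4 (296, 3) .nil .nil) (.node 6 (297, 3) .nil .nil))) .nil .nil) (.node 38 (.node 3 (305, 4) (.node 1 (304, 4) (.node 0 (303, 2) .nil .nil) (.node 2 (123, 8) .nil .nil)) (.node 5 (41, 0) (.node 4 (306, 4) .nil .nil) (.node 6 (124, 8) .nil .nil))) .nil .nil)) (.node 41 (.node 3 (319, 4) (.node 1 (317, 7) (.node 0 (316, 7) .nil .nil) (.node 2 (318, 3) .nil .nil)) (.node 5 (128, 7) (.node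 4 (44, 0) .nil .nil) (.node 6 (320, 4) .nil .nil))) (.node 40 (.node 3 (314, 2) (.node 1 (312, 2) (.node 0 (126, 8) .nil .nil) (.node 2 (313, 2) .nil .nil)) (.node 5 (43, 0) (.node 4 (315, 2) .nil .nil) (.node 6 (127, 8) .nil .nil))) .nil .nil) .nil))) (.node 49 (.node 3 (358, 2) (.node 1 (136, 3) (.node 0 (357, 2) .nil .nil) (.node 2 (51, 0) .nil .nil)) (.node 5 (360, 2) (.node 4 (359, 2) .nil .nil) (.node 6 (361, 2) .nil .nil))) (.node 46 (.node 3 (133, 5) (.node 1 (48, 0) (.node 0 (342, 5) .nil .nil) (.node 2 (343, 5) .nil .nil)) (.node 5 (345, 5) (.node 4 (344, 5) .nil .nil) (.node 6 (346, 5) .nil .nil))) (.node 44 (.node 3 (46, 0) (.node 1 (333, 6) (.node 0 (332, 6) .nil .nil) (.node 2 (334, 3) .nil .nil)) (.node 5 (335, 4) (.node 4 (131, 6) .nil .nil) (.node 6 (336, 4) .nil .nil))) (.node 43 (.node 3 (330, 2) (.node 1 (328, 2) (.node 0 (327, 2) .nil .nil) (.node 2 (329,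 2) .nil .nil)) (.node 5 (130, 7) (.node 4 (45, 0) .nil .nil) (.node 6 (331, 2) .nil .nil))) .nil .nil) (.node 45 (.node 3 (47, 0) (.node 1 (338, 2) (.node 0 (337, 2) .nil .nil) (.node 2 (339, 2) .nil .nil)) (.node 5 (340, 2) (.node 4 (132, 6) .nil .nil) (.node 6 (341, 2) .nil .nil))) .nil .nil)) (.node 48 (.node 3 (353, 3) (.node 1 (135, 3) (.node 0 (351, 3) .nil .nil) (.node 2 (352, 3) .nil .nil)) (.node 5 (355, 3) (.node 4 (354, 3) .nil .nil) (.node 6 (356, 3) .nil .nil))) (.node 47 (.node 3 (134, 5) (.node 1 (49, 0) (.node 0 (347, 2) .nil .nil) (.node 2 (50, 0) .nil .nil)) (.node 5 (349, 2) (.node 4 (348, 2) .nil .nil) (.node 6 (350, 2) .nil .nil))) .nil .nil) .nil)) (.node 53 (.node 3 (380, 6) (.node 1 (378, 6) (.node 0 (377, 6) .nil .nil) (.node 2 (379, 6) .nil .nil)) (.node 5 (54, 0) (.node 4 (141, 6) .nil .nil) (.node 6 (381, 6) .nil .nil))) (.node 51 (.node 3 (52, 0)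 (.node 1 (138, 4) (.node 0 (368, 3) .nil .nil) (.node 2 (139, 4) .nil .nil)) (.node 5 (370, 3) (.node 4 (369, 3) .nil .nil) (.node 6 (371, 3) .nil .nil))) (.node 50 (.node 3 (364, 4) (.node 1 (363, 3) (.node 0 (362, 4) .nil .nil) (.node 2 (137, 4) .nil .nil)) (.node 5 (366, 4) (.node 4 (365, 4) .nil .nil) (.node 6 (367, 4) .nil .nil))) .nil .nil) (.node 52 (.node 3 (140, 5) (.node 1 (373, 5) (.node 0 (372, 5) .nil .nil) (.node 2 (374, 5) .nil .nil)) (.node 5 (375, 5) (.node 4 (53, 0) .nil .nil) (.node 6 (376, 5) .nil .nil))) .nil .nil)) (.node 55 (.node 3 (390, 8) (.node 1 (388, 8) (.node 0 (387, 8) .nil .nil) (.node 2 (389, 8) .nil .nil)) (.node 5 (392, 8) (.node 4 (391, 8) .nil .nil) (.node 6 (143, 8) .nil .nil))) (.node 54 (.node 3 (385, 7) (.node 1 (383, 7) (.node 0 (382, 7) .nil .nil) (.node 2 (384, 7) .nil .nil)) (.node 5 (142, 7) (.node 4 (386, 7) .nil .nil) (.node 6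 (55, 0) .nil .nil))) .nil .nil) .nil)))))
  wT := (.node 28 [6, 5, 4, 3, 1, 2, 0, 3, 2, 4, 3, 1, 5, 4] (.node 14 [6, 5, 4, 3, 1, 2, 0, 3, 4] (.node 7 [6, 5, 4, 3, 1, 2] (.node 3 [6, 5, 4] (.node 1 [6] (.node 0 [] .nil .nil) (.node 2 [6, 5] .nil .nil)) (.node 5 [6, 5, 4, 3, 1] (.node 4 [6, 5, 4, 3] .nil .nil) (.node 6 [6, 5, 4, 3, 2] .nil .nil))) (.node 11 [6, 5, 4, 3, 1, 2, 0, 3] (.node 9 [6, 5, 4, 3, 1, 2, 0] (.node 8 [6, 5, 4, 3, 2, 0] .nil .nil) (.node 10 [6, 5, 4, 3, 1, 2, 3] .nil .nil)) (.node 13 [6, 5, 4, 3, 1, 2, 0, 3, 2] (.node 12 [6, 5, 4, 3, 1, 2, 3, 4] .nil .nil) .nil))) (.node 21 [6, 5, 4, 3, 1, 2, 0, 3, 4, 5, 6] (.node 18 [6, 5, 4, 3, 1, 2, 3, 4, 5, 6] (.node 16 [6, 5, 4, 3, 1, 2, 0, 3, 2, 4] (.node 15 [6, 5, 4, 3, 1, 2, 3, 4, 5] .nil .nil) (.node 17 [6, 5, 4, 3, 1, 2, 0, 3, 4, 5] .nil .nil)) (.node 20 [6, 5, 4, 3, 1, 2, 0, 3, 2, 4, 5] (.node 19 [6, 5, 4, 3, 1,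 2, 0, 3, 2, 4, 3] .nil .nil) .nil)) (.node 25 [6, 5, 4, 3, 1, 2, 0, 3, 2, 4, 3, 1, 5] (.node 23 [6, 5, 4, 3, 1, 2, 0, 3, 2, 4, 3, 5] (.node 22 [6, 5, 4, 3, 1, 2, 0, 3, 2, 4, 3, 1] .nil .nil) (.node 24 [6, 5, 4, 3, 1, 2, 0, 3, 2, 4, 5, 6] .nil .nil)) (.node 27 [6, 5, 4, 3, 1, 2, 0, 3, 2, 4, 3, 5, 6] (.node 26 [6, 5, 4, 3, 1, 2, 0, 3, 2, 4, 3, 5, 4] .nil .nil) .nil)))) (.node 42 [6, 5, 4, 3, 1, 2, 0, 3, 2, 4, 3, 1, 5, 4, 3, 6, 5, 4] (.node 35 [6, 5, 4, 3, 1, 2, 0, 3, 2, 4, 3, 1, 5, 4, 3, 6] (.node 32 [6, 5, 4, 3, 1, 2, 0, 3, 2, 4, 3, 1, 5, 4, 6] (.node 30 [6, 5, 4, 3, 1, 2, 0, 3, 2, 4, 3, 5, 4, 6] (.node 29 [6, 5, 4, 3, 1, 2, 0, 3, 2, 4, 3, 1, 5, 6] .nil .nil) (.node 31 [6, 5, 4, 3, 1, 2, 0, 3, 2, 4, 3, 1, 5, 4, 3] .nil .nil)) (.node 34 [6, 5, 4, 3, 1, 2, 0, 3, 2, 4, 3, 1, 5, 4, 3, 2] (.node 33 [6, 5, 4, 3, 1, 2, 0, 3, 2, 4, 3, 5, 4, 6, 5] .nil .nil) .nil)) (.node 39 [6, 5, 4,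 3, 1, 2, 0, 3, 2, 4, 3, 1, 5, 4, 3, 6, 5] (.node 37 [6, 5, 4, 3, 1, 2, 0, 3, 2, 4, 3, 1, 5, 4, 3, 2, 0] (.node 36 [6, 5, 4, 3, 1, 2, 0, 3, 2, 4, 3, 1, 5, 4, 6, 5] .nil .nil) (.node 38 [6, 5, 4, 3, 1, 2, 0, 3, 2, 4, 3, 1, 5, 4, 3, 2, 6] .nil .nil)) (.node 41 [6, 5, 4, 3, 1, 2, 0, 3, 2, 4, 3, 1, 5, 4, 3, 2, 6, 5] (.node 40 [6, 5, 4, 3, 1, 2, 0, 3, 2, 4, 3, 1, 5, 4, 3, 2, 0, 6] .nil .nil) .nil))) (.node 49 [6, 5, 4, 3, 1, 2, 0, 3, 2, 4, 3, 1, 5, 4, 3, 2, 0, 6, 5, 4, 3, 1] (.node 46 [6, 5, 4, 3, 1, 2, 0, 3, 2, 4, 3, 1, 5, 4, 3, 2, 6, 5, 4, 3] (.node 44 [6, 5, 4, 3, 1, 2, 0, 3, 2, 4, 3, 1, 5, 4, 3, 2, 6, 5, 4] (.node 43 [6, 5, 4, 3, 1, 2, 0, 3, 2, 4, 3, 1, 5, 4, 3, 2, 0, 6, 5] .nil .nil) (.node 45 [6, 5, 4, 3, 1, 2, 0, 3, 2, 4, 3, 1, 5, 4, 3, 2, 0, 6, 5, 4] .nil .nil)) (.node 48 [6, 5, 4, 3, 1, 2, 0, 3, 2, 4, 3, 1, 5, 4, 3, 2, 6, 5, 4, 3, 1] (.node 47 [6, 5, 4, 3, 1, 2, 0, 3, 2,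 4, 3, 1, 5, 4, 3, 2, 0, 6, 5, 4, 3] .nil .nil) .nil)) (.node 53 [6, 5, 4, 3, 1, 2, 0, 3, 2, 4, 3, 1, 5, 4, 3, 2, 0, 6, 5, 4, 3, 1, 2, 3, 4] (.node 51 [6, 5, 4, 3, 1, 2, 0, 3, 2, 4, 3, 1, 5, 4, 3, 2, 0, 6, 5, 4, 3, 1, 2] (.node 50 [6, 5, 4, 3, 1, 2, 0, 3, 2, 4, 3, 1, 5, 4, 3, 2, 0, 6, 5, 4, 3, 2] .nil .nil) (.node 52 [6, 5, 4, 3, 1, 2, 0, 3, 2, 4, 3, 1, 5, 4, 3, 2, 0, 6, 5, 4, 3, 1, 2, 3] .nil .nil)) (.node 55 [6, 5, 4, 3, 1, 2, 0, 3, 2, 4, 3, 1, 5, 4, 3, 2, 0, 6, 5, 4, 3, 1, 2, 3, 4, 5, 6] (.node 54 [6, 5, 4, 3, 1, 2, 0, 3, 2, 4, 3, 1, 5, 4, 3, 2, 0, 6, 5, 4, 3, 1, 2, 3, 4, 5] .nil .nil) .nil)))))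

theorem tab6 : tableOK L6 mF = true := by decide +kernel
theorem orb6 : orbitOK L6 sg = true := by decide +kernel
theorem kn6 : lall (fun j => Nat.blt j 8) L6.K = true := by decide +kernel

def L7 : Lvl where
  K := [0, 1, 2, 3, 4, 5, 6, 7]
  J := [0, 1, 2, 3, 4, 5, 6]
  x := 0
  mc := 240
  dT := (.node 120 (.node 4 120 (.node 2 120 (.node 1 120 (.node 0 120 .nil .nil) .nil) (.node 3 120 .nil .nil)) (.node 6 128 (.node 5 120 .nil .nil) (.node 7 112 .nil .nil))) (.node 60 (.node 4 53 (.node 2 55 (.node 1 60 (.node 0 64 .nil .nil) .nil) (.node 3 66 .nil .nil)) (.node 6 60 (.node 5 60 .nil .nil) (.node 7 67 .nil .nil))) (.node 30 (.node 4 34 (.node 2 30 (.node 1 33 (.node 0 30 .nil .nil) .nil) (.node 3 26 .nil .nil)) (.node 6 25 (.node 5 30 .nil .nil) (.node 7 35 .nil .nil))) (.node 15 (.node 4 12 (.node 2 17 (.node 1 15 (.node 0 13 .nil .nil) .nil) (.node 3 15 .nil .nil)) (.node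 6 15 (.node 5 18 .nil .nil) (.node 7 15 .nil .nil))) (.node 7 (.node 4 7 (.node 2 5 (.node 1 8 (.node 0 9 .nil .nil) .nil) (.node 3 7 .nil .nil)) (.node 6 7 (.node 5 7 .nil .nil) (.node 7 7 .nil .nil))) (.node 3 (.node 4 4 (.node 2 3 (.node 1 3 (.node 0 3 .nil .nil) .nil) (.node 3 3 .nil .nil)) (.node 6 3 (.node 5 2 .nil .nil) (.node 7 3 .nil .nil))) (.node 1 (.node 4 1 (.node 2 1 (.node 1 1 (.node 0 1 .nil .nil) .nil) (.node 3 1 .nil .nil)) (.node 6 2 (.node 5 1 .nil .nil) (.node 7 0 .nil .nil))) (.node 0 (.node 4 0 (.node 2 0 (.node 1 0 (.node 0 0 .nil .nil) .nil) (.node 3 0 .nil .nil)) (.node 6 0 (.node 5 0 .nil .nil) (.node 7 1 .nil .nil))) .nil .nil) (.node 2 (.node 4 2 (.node 2 2 (.node 1 2 (.node 0 2 .nil .nil) .nil) (.node 3 2 .nil .nil)) (.node 6 1 (.node 5 3 .nil .nil) (.node 7 2 .nil .nil))) .nil .nil)) (.node 5 (.node 4 5 (.node 2 7 (.node 1 6 (.node 0 5 .nil .nil)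 .nil) (.node 3 4 .nil .nil)) (.node 6 5 (.node 5 5 .nil .nil) (.node 7 5 .nil .nil))) (.node 4 (.node 4 3 (.node 2 4 (.node 1 4 (.node 0 4 .nil .nil) .nil) (.node 3 5 .nil .nil)) (.node 6 4 (.node 5 4 .nil .nil) (.node 7 4 .nil .nil))) .nil .nil) (.node 6 (.node 4 6 (.node 2 8 (.node 1 5 (.node 0 6 .nil .nil) .nil) (.node 3 6 .nil .nil)) (.node 6 6 (.node 5 6 .nil .nil) (.node 7 6 .nil .nil))) .nil .nil))) (.node 11 (.node 4 13 (.node 2 11 (.node 1 11 (.node 0 12 .nil .nil) .nil) (.node 3 8 .nil .nil)) (.node 6 11 (.node 5 11 .nil .nil) (.node 7 11 .nil .nil))) (.node 9 (.node 4 9 (.node 2 9 (.node 1 10 (.node 0 7 .nil .nil) .nil) (.node 3 9 .nil .nil)) (.node 6 9 (.node 5 9 .nil .nil) (.node 7 9 .nil .nil))) (.node 8 (.node 4 8 (.node 2 6 (.node 1 7 (.node 0 10 .nil .nil) .nil) (.node 3 11 .nil .nil)) (.node 6 8 (.node 5 8 .nil .nil) (.node 7 8 .nil .nil))) .nil .nil) (.node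 10 (.node 4 10 (.node 2 10 (.node 1 9 (.node 0 8 .nil .nil) .nil) (.node 3 12 .nil .nil)) (.node 6 10 (.node 5 10 .nil .nil) (.node 7 10 .nil .nil))) .nil .nil)) (.node 13 (.node 4 11 (.node 2 13 (.node 1 13 (.node 0 15 .nil .nil) .nil) (.node 3 13 .nil .nil)) (.node 6 13 (.node 5 16 .nil .nil) (.node 7 13 .nil .nil))) (.node 12 (.node 4 15 (.node 2 14 (.node 1 12 (.node 0 11 .nil .nil) .nil) (.node 3 10 .nil .nil)) (.node 6 12 (.node 5 12 .nil .nil) (.node 7 12 .nil .nil))) .nil .nil) (.node 14 (.node 4 17 (.node 2 12 (.node 1 14 (.node 0 14 .nil .nil) .nil) (.node 3 14 .nil .nil)) (.node 6 14 (.node 5 14 .nil .nil) (.node 7 14 .nil .nil))) .nil .nil)))) (.node 23 (.node 4 23 (.node 2 23 (.node 1 23 (.node 0 27 .nil .nil) .nil) (.node 3 23 .nil .nil)) (.node 6 23 (.node 5 23 .nil .nil) (.node 7 19 .nil .nil))) (.node 19 (.node 4 19 (.node 2 19 (.node 1 19 (.node 0 22 .nil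 .nil) .nil) (.node 3 19 .nil .nil)) (.node 6 16 (.node 5 19 .nil .nil) (.node 7 23 .nil .nil))) (.node 17 (.node 4 14 (.node 2 15 (.node 1 17 (.node 0 17 .nil .nil) .nil) (.node 3 20 .nil .nil)) (.node 6 17 (.node 5 21 .nil .nil) (.node 7 17 .nil .nil))) (.node 16 (.node 4 16 (.node 2 16 (.node 1 16 (.node 0 18 .nil .nil) .nil) (.node 3 16 .nil .nil)) (.node 6 19 (.node 5 13 .nil .nil) (.node 7 16 .nil .nil))) .nil .nil) (.node 18 (.node 4 18 (.node 2 21 (.node 1 18 (.node 0 16 .nil .nil) .nil) (.node 3 18 .nil .nil)) (.node 6 22 (.node 5 15 .nil .nil) (.node 7 18 .nil .nil))) .nil .nil)) (.node 21 (.node 4 21 (.node 2 18 (.node 1 21 (.node 0 21 .nil .nil) .nil) (.node 3 25 .nil .nil)) (.node 6 26 (.node 5 17 .nil .nil) (.node 7 21 .nil .nil))) (.node 20 (.node 4 20 (.node 2 20 (.node 1 24 (.node 0 20 .nil .nil) .nil) (.node 3 17 .nil .nil)) (.node 6 20 (.node 5 25 .nil .nil)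 (.node 7 20 .nil .nil))) .nil .nil) (.node 22 (.node 4 22 (.node 2 26 (.node 1 22 (.node 0 19 .nil .nil) .nil) (.node 3 22 .nil .nil)) (.node 6 18 (.node 5 22 .nil .nil) (.node 7 27 .nil .nil))) .nil .nil))) (.node 27 (.node 4 27 (.node 2 31 (.node 1 27 (.node 0 23 .nil .nil) .nil) (.node 3 27 .nil .nil)) (.node 6 27 (.node 5 27 .nil .nil) (.node 7 22 .nil .nil))) (.node 25 (.node 4 29 (.node 2 25 (.node 1 28 (.node 0 25 .nil .nil) .nil) (.node 3 21 .nil .nil)) (.node 6 30 (.node 5 20 .nil .nil) (.node 7 25 .nil .nil))) (.node 24 (.node 4 24 (.node 2 24 (.node 1 20 (.node 0 24 .nil .nil) .nil) (.node 3 24 .nil .nil)) (.node 6 24 (.node 5 28 .nil .nil) (.node 7 24 .nil .nil))) .nil .nil) (.node 26 (.node 4 26 (.node 2 22 (.node 1 26 (.node 0 26 .nil .nil) .nil) (.node 3 30 .nil .nil)) (.node 6 21 (.node 5 26 .nil .nil) (.node 7 31 .nil .nil))) .nil .nil)) (.node 29 (.node 4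 25 (.node 2 29 (.node 1 32 (.node 0 29 .nil .nil) .nil) (.node 3 29 .nil .nil)) (.node 6 34 (.node 5 29 .nil .nil) (.node 7 29 .nil .nil))) (.node 28 (.node 4 32 (.node 2 28 (.node 1 25 (.node 0 28 .nil .nil) .nil) (.node 3 28 .nil .nil)) (.node 6 33 (.node 5 24 .nil .nil) (.node 7 28 .nil .nil))) .nil .nil) .nil)))) (.node 45 (.node 4 45 (.node 2 45 (.node 1 50 (.node 0 45 .nil .nil) .nil) (.node 3 45 .nil .nil)) (.node 6 51 (.node 5 40 .nil .nil) (.node 7 39 .nil .nil))) (.node 38 (.node 4 44 (.node 2 38 (.node 1 35 (.node 0 38 .nil .nil) .nil) (.node 3 38 .nil .nil)) (.node 6 38 (.node 5 38 .nil .nil) (.node 7 33 .nil .nil))) (.node 34 (.node 4 30 (.node 2 34 (.node 1 37 (.node 0 34 .nil .nil) .nil) (.node 3 34 .nil .nil)) (.node 6 29 (.node 5 39 .nil .nil) (.node 7 40 .nil .nil))) (.node 32 (.node 4 28 (.node 2 32 (.node 1 29 (.node 0 32 .nil .nil) .nil) (.node 3 36 .nil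 .nil)) (.node 6 37 (.node 5 32 .nil .nil) (.node 7 32 .nil .nil))) (.node 31 (.node 4 31 (.node 2 27 (.node 1 31 (.node 0 31 .nil .nil) .nil) (.node 3 35 .nil .nil)) (.node 6 31 (.node 5 31 .nil .nil) (.node 7 26 .nil .nil))) .nil .nil) (.node 33 (.node 4 37 (.node 2 33 (.node 1 30 (.node 0 33 .nil .nil) .nil) (.node 3 33 .nil .nil)) (.node 6 28 (.node 5 33 .nil .nil) (.node 7 38 .nil .nil))) .nil .nil)) (.node 36 (.node 4 36 (.node 2 41 (.node 1 36 (.node 0 36 .nil .nil) .nil) (.node 3 32 .nil .nil)) (.node 6 42 (.node 5 36 .nil .nil) (.node 7 36 .nil .nil))) (.node 35 (.node 4 40 (.node 2 35 (.node 1 38 (.node 0 35 .nil .nil) .nil) (.node 3 31 .nil .nil)) (.node 6 35 (.node 5 35 .nil .nil) (.node 7 30 .nil .nil))) .nil .nil) (.node 37 (.node 4 33 (.node 2 37 (.node 1 34 (.node 0 37 .nil .nil) .nil) (.node 3 42 .nil .nil)) (.node 6 32 (.node 5 43 .nil .nil) (.node 7 44 .nil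 .nil))) .nil .nil))) (.node 42 (.node 4 42 (.node 2 47 (.node 1 42 (.node 0 42 .nil .nil) .nil) (.node 3 37 .nil .nil)) (.node 6 36 (.node 5 48 .nil .nil) (.node 7 49 .nil .nil))) (.node 40 (.node 4 35 (.node 2 40 (.node 1 44 (.node 0 40 .nil .nil) .nil) (.node 3 40 .nil .nil)) (.node 6 40 (.node 5 45 .nil .nil) (.node 7 34 .nil .nil))) (.node 39 (.node 4 39 (.node 2 39 (.node 1 43 (.node 0 39 .nil .nil) .nil) (.node 3 39 .nil .nil)) (.node 6 39 (.node 5 34 .nil .nil) (.node 7 45 .nil .nil))) .nil .nil) (.node 41 (.node 4 41 (.node 2 36 (.node 1 41 (.node 0 46 .nil .nil) .nil) (.node 3 41 .nil .nil)) (.node 6 47 (.node 5 41 .nil .nil) (.node 7 41 .nil .nil))) .nil .nil)) (.node 44 (.node 4 38 (.node 2 44 (.node 1 40 (.node 0 44 .nil .nil) .nil) (.node 3 49 .nil .nil)) (.node 6 44 (.node 5 50 .nil .nil) (.node 7 37 .nil .nil))) (.node 43 (.node 4 43 (.node 2 43 (.node 1 39 (.node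 0 43 .nil .nil) .nil) (.node 3 48 .nil .nil)) (.node 6 43 (.node 5 37 .nil .nil) (.node 7 50 .nil .nil))) .nil .nil) .nil))) (.node 53 (.node 4 60 (.node 2 48 (.node 1 53 (.node 0 58 .nil .nil) .nil) (.node 3 53 .nil .nil)) (.node 6 53 (.node 5 47 .nil .nil) (.node 7 61 .nil .nil))) (.node 49 (.node 4 49 (.node 2 54 (.node 1 49 (.node 0 49 .nil .nil) .nil) (.node 3 44 .nil .nil)) (.node 6 49 (.node 5 56 .nil .nil) (.node 7 42 .nil .nil))) (.node 47 (.node 4 47 (.node 2 42 (.node 1 47 (.node 0 52 .nil .nil) .nil) (.node 3 47 .nil .nil)) (.node 6 41 (.node 5 53 .nil .nil) (.node 7 54 .nil .nil))) (.node 46 (.node 4 46 (.node 2 46 (.node 1 46 (.node 0 41 .nil .nil) .nil) (.node 3 46 .nil .nil)) (.node 6 52 (.node 5 46 .nil .nil) (.node 7 46 .nil .nil))) .nil .nil) (.node 48 (.node 4 55 (.node 2 53 (.node 1 48 (.node 0 48 .nil .nil) .nil) (.node 3 43 .nil .nil)) (.node 6 48 (.node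 5 42 .nil .nil) (.node 7 56 .nil .nil))) .nil .nil)) (.node 51 (.node 4 51 (.node 2 51 (.node 1 57 (.node 0 51 .nil .nil) .nil) (.node 3 51 .nil .nil)) (.node 6 45 (.node 5 51 .nil .nil) (.node 7 51 .nil .nil))) (.node 50 (.node 4 50 (.node 2 50 (.node 1 45 (.node 0 50 .nil .nil) .nil) (.node 3 56 .nil .nil)) (.node 6 57 (.node 5 44 .nil .nil) (.node 7 43 .nil .nil))) .nil .nil) (.node 52 (.node 4 52 (.node 2 52 (.node 1 52 (.node 0 47 .nil .nil) .nil) (.node 3 52 .nil .nil)) (.node 6 46 (.node 5 58 .nil .nil) (.node 7 59 .nil .nil))) .nil .nil))) (.node 57 (.node 4 57 (.node 2 57 (.node 1 51 (.node 0 57 .nil .nil) .nil) (.node 3 63 .nil .nil)) (.node 6 50 (.node 5 57 .nil .nil) (.node 7 57 .nil .nil))) (.node 55 (.node 4 48 (.node 2 60 (.node 1 55 (.node 0 55 .nil .nil) .nil) (.node 3 55 .nil .nil)) (.node 6 55 (.node 5 55 .nil .nil) (.node 7 62 .nil .nil))) (.node 54 (.node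 4 54 (.node 2 49 (.node 1 54 (.node 0 59 .nil .nil) .nil) (.node 3 54 .nil .nil)) (.node 6 54 (.node 5 61 .nil .nil) (.node 7 47 .nil .nil))) .nil .nil) (.node 56 (.node 4 62 (.node 2 61 (.node 1 56 (.node 0 56 .nil .nil) .nil) (.node 3 50 .nil .nil)) (.node 6 63 (.node 5 49 .nil .nil) (.node 7 48 .nil .nil))) .nil .nil)) (.node 59 (.node 4 59 (.node 2 59 (.node 1 59 (.node 0 54 .nil .nil) .nil) (.node 3 59 .nil .nil)) (.node 6 59 (.node 5 65 .nil .nil) (.node 7 52 .nil .nil))) (.node 58 (.node 4 64 (.node 2 58 (.node 1 58 (.node 0 53 .nil .nil) .nil) (.node 3 58 .nil .nil)) (.node 6 58 (.node 5 52 .nil .nil) (.node 7 65 .nil .nil))) .nil .nil) .nil))))) (.node 90 (.node 4 97 (.node 2 90 (.node 1 96 (.node 0 95 .nil .nil) .nil) (.node 3 83 .nil .nil)) (.node 6 90 (.node 5 82 .nil .nil) (.node 7 90 .nil .nil))) (.node 75 (.node 4 68 (.node 2 69 (.node 1 75 (.node 0 80 .nil .nil)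 .nil) (.node 3 82 .nil .nil)) (.node 6 67 (.node 5 83 .nil .nil) (.node 7 75 .nil .nil))) (.node 68 (.node 4 75 (.node 2 63 (.node 1 68 (.node 0 72 .nil .nil) .nil) (.node 3 68 .nil .nil)) (.node 6 61 (.node 5 68 .nil .nil) (.node 7 68 .nil .nil))) (.node 64 (.node 4 58 (.node 2 64 (.node 1 64 (.node 0 60 .nil .nil) .nil) (.node 3 70 .nil .nil)) (.node 6 64 (.node 5 64 .nil .nil) (.node 7 71 .nil .nil))) (.node 62 (.node 4 56 (.node 2 67 (.node 1 62 (.node 0 62 .nil .nil) .nil) (.node 3 62 .nil .nil)) (.node 6 69 (.node 5 62 .nil .nil) (.node 7 55 .nil .nil))) (.node 61 (.node 4 67 (.node 2 56 (.node 1 61 (.node 0 65 .nil .nil) .nil) (.node 3 61 .nil .nil)) (.node 6 68 (.node 5 54 .nil .nil) (.node 7 53 .nil .nil))) .nil .nil) (.node 63 (.node 4 69 (.node 2 68 (.node 1 63 (.node 0 63 .nil .nil) .nil) (.node 3 57 .nil .nil)) (.node 6 56 (.node 5 63 .nil .nil) (.node 7 63 .nil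 .nil))) .nil .nil)) (.node 66 (.node 4 66 (.node 2 66 (.node 1 73 (.node 0 70 .nil .nil) .nil) (.node 3 60 .nil .nil)) (.node 6 66 (.node 5 66 .nil .nil) (.node 7 74 .nil .nil))) (.node 65 (.node 4 71 (.node 2 65 (.node 1 65 (.node 0 61 .nil .nil) .nil) (.node 3 65 .nil .nil)) (.node 6 72 (.node 5 59 .nil .nil) (.node 7 58 .nil .nil))) .nil .nil) (.node 67 (.node 4 61 (.node 2 62 (.node 1 67 (.node 0 71 .nil .nil) .nil) (.node 3 74 .nil .nil)) (.node 6 75 (.node 5 67 .nil .nil) (.node 7 60 .nil .nil))) .nil .nil))) (.node 72 (.node 4 80 (.node 2 72 (.node 1 72 (.node 0 68 .nil .nil) .nil) (.node 3 72 .nil .nil)) (.node 6 65 (.node 5 72 .nil .nil) (.node 7 72 .nil .nil))) (.node 70 (.node 4 70 (.node 2 78 (.node 1 77 (.node 0 66 .nil .nil) .nil) (.node 3 64 .nil .nil)) (.node 6 70 (.node 5 70 .nil .nil) (.node 7 79 .nil .nil))) (.node 69 (.node 4 63 (.node 2 75 (.node 1 69 (.node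 0 69 .nil .nil) .nil) (.node 3 69 .nil .nil)) (.node 6 62 (.node 5 76 .nil .nil) (.node 7 69 .nil .nil))) .nil .nil) (.node 71 (.node 4 65 (.node 2 71 (.node 1 71 (.node 0 67 .nil .nil) .nil) (.node 3 79 .nil .nil)) (.node 6 80 (.node 5 71 .nil .nil) (.node 7 64 .nil .nil))) .nil .nil)) (.node 74 (.node 4 74 (.node 2 74 (.node 1 81 (.node 0 79 .nil .nil) .nil) (.node 3 67 .nil .nil)) (.node 6 82 (.node 5 74 .nil .nil) (.node 7 66 .nil .nil))) (.node 73 (.node 4 73 (.node 2 73 (.node 1 66 (.node 0 77 .nil .nil) .nil) (.node 3 73 .nil .nil)) (.node 6 73 (.node 5 73 .nil .nil) (.node 7 81 .nil .nil))) .nil .nil) .nil))) (.node 83 (.node 4 83 (.node 2 76 (.node 1 83 (.node 0 88 .nil .nil) .nil) (.node 3 90 .nil .nil)) (.node 6 83 (.node 5 75 .nil .nil) (.node 7 83 .nil .nil))) (.node 79 (.node 4 79 (.node 2 86 (.node 1 85 (.node 0 74 .nil .nil) .nil) (.node 3 71 .nil .nil)) (.node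 6 87 (.node 5 79 .nil .nil) (.node 7 70 .nil .nil))) (.node 77 (.node 4 77 (.node 2 84 (.node 1 70 (.node 0 73 .nil .nil) .nil) (.node 3 77 .nil .nil)) (.node 6 77 (.node 5 77 .nil .nil) (.node 7 85 .nil .nil))) (.node 76 (.node 4 76 (.node 2 83 (.node 1 76 (.node 0 76 .nil .nil) .nil) (.node 3 76 .nil .nil)) (.node 6 76 (.node 5 69 .nil .nil) (.node 7 76 .nil .nil))) .nil .nil) (.node 78 (.node 4 78 (.node 2 70 (.node 1 84 (.node 0 78 .nil .nil) .nil) (.node 3 78 .nil .nil)) (.node 6 78 (.node 5 78 .nil .nil) (.node 7 86 .nil .nil))) .nil .nil)) (.node 81 (.node 4 81 (.node 2 81 (.node 1 74 (.node 0 85 .nil .nil) .nil) (.node 3 81 .nil .nil)) (.node 6 89 (.node 5 81 .nil .nil) (.node 7 73 .nil .nil))) (.node 80 (.node 4 72 (.node 2 80 (.node 1 80 (.node 0 75 .nil .nil) .nil) (.node 3 87 .nil .nil)) (.node 6 71 (.node 5 88 .nil .nil) (.node 7 80 .nil .nil))) .nil .nil) (.node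 82 (.node 4 82 (.node 2 82 (.node 1 89 (.node 0 87 .nil .nil) .nil) (.node 3 75 .nil .nil)) (.node 6 74 (.node 5 90 .nil .nil) (.node 7 82 .nil .nil))) .nil .nil))) (.node 87 (.node 4 87 (.node 2 94 (.node 1 93 (.node 0 82 .nil .nil) .nil) (.node 3 80 .nil .nil)) (.node 6 79 (.node 5 95 .nil .nil) (.node 7 87 .nil .nil))) (.node 85 (.node 4 85 (.node 2 92 (.node 1 79 (.node 0 81 .nil .nil) .nil) (.node 3 85 .nil .nil)) (.node 6 93 (.node 5 85 .nil .nil) (.node 7 77 .nil .nil))) (.node 84 (.node 4 84 (.node 2 77 (.node 1 78 (.node 0 84 .nil .nil) .nil) (.node 3 91 .nil .nil)) (.node 6 84 (.node 5 84 .nil .nil) (.node 7 92 .nil .nil))) .nil .nil) (.node 86 (.node 4 86 (.node 2 79 (.node 1 92 (.node 0 86 .nil .nil) .nil) (.node 3 86 .nil .nil)) (.node 6 94 (.node 5 86 .nil .nil) (.node 7 78 .nil .nil))) .nil .nil)) (.node 89 (.node 4 89 (.node 2 89 (.node 1 82 (.node 0 93 .nil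 .nil) .nil) (.node 3 89 .nil .nil)) (.node 6 81 (.node 5 96 .nil .nil) (.node 7 89 .nil .nil))) (.node 88 (.node 4 88 (.node 2 88 (.node 1 88 (.node 0 83 .nil .nil) .nil) (.node 3 95 .nil .nil)) (.node 6 88 (.node 5 80 .nil .nil) (.node 7 88 .nil .nil))) .nil .nil) .nil)))) (.node 105 (.node 4 105 (.node 2 105 (.node 1 105 (.node 0 105 .nil .nil) .nil) (.node 3 105 .nil .nil)) (.node 6 112 (.node 5 98 .nil .nil) (.node 7 113 .nil .nil))) (.node 98 (.node 4 91 (.node 2 98 (.node 1 98 (.node 0 98 .nil .nil) .nil) (.node 3 98 .nil .nil)) (.node 6 98 (.node 5 105 .nil .nil) (.node 7 106 .nil .nil))) (.node 94 (.node 4 94 (.node 2 87 (.node 1 100 (.node 0 94 .nil .nil) .nil) (.node 3 94 .nil .nil)) (.node 6 86 (.node 5 102 .nil .nil) (.node 7 94 .nil .nil))) (.node 92 (.node 4 92 (.node 2 85 (.node 1 86 (.node 0 92 .nil .nil) .nil) (.node 3 99 .nil .nil)) (.node 6 100 (.node 5 92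 .nil .nil) (.node 7 84 .nil .nil))) (.node 91 (.node 4 98 (.node 2 91 (.node 1 91 (.node 0 91 .nil .nil) .nil) (.node 3 84 .nil .nil)) (.node 6 91 (.node 5 91 .nil .nil) (.node 7 99 .nil .nil))) .nil .nil) (.node 93 (.node 4 93 (.node 2 100 (.node 1 87 (.node 0 89 .nil .nil) .nil) (.node 3 93 .nil .nil)) (.node 6 85 (.node 5 101 .nil .nil) (.node 7 93 .nil .nil))) .nil .nil)) (.node 96 (.node 4 104 (.node 2 96 (.node 1 90 (.node 0 101 .nil .nil) .nil) (.node 3 96 .nil .nil)) (.node 6 96 (.node 5 89 .nil .nil) (.node 7 96 .nil .nil))) (.node 95 (.node 4 103 (.node 2 102 (.node 1 101 (.node 0 90 .nil .nil) .nil) (.node 3 88 .nil .nil)) (.node 6 95 (.node 5 87 .nil .nil) (.node 7 95 .nil .nil))) .nil .nil) (.node 97 (.node 4 90 (.node 2 97 (.node 1 104 (.node 0 103 .nil .nil) .nil) (.node 3 97 .nil .nil)) (.node 6 97 (.node 5 97 .nil .nil) (.node 7 97 .nil .nil))) .nil .nil)))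 (.node 102 (.node 4 110 (.node 2 95 (.node 1 108 (.node 0 102 .nil .nil) .nil) (.node 3 102 .nil .nil)) (.node 6 102 (.node 5 94 .nil .nil) (.node 7 102 .nil .nil))) (.node 100 (.node 4 100 (.node 2 93 (.node 1 94 (.node 0 100 .nil .nil) .nil) (.node 3 107 .nil .nil)) (.node 6 92 (.node 5 108 .nil .nil) (.node 7 100 .nil .nil))) (.node 99 (.node 4 106 (.node 2 99 (.node 1 99 (.node 0 99 .nil .nil) .nil) (.node 3 92 .nil .nil)) (.node 6 107 (.node 5 99 .nil .nil) (.node 7 91 .nil .nil))) .nil .nil) (.node 101 (.node 4 109 (.node 2 108 (.node 1 95 (.node 0 96 .nil .nil) .nil) (.node 3 101 .nil .nil)) (.node 6 101 (.node 5 93 .nil .nil) (.node 7 101 .nil .nil))) .nil .nil)) (.node 104 (.node 4 96 (.node 2 104 (.node 1 97 (.node 0 109 .nil .nil) .nil) (.node 3 111 .nil .nil)) (.node 6 104 (.node 5 104 .nil .nil) (.node 7 104 .nil .nil))) (.node 103 (.node 4 95 (.node 2 110 (.node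 1 109 (.node 0 97 .nil .nil) .nil) (.node 3 103 .nil .nil)) (.node 6 103 (.node 5 103 .nil .nil) (.node 7 103 .nil .nil))) .nil .nil) .nil))) (.node 113 (.node 4 113 (.node 2 113 (.node 1 113 (.node 0 113 .nil .nil) .nil) (.node 3 113 .nil .nil)) (.node 6 121 (.node 5 106 .nil .nil) (.node 7 105 .nil .nil))) (.node 109 (.node 4 101 (.node 2 116 (.node 1 103 (.node 0 104 .nil .nil) .nil) (.node 3 117 .nil .nil)) (.node 6 109 (.node 5 109 .nil .nil) (.node 7 109 .nil .nil))) (.node 107 (.node 4 114 (.node 2 107 (.node 1 107 (.node 0 107 .nil .nil) .nil) (.node 3 100 .nil .nil)) (.node 6 99 (.node 5 115 .nil .nil) (.node 7 107 .nil .nil))) (.node 106 (.node 4 99 (.node 2 106 (.node 1 106 (.node 0 106 .nil .nil) .nil) (.node 3 106 .nil .nil)) (.node 6 114 (.node 5 113 .nil .nil) (.node 7 98 .nil .nil))) .nil .nil) (.node 108 (.node 4 116 (.node 2 101 (.node 1 102 (.node 0 108 .nil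 .nil) .nil) (.node 3 115 .nil .nil)) (.node 6 108 (.node 5 100 .nil .nil) (.node 7 108 .nil .nil))) .nil .nil)) (.node 111 (.node 4 111 (.node 2 119 (.node 1 111 (.node 0 117 .nil .nil) .nil) (.node 3 104 .nil .nil)) (.node 6 111 (.node 5 111 .nil .nil) (.node 7 111 .nil .nil))) (.node 110 (.node 4 102 (.node 2 103 (.node 1 116 (.node 0 110 .nil .nil) .nil) (.node 3 118 .nil .nil)) (.node 6 110 (.node 5 110 .nil .nil) (.node 7 110 .nil .nil))) .nil .nil) (.node 112 (.node 4 112 (.node 2 112 (.node 1 112 (.node 0 112 .nil .nil) .nil) (.node 3 112 .nil .nil)) (.node 6 105 (.node 5 112 .nil .nil) (.node 7 120 .nil .nil))) .nil .nil))) (.node 117 (.node 4 117 (.node 2 125 (.node 1 117 (.node 0 111 .nil .nil) .nil) (.node 3 109 .nil .nil)) (.node 6 117 (.node 5 117 .nil .nil) (.node 7 117 .nil .nil))) (.node 115 (.node 4 123 (.node 2 115 (.node 1 115 (.node 0 115 .nil .nil) .nil)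 (.node 3 108 .nil .nil)) (.node 6 115 (.node 5 107 .nil .nil) (.node 7 115 .nil .nil))) (.node 114 (.node 4 107 (.node 2 114 (.node 1 114 (.node 0 114 .nil .nil) .nil) (.node 3 114 .nil .nil)) (.node 6 106 (.node 5 122 .nil .nil) (.node 7 114 .nil .nil))) .nil .nil) (.node 116 (.node 4 108 (.node 2 109 (.node 1 110 (.node 0 116 .nil .nil) .nil) (.node 3 124 .nil .nil)) (.node 6 116 (.node 5 116 .nil .nil) (.node 7 116 .nil .nil))) .nil .nil)) (.node 119 (.node 4 119 (.node 2 111 (.node 1 119 (.node 0 127 .nil .nil) .nil) (.node 3 119 .nil .nil)) (.node 6 119 (.node 5 119 .nil .nil) (.node 7 119 .nil .nil))) (.node 118 (.node 4 118 (.node 2 118 (.node 1 126 (.node 0 118 .nil .nil) .nil) (.node 3 110 .nil .nil)) (.node 6 118 (.node 5 118 .nil .nil) (.node 7 118 .nil .nil))) .nil .nil) .nil)))))) (.node 180 (.node 4 180 (.node 2 180 (.node 1 180 (.node 0 186 .nil .nil) .nil) (.node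 3 180 .nil .nil)) (.node 6 180 (.node 5 173 .nil .nil) (.node 7 184 .nil .nil))) (.node 150 (.node 4 150 (.node 2 158 (.node 1 143 (.node 0 150 .nil .nil) .nil) (.node 3 150 .nil .nil)) (.node 6 144 (.node 5 150 .nil .nil) (.node 7 156 .nil .nil))) (.node 135 (.node 4 142 (.node 2 135 (.node 1 135 (.node 0 135 .nil .nil) .nil) (.node 3 135 .nil .nil)) (.node 6 135 (.node 5 128 .nil .nil) (.node 7 129 .nil .nil))) (.node 128 (.node 4 128 (.node 2 128 (.node 1 128 (.node 0 128 .nil .nil) .nil) (.node 3 128 .nil .nil)) (.node 6 120 (.node 5 135 .nil .nil) (.node 7 121 .nil .nil))) (.node 124 (.node 4 131 (.node 2 133 (.node 1 132 (.node 0 124 .nil .nil) .nil) (.node 3 116 .nil .nil)) (.node 6 124 (.node 5 124 .nil .nil) (.node 7 124 .nil .nil))) (.node 122 (.node 4 130 (.node 2 122 (.node 1 122 (.node 0 122 .nil .nil) .nil) (.node 3 122 .nil .nil)) (.node 6 129 (.node 5 114 .nil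 .nil) (.node 7 122 .nil .nil))) (.node 121 (.node 4 121 (.node 2 121 (.node 1 121 (.node 0 121 .nil .nil) .nil) (.node 3 121 .nil .nil)) (.node 6 113 (.node 5 129 .nil .nil) (.node 7 128 .nil .nil))) .nil .nil) (.node 123 (.node 4 115 (.node 2 123 (.node 1 123 (.node 0 123 .nil .nil) .nil) (.node 3 131 .nil .nil)) (.node 6 123 (.node 5 130 .nil .nil) (.node 7 123 .nil .nil))) .nil .nil)) (.node 126 (.node 4 126 (.node 2 126 (.node 1 118 (.node 0 126 .nil .nil) .nil) (.node 3 132 .nil .nil)) (.node 6 126 (.node 5 126 .nil .nil) (.node 7 126 .nil .nil))) (.node 125 (.node 4 125 (.node 2 117 (.node 1 125 (.node 0 134 .nil .nil) .nil) (.node 3 133 .nil .nil)) (.node 6 125 (.node 5 125 .nil .nil) (.node 7 125 .nil .nil))) .nil .nil) (.node 127 (.node 4 127 (.node 2 134 (.node 1 127 (.node 0 119 .nil .nil) .nil) (.node 3 127 .nil .nil)) (.node 6 127 (.node 5 127 .nil .nil) (.node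 7 127 .nil .nil))) .nil .nil))) (.node 132 (.node 4 138 (.node 2 140 (.node 1 124 (.node 0 132 .nil .nil) .nil) (.node 3 126 .nil .nil)) (.node 6 132 (.node 5 132 .nil .nil) (.node 7 132 .nil .nil))) (.node 130 (.node 4 122 (.node 2 130 (.node 1 130 (.node 0 130 .nil .nil) .nil) (.node 3 137 .nil .nil)) (.node 6 136 (.node 5 123 .nil .nil) (.node 7 130 .nil .nil))) (.node 129 (.node 4 136 (.node 2 129 (.node 1 129 (.node 0 129 .nil .nil) .nil) (.node 3 129 .nil .nil)) (.node 6 122 (.node 5 121 .nil .nil) (.node 7 135 .nil .nil))) .nil .nil) (.node 131 (.node 4 124 (.node 2 139 (.node 1 138 (.node 0 131 .nil .nil) .nil) (.node 3 123 .nil .nil)) (.node 6 131 (.node 5 137 .nil .nil) (.node 7 131 .nil .nil))) .nil .nil)) (.node 134 (.node 4 134 (.node 2 127 (.node 1 134 (.node 0 125 .nil .nil) .nil) (.node 3 141 .nil .nil)) (.node 6 134 (.node 5 134 .nil .nil) (.node 7 134 .nil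 .nil))) (.node 133 (.node 4 139 (.node 2 124 (.node 1 140 (.node 0 141 .nil .nil) .nil) (.node 3 125 .nil .nil)) (.node 6 133 (.node 5 133 .nil .nil) (.node 7 133 .nil .nil))) .nil .nil) .nil))) (.node 143 (.node 4 143 (.node 2 151 (.node 1 150 (.node 0 143 .nil .nil) .nil) (.node 3 136 .nil .nil)) (.node 6 137 (.node 5 143 .nil .nil) (.node 7 149 .nil .nil))) (.node 139 (.node 4 133 (.node 2 131 (.node 1 146 (.node 0 147 .nil .nil) .nil) (.node 3 139 .nil .nil)) (.node 6 139 (.node 5 145 .nil .nil) (.node 7 139 .nil .nil))) (.node 137 (.node 4 137 (.node 2 145 (.node 1 144 (.node 0 137 .nil .nil) .nil) (.node 3 130 .nil .nil)) (.node 6 143 (.node 5 131 .nil .nil) (.node 7 137 .nil .nil))) (.node 136 (.node 4 129 (.node 2 136 (.node 1 136 (.node 0 136 .nil .nil) .nil) (.node 3 143 .nil .nil)) (.node 6 130 (.node 5 136 .nil .nil) (.node 7 142 .nil .nil))) .nil .nil) (.node 138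 (.node 4 132 (.node 2 146 (.node 1 131 (.node 0 138 .nil .nil) .nil) (.node 3 138 .nil .nil)) (.node 6 138 (.node 5 144 .nil .nil) (.node 7 138 .nil .nil))) .nil .nil)) (.node 141 (.node 4 147 (.node 2 141 (.node 1 148 (.node 0 133 .nil .nil) .nil) (.node 3 134 .nil .nil)) (.node 6 141 (.node 5 141 .nil .nil) (.node 7 141 .nil .nil))) (.node 140 (.node 4 146 (.node 2 132 (.node 1 133 (.node 0 148 .nil .nil) .nil) (.node 3 140 .nil .nil)) (.node 6 140 (.node 5 140 .nil .nil) (.node 7 140 .nil .nil))) .nil .nil) (.node 142 (.node 4 135 (.node 2 142 (.node 1 142 (.node 0 142 .nil .nil) .nil) (.node 3 149 .nil .nil)) (.node 6 142 (.node 5 142 .nil .nil) (.node 7 136 .nil .nil))) .nil .nil))) (.node 147 (.node 4 141 (.node 2 147 (.node 1 154 (.node 0 139 .nil .nil) .nil) (.node 3 147 .nil .nil)) (.node 6 147 (.node 5 153 .nil .nil) (.node 7 147 .nil .nil))) (.node 145 (.node 4 145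 (.node 2 137 (.node 1 152 (.node 0 153 .nil .nil) .nil) (.node 3 145 .nil .nil)) (.node 6 151 (.node 5 139 .nil .nil) (.node 7 145 .nil .nil))) (.node 144 (.node 4 144 (.node 2 152 (.node 1 137 (.node 0 144 .nil .nil) .nil) (.node 3 144 .nil .nil)) (.node 6 150 (.node 5 138 .nil .nil) (.node 7 144 .nil .nil))) .nil .nil) (.node 146 (.node 4 140 (.node 2 138 (.node 1 139 (.node 0 154 .nil .nil) .nil) (.node 3 155 .nil .nil)) (.node 6 146 (.node 5 152 .nil .nil) (.node 7 146 .nil .nil))) .nil .nil)) (.node 149 (.node 4 149 (.node 2 157 (.node 1 156 (.node 0 149 .nil .nil) .nil) (.node 3 142 .nil .nil)) (.node 6 149 (.node 5 149 .nil .nil) (.node 7 143 .nil .nil))) (.node 148 (.node 4 154 (.node 2 148 (.node 1 141 (.node 0 140 .nil .nil) .nil) (.node 3 148 .nil .nil)) (.node 6 148 (.node 5 148 .nil .nil) (.node 7 148 .nil .nil))) .nil .nil) .nil)))) (.node 165 (.node 4 165 (.node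 2 165 (.node 1 159 (.node 0 158 .nil .nil) .nil) (.node 3 172 .nil .nil)) (.node 6 160 (.node 5 165 .nil .nil) (.node 7 170 .nil .nil))) (.node 158 (.node 4 158 (.node 2 150 (.node 1 151 (.node 0 165 .nil .nil) .nil) (.node 3 166 .nil .nil)) (.node 6 152 (.node 5 158 .nil .nil) (.node 7 163 .nil .nil))) (.node 154 (.node 4 148 (.node 2 154 (.node 1 147 (.node 0 146 .nil .nil) .nil) (.node 3 162 .nil .nil)) (.node 6 154 (.node 5 160 .nil .nil) (.node 7 154 .nil .nil))) (.node 152 (.node 4 152 (.node 2 144 (.node 1 145 (.node 0 160 .nil .nil) .nil) (.node 3 161 .nil .nil)) (.node 6 158 (.node 5 146 .nil .nil) (.node 7 152 .nil .nil))) (.node 151 (.node 4 151 (.node 2 143 (.node 1 158 (.node 0 159 .nil .nil) .nil) (.node 3 151 .nil .nil)) (.node 6 145 (.node 5 151 .nil .nil) (.node 7 157 .nil .nil))) .nil .nil) (.node 153 (.node 4 153 (.node 2 153 (.node 1 160 (.node 0 145 .nil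 .nil) .nil) (.node 3 153 .nil .nil)) (.node 6 159 (.node 5 147 .nil .nil) (.node 7 153 .nil .nil))) .nil .nil)) (.node 156 (.node 4 156 (.node 2 163 (.node 1 149 (.node 0 156 .nil .nil) .nil) (.node 3 156 .nil .nil)) (.node 6 156 (.node 5 156 .nil .nil) (.node 7 150 .nil .nil))) (.node 155 (.node 4 155 (.node 2 155 (.node 1 155 (.node 0 162 .nil .nil) .nil) (.node 3 146 .nil .nil)) (.node 6 155 (.node 5 161 .nil .nil) (.node 7 155 .nil .nil))) .nil .nil) (.node 157 (.node 4 157 (.node 2 149 (.node 1 163 (.node 0 164 .nil .nil) .nil) (.node 3 157 .nil .nil)) (.node 6 157 (.node 5 157 .nil .nil) (.node 7 151 .nil .nil))) .nil .nil))) (.node 162 (.node 4 162 (.node 2 169 (.node 1 162 (.node 0 155 .nil .nil) .nil) (.node 3 154 .nil .nil)) (.node 6 162 (.node 5 167 .nil .nil) (.node 7 162 .nil .nil))) (.node 160 (.node 4 160 (.node 2 160 (.node 1 153 (.node 0 152 .nil .nil) .nil)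 (.node 3 167 .nil .nil)) (.node 6 165 (.node 5 154 .nil .nil) (.node 7 160 .nil .nil))) (.node 159 (.node 4 159 (.node 2 159 (.node 1 165 (.node 0 151 .nil .nil) .nil) (.node 3 159 .nil .nil)) (.node 6 153 (.node 5 159 .nil .nil) (.node 7 164 .nil .nil))) .nil .nil) (.node 161 (.node 4 168 (.node 2 161 (.node 1 161 (.node 0 167 .nil .nil) .nil) (.node 3 152 .nil .nil)) (.node 6 166 (.node 5 155 .nil .nil) (.node 7 161 .nil .nil))) .nil .nil)) (.node 164 (.node 4 164 (.node 2 164 (.node 1 170 (.node 0 157 .nil .nil) .nil) (.node 3 164 .nil .nil)) (.node 6 164 (.node 5 164 .nil .nil) (.node 7 159 .nil .nil))) (.node 163 (.node 4 163 (.node 2 156 (.node 1 157 (.node 0 170 .nil .nil) .nil) (.node 3 171 .nil .nil)) (.node 6 163 (.node 5 163 .nil .nil) (.node 7 158 .nil .nil))) .nil .nil) .nil))) (.node 173 (.node 4 166 (.node 2 173 (.node 1 173 (.node 0 179 .nil .nil) .nil) (.node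 3 173 .nil .nil)) (.node 6 168 (.node 5 180 .nil .nil) (.node 7 177 .nil .nil))) (.node 169 (.node 4 169 (.node 2 162 (.node 1 169 (.node 0 169 .nil .nil) .nil) (.node 3 169 .nil .nil)) (.node 6 169 (.node 5 174 .nil .nil) (.node 7 169 .nil .nil))) (.node 167 (.node 4 175 (.node 2 174 (.node 1 167 (.node 0 161 .nil .nil) .nil) (.node 3 160 .nil .nil)) (.node 6 172 (.node 5 162 .nil .nil) (.node 7 167 .nil .nil))) (.node 166 (.node 4 173 (.node 2 166 (.node 1 166 (.node 0 172 .nil .nil) .nil) (.node 3 158 .nil .nil)) (.node 6 161 (.node 5 166 .nil .nil) (.node 7 171 .nil .nil))) .nil .nil) (.node 168 (.node 4 161 (.node 2 168 (.node 1 168 (.node 0 175 .nil .nil) .nil) (.node 3 168 .nil .nil)) (.node 6 173 (.node 5 168 .nil .nil) (.node 7 168 .nil .nil))) .nil .nil)) (.node 171 (.node 4 177 (.node 2 171 (.node 1 171 (.node 0 176 .nil .nil) .nil) (.node 3 163 .nil .nil)) (.node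 6 171 (.node 5 171 .nil .nil) (.node 7 166 .nil .nil))) (.node 170 (.node 4 170 (.node 2 170 (.node 1 164 (.node 0 163 .nil .nil) .nil) (.node 3 176 .nil .nil)) (.node 6 170 (.node 5 170 .nil .nil) (.node 7 165 .nil .nil))) .nil .nil) (.node 172 (.node 4 179 (.node 2 178 (.node 1 172 (.node 0 166 .nil .nil) .nil) (.node 3 165 .nil .nil)) (.node 6 167 (.node 5 172 .nil .nil) (.node 7 176 .nil .nil))) .nil .nil))) (.node 177 (.node 4 171 (.node 2 177 (.node 1 177 (.node 0 183 .nil .nil) .nil) (.node 3 177 .nil .nil)) (.node 6 177 (.node 5 184 .nil .nil) (.node 7 173 .nil .nil))) (.node 175 (.node 4 167 (.node 2 181 (.node 1 175 (.node 0 168 .nil .nil) .nil) (.node 3 175 .nil .nil)) (.node 6 179 (.node 5 175 .nil .nil) (.node 7 175 .nil .nil))) (.node 174 (.node 4 181 (.node 2 167 (.node 1 174 (.node 0 174 .nil .nil) .nil) (.node 3 174 .nil .nil)) (.node 6 178 (.node 5 169 .nil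 .nil) (.node 7 174 .nil .nil))) .nil .nil) (.node 176 (.node 4 183 (.node 2 182 (.node 1 176 (.node 0 171 .nil .nil) .nil) (.node 3 170 .nil .nil)) (.node 6 176 (.node 5 176 .nil .nil) (.node 7 172 .nil .nil))) .nil .nil)) (.node 179 (.node 4 172 (.node 2 185 (.node 1 179 (.node 0 173 .nil .nil) .nil) (.node 3 179 .nil .nil)) (.node 6 175 (.node 5 186 .nil .nil) (.node 7 183 .nil .nil))) (.node 178 (.node 4 185 (.node 2 172 (.node 1 178 (.node 0 178 .nil .nil) .nil) (.node 3 178 .nil .nil)) (.node 6 174 (.node 5 178 .nil .nil) (.node 7 182 .nil .nil))) .nil .nil) .nil))))) (.node 210 (.node 4 206 (.node 2 210 (.node 1 213 (.node 0 210 .nil .nil) .nil) (.node 3 210 .nil .nil)) (.node 6 205 (.node 5 214 .nil .nil) (.node 7 210 .nil .nil))) (.node 195 (.node 4 195 (.node 2 189 (.node 1 195 (.node 0 195 .nil .nil) .nil) (.node 3 200 .nil .nil)) (.node 6 201 (.node 5 188 .nil .nil)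 (.node 7 192 .nil .nil))) (.node 188 (.node 4 182 (.node 2 183 (.node 1 188 (.node 0 188 .nil .nil) .nil) (.node 3 194 .nil .nil)) (.node 6 188 (.node 5 195 .nil .nil) (.node 7 185 .nil .nil))) (.node 184 (.node 4 184 (.node 2 184 (.node 1 184 (.node 0 189 .nil .nil) .nil) (.node 3 184 .nil .nil)) (.node 6 190 (.node 5 177 .nil .nil) (.node 7 180 .nil .nil))) (.node 182 (.node 4 188 (.node 2 176 (.node 1 182 (.node 0 182 .nil .nil) .nil) (.node 3 182 .nil .nil)) (.node 6 182 (.node 5 182 .nil .nil) (.node 7 178 .nil .nil))) (.node 181 (.node 4 174 (.node 2 175 (.node 1 181 (.node 0 181 .nil .nil) .nil) (.node 3 187 .nil .nil)) (.node 6 185 (.node 5 181 .nil .nil) (.node 7 181 .nil .nil))) .nil .nil) (.node 183 (.node 4 176 (.node 2 188 (.node 1 183 (.node 0 177 .nil .nil) .nil) (.node 3 183 .nil .nil)) (.node 6 183 (.node 5 189 .nil .nil) (.node 7 179 .nil .nil))) .nil .nil))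 (.node 186 (.node 4 186 (.node 2 192 (.node 1 186 (.node 0 180 .nil .nil) .nil) (.node 3 186 .nil .nil)) (.node 6 186 (.node 5 179 .nil .nil) (.node 7 189 .nil .nil))) (.node 185 (.node 4 178 (.node 2 179 (.node 1 185 (.node 0 185 .nil .nil) .nil) (.node 3 191 .nil .nil)) (.node 6 181 (.node 5 192 .nil .nil) (.node 7 188 .nil .nil))) .nil .nil) (.node 187 (.node 4 187 (.node 2 187 (.node 1 193 (.node 0 187 .nil .nil) .nil) (.node 3 181 .nil .nil)) (.node 6 191 (.node 5 187 .nil .nil) (.node 7 187 .nil .nil))) .nil .nil))) (.node 192 (.node 4 192 (.node 2 186 (.node 1 192 (.node 0 192 .nil .nil) .nil) (.node 3 198 .nil .nil)) (.node 6 192 (.node 5 185 .nil .nil) (.node 7 195 .nil .nil))) (.node 190 (.node 4 190 (.node 2 190 (.node 1 190 (.node 0 196 .nil .nil) .nil) (.node 3 190 .nil .nil)) (.node 6 184 (.node 5 190 .nil .nil) (.node 7 190 .nil .nil))) (.node 189 (.node 4 189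 (.node 2 195 (.node 1 189 (.node 0 184 .nil .nil) .nil) (.node 3 189 .nil .nil)) (.node 6 196 (.node 5 183 .nil .nil) (.node 7 186 .nil .nil))) .nil .nil) (.node 191 (.node 4 191 (.node 2 191 (.node 1 197 (.node 0 191 .nil .nil) .nil) (.node 3 185 .nil .nil)) (.node 6 187 (.node 5 198 .nil .nil) (.node 7 194 .nil .nil))) .nil .nil)) (.node 194 (.node 4 194 (.node 2 194 (.node 1 199 (.node 0 194 .nil .nil) .nil) (.node 3 188 .nil .nil)) (.node 6 194 (.node 5 200 .nil .nil) (.node 7 191 .nil .nil))) (.node 193 (.node 4 193 (.node 2 193 (.node 1 187 (.node 0 193 .nil .nil) .nil) (.node 3 193 .nil .nil)) (.node 6 197 (.node 5 193 .nil .nil) (.node 7 193 .nil .nil))) .nil .nil) .nil))) (.node 203 (.node 4 198 (.node 2 203 (.node 1 207 (.node 0 203 .nil .nil) .nil) (.node 3 203 .nil .nil)) (.node 6 203 (.node 5 203 .nil .nil) (.node 7 205 .nil .nil))) (.node 199 (.node 4 199 (.node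 2 199 (.node 1 194 (.node 0 199 .nil .nil) .nil) (.node 3 199 .nil .nil)) (.node 6 199 (.node 5 204 .nil .nil) (.node 7 197 .nil .nil))) (.node 197 (.node 4 197 (.node 2 197 (.node 1 191 (.node 0 197 .nil .nil) .nil) (.node 3 197 .nil .nil)) (.node 6 193 (.node 5 202 .nil .nil) (.node 7 199 .nil .nil))) (.node 196 (.node 4 196 (.node 2 201 (.node 1 196 (.node 0 190 .nil .nil) .nil) (.node 3 196 .nil .nil)) (.node 6 189 (.node 5 196 .nil .nil) (.node 7 196 .nil .nil))) .nil .nil) (.node 198 (.node 4 203 (.node 2 198 (.node 1 202 (.node 0 198 .nil .nil) .nil) (.node 3 192 .nil .nil)) (.node 6 198 (.node 5 191 .nil .nil) (.node 7 200 .nil .nil))) .nil .nil)) (.node 201 (.node 4 201 (.node 2 196 (.node 1 201 (.node 0 201 .nil .nil) .nil) (.node 3 206 .nil .nil)) (.node 6 195 (.node 5 201 .nil .nil) (.node 7 201 .nil .nil))) (.node 200 (.node 4 205 (.node 2 200 (.node 1 204 (.node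 0 200 .nil .nil) .nil) (.node 3 195 .nil .nil)) (.node 6 206 (.node 5 194 .nil .nil) (.node 7 198 .nil .nil))) .nil .nil) (.node 202 (.node 4 207 (.node 2 202 (.node 1 198 (.node 0 202 .nil .nil) .nil) (.node 3 202 .nil .nil)) (.node 6 202 (.node 5 197 .nil .nil) (.node 7 204 .nil .nil))) .nil .nil))) (.node 207 (.node 4 202 (.node 2 207 (.node 1 203 (.node 0 207 .nil .nil) .nil) (.node 3 211 .nil .nil)) (.node 6 207 (.node 5 207 .nil .nil) (.node 7 208 .nil .nil))) (.node 205 (.node 4 200 (.node 2 205 (.node 1 208 (.node 0 205 .nil .nil) .nil) (.node 3 205 .nil .nil)) (.node 6 210 (.node 5 205 .nil .nil) (.node 7 203 .nil .nil))) (.node 204 (.node 4 208 (.node 2 204 (.node 1 200 (.node 0 204 .nil .nil) .nil) (.node 3 204 .nil .nil)) (.node 6 209 (.node 5 199 .nil .nil) (.node 7 202 .nil .nil))) .nil .nil) (.node 206 (.node 4 210 (.node 2 206 (.node 1 209 (.node 0 206 .nil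 .nil) .nil) (.node 3 201 .nil .nil)) (.node 6 200 (.node 5 206 .nil .nil) (.node 7 206 .nil .nil))) .nil .nil)) (.node 209 (.node 4 213 (.node 2 209 (.node 1 206 (.node 0 209 .nil .nil) .nil) (.node 3 209 .nil .nil)) (.node 6 204 (.node 5 209 .nil .nil) (.node 7 209 .nil .nil))) (.node 208 (.node 4 204 (.node 2 208 (.node 1 205 (.node 0 208 .nil .nil) .nil) (.node 3 212 .nil .nil)) (.node 6 213 (.node 5 208 .nil .nil) (.node 7 207 .nil .nil))) .nil .nil) .nil)))) (.node 225 (.node 4 222 (.node 2 227 (.node 1 225 (.node 0 225 .nil .nil) .nil) (.node 3 225 .nil .nil)) (.node 6 225 (.node 5 225 .nil .nil) (.node 7 225 .nil .nil))) (.node 218 (.node 4 218 (.node 2 218 (.node 1 214 (.node 0 218 .nil .nil) .nil) (.node 3 222 .nil .nil)) (.node 6 218 (.node 5 213 .nil .nil) (.node 7 218 .nil .nil))) (.node 214 (.node 4 214 (.node 2 214 (.node 1 218 (.node 0 214 .nil .nil) .nil) (.node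 3 214 .nil .nil)) (.node 6 214 (.node 5 210 .nil .nil) (.node 7 214 .nil .nil))) (.node 212 (.node 4 212 (.node 2 216 (.node 1 212 (.node 0 212 .nil .nil) .nil) (.node 3 208 .nil .nil)) (.node 6 217 (.node 5 212 .nil .nil) (.node 7 211 .nil .nil))) (.node 211 (.node 4 211 (.node 2 215 (.node 1 211 (.node 0 211 .nil .nil) .nil) (.node 3 207 .nil .nil)) (.node 6 211 (.node 5 211 .nil .nil) (.node 7 212 .nil .nil))) .nil .nil) (.node 213 (.node 4 209 (.node 2 213 (.node 1 210 (.node 0 213 .nil .nil) .nil) (.node 3 217 .nil .nil)) (.node 6 208 (.node 5 218 .nil .nil) (.node 7 213 .nil .nil))) .nil .nil)) (.node 216 (.node 4 216 (.node 2 212 (.node 1 216 (.node 0 220 .nil .nil) .nil) (.node 3 216 .nil .nil)) (.node 6 221 (.node 5 216 .nil .nil) (.node 7 215 .nil .nil))) (.node 215 (.node 4 215 (.node 2 211 (.node 1 215 (.node 0 219 .nil .nil) .nil) (.node 3 215 .nil .nil)) (.node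 6 215 (.node 5 215 .nil .nil) (.node 7 216 .nil .nil))) .nil .nil) (.node 217 (.node 4 217 (.node 2 221 (.node 1 217 (.node 0 217 .nil .nil) .nil) (.node 3 213 .nil .nil)) (.node 6 212 (.node 5 222 .nil .nil) (.node 7 217 .nil .nil))) .nil .nil))) (.node 222 (.node 4 225 (.node 2 224 (.node 1 222 (.node 0 222 .nil .nil) .nil) (.node 3 218 .nil .nil)) (.node 6 222 (.node 5 217 .nil .nil) (.node 7 222 .nil .nil))) (.node 220 (.node 4 220 (.node 2 220 (.node 1 220 (.node 0 216 .nil .nil) .nil) (.node 3 220 .nil .nil)) (.node 6 223 (.node 5 220 .nil .nil) (.node 7 219 .nil .nil))) (.node 219 (.node 4 219 (.node 2 219 (.node 1 219 (.node 0 215 .nil .nil) .nil) (.node 3 219 .nil .nil)) (.node 6 219 (.node 5 219 .nil .nil) (.node 7 220 .nil .nil))) .nil .nil) (.node 221 (.node 4 221 (.node 2 217 (.node 1 221 (.node 0 223 .nil .nil) .nil) (.node 3 221 .nil .nil)) (.node 6 216 (.node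 5 224 .nil .nil) (.node 7 221 .nil .nil))) .nil .nil)) (.node 224 (.node 4 227 (.node 2 222 (.node 1 224 (.node 0 226 .nil .nil) .nil) (.node 3 224 .nil .nil)) (.node 6 224 (.node 5 221 .nil .nil) (.node 7 224 .nil .nil))) (.node 223 (.node 4 223 (.node 2 223 (.node 1 223 (.node 0 221 .nil .nil) .nil) (.node 3 223 .nil .nil)) (.node 6 220 (.node 5 226 .nil .nil) (.node 7 223 .nil .nil))) .nil .nil) .nil))) (.node 233 (.node 4 233 (.node 2 230 (.node 1 234 (.node 0 233 .nil .nil) .nil) (.node 3 233 .nil .nil)) (.node 6 233 (.node 5 233 .nil .nil) (.node 7 233 .nil .nil))) (.node 229 (.node 4 229 (.node 2 229 (.node 1 231 (.node 0 230 .nil .nil) .nil) (.node 3 227 .nil .nil)) (.node 6 229 (.node 5 229 .nil .nil) (.node 7 229 .nil .nil))) (.node 227 (.node 4 224 (.node 2 225 (.node 1 227 (.node 0 228 .nil .nil) .nil) (.node 3 229 .nil .nil)) (.node 6 227 (.node 5 227 .nil .nil)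 (.node 7 227 .nil .nil))) (.node 226 (.node 4 228 (.node 2 226 (.node 1 226 (.node 0 224 .nil .nil) .nil) (.node 3 226 .nil .nil)) (.node 6 226 (.node 5 223 .nil .nil) (.node 7 226 .nil .nil))) .nil .nil) (.node 228 (.node 4 226 (.node 2 228 (.node 1 228 (.node 0 227 .nil .nil) .nil) (.node 3 230 .nil .nil)) (.node 6 228 (.node 5 228 .nil .nil) (.node 7 228 .nil .nil))) .nil .nil)) (.node 231 (.node 4 231 (.node 2 231 (.node 1 229 (.node 0 232 .nil .nil) .nil) (.node 3 231 .nil .nil)) (.node 6 231 (.node 5 231 .nil .nil) (.node 7 231 .nil .nil))) (.node 230 (.node 4 230 (.node 2 233 (.node 1 232 (.node 0 229 .nil .nil) .nil) (.node 3 228 .nil .nil)) (.node 6 230 (.node 5 230 .nil .nil) (.node 7 230 .nil .nil))) .nil .nil) (.node 232 (.node 4 232 (.node 2 234 (.node 1 230 (.node 0 231 .nil .nil) .nil) (.node 3 232 .nil .nil)) (.node 6 232 (.node 5 232 .nil .nil) (.node 7 232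 .nil .nil))) .nil .nil))) (.node 237 (.node 4 237 (.node 2 237 (.node 1 237 (.node 0 237 .nil .nil) .nil) (.node 3 237 .nil .nil)) (.node 6 238 (.node 5 236 .nil .nil) (.node 7 237 .nil .nil))) (.node 235 (.node 4 236 (.node 2 235 (.node 1 235 (.node 0 235 .nil .nil) .nil) (.node 3 234 .nil .nil)) (.node 6 235 (.node 5 235 .nil .nil) (.node 7 235 .nil .nil))) (.node 234 (.node 4 234 (.node 2 232 (.node 1 233 (.node 0 234 .nil .nil) .nil) (.node 3 235 .nil .nil)) (.node 6 234 (.node 5 234 .nil .nil) (.node 7 234 .nil .nil))) .nil .nil) (.node 236 (.node 4 235 (.node 2 236 (.node 1 236 (.node 0 236 .nil .nil) .nil) (.node 3 236 .nil .nil)) (.node 6 236 (.node 5 237 .nil .nil) (.node 7 236 .nil .nil))) .nil .nil)) (.node 239 (.node 4 239 (.node 2 239 (.node 1 239 (.node 0 239 .nil .nil) .nil) (.node 3 239 .nil .nil)) (.node 6 239 (.node 5 239 .nil .nil) (.node 7 238 .nil .nil)))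 (.node 238 (.node 4 238 (.node 2 238 (.node 1 238 (.node 0 238 .nil .nil) .nil) (.node 3 238 .nil .nil)) (.node 6 237 (.node 5 238 .nil .nil) (.node 7 239 .nil .nil))) .nil .nil) .nil)))))))
  cT := (.node 120 (.node 4 (1220, 9) (.node 2 (1218, 9) (.node 1 (1217, 9) (.node 0 (1216, 9) .nil .nil) .nil) (.node 3 (1219, 9) .nil .nil)) (.node 6 (128, 0) (.node 5 (1221, 9) .nil .nil) (.node 7 (421, 9) .nil .nil))) (.node 60 (.node 4 (346, 6) (.node 2 (875, 3) (.node 1 (874, 6) (.node 0 (873, 6) .nil .nil) .nil) (.node 3 (66, 0) .nil .nil)) (.node 6 (877, 4) (.node 5 (876, 4) .nil .nil) (.node 7 (67, 0) .nil .nil))) (.node 30 (.node 4 (710, 6) (.node 2 (708, 8) (.node 1 (707, 8) (.node 0 (706, 8) .nil .nil) .nil) (.node 3 (709, 2) .nil .nil)) (.node 6 (304, 8) (.node 5 (711, 5) .nil .nil) (.node 7 (35, 0) .nil .nil))) (.node 15 (.node 4 (276, 6) (.node 2 (633, 4) (.node 1 (632, 2)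 (.node 0 (631, 2) .nil .nil) .nil) (.node 3 (634, 2) .nil .nil)) (.node 6 (635, 2) (.node 5 (18, 0) .nil .nil) (.node 7 (277, 6) .nil .nil))) (.node 7 (.node 4 (596, 4) (.node 2 (258, 4) (.node 1 (594, 3) (.node 0 (9, 0) .nil .nil) .nil) (.node 3 (595, 4) .nil .nil)) (.node 6 (598, 4) (.node 5 (597, 4) .nil .nil) (.node 7 (259, 4) .nil .nil))) (.node 3 (.node 4 (4, 0) (.node 2 (577, 7) (.node 1 (576, 7) (.node 0 (575, 7) .nil .nil) .nil) (.node 3 (578, 7) .nil .nil)) (.node 6 (579, 7) (.node 5 (250, 7) .nil .nil) (.node 7 (251, 7) .nil .nil))) (.node 1 (.node 4 (568, 9) (.node 2 (566, 9) (.node 1 (565, 9) (.node 0 (564, 9) .nil .nil) .nil) (.node 3 (567, 9) .nil .nil)) (.node 6 (2, 0) (.node 5 (569, 9) .nil .nil) (.node 7 (247, 9) .nil .nil))) (.node 0 (.node 4 (244, 1) (.node 2 (242, 1) (.node 1 (241, 1) (.node 0 (240, 1) .nil .nil) .nil) (.node 3 (243, 1) .nil .nil)) (.node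 6 (246, 1) (.node 5 (245, 1) .nil .nil) (.node 7 (1, 0) .nil .nil))) .nil .nil) (.node 2 (.node 4 (574, 8) (.node 2 (572, 8) (.node 1 (571, 8) (.node 0 (570, 8) .nil .nil) .nil) (.node 3 (573, 8) .nil .nil)) (.node 6 (248, 8) (.node 5 (3, 0) .nil .nil) (.node 7 (249, 8) .nil .nil))) .nil .nil)) (.node 5 (.node 4 (586, 5) (.node 2 (7, 0) (.node 1 (6, 0) (.node 0 (585, 5) .nil .nil) .nil) (.node 3 (254, 5) .nil .nil)) (.node 6 (588, 5) (.node 5 (587, 5) .nil .nil) (.node 7 (255, 5) .nil .nil))) (.node 4 (.node 4 (252, 6) (.node 2 (582, 6) (.node 1 (581, 6) (.node 0 (580, 6) .nil .nil) .nil) (.node 3 (5, 0) .nil .nil)) (.node 6 (584, 6) (.node 5 (583, 6) .nil .nil) (.node 7 (253, 6) .nil .nil))) .nil .nil) (.node 6 (.node 4 (591, 3) (.node 2 (8, 0) (.node 1 (256, 3) (.node 0 (589, 3) .nil .nil) .nil) (.node 3 (590, 3) .nil .nil)) (.node 6 (593, 3) (.node 5 (592, 3) .nil .nil)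 (.node 7 (257, 3) .nil .nil))) .nil .nil))) (.node 11 (.node 4 (13, 0) (.node 2 (615, 5) (.node 1 (614, 5) (.node 0 (613, 2) .nil .nil) .nil) (.node 3 (267, 5) .nil .nil)) (.node 6 (617, 5) (.node 5 (616, 5) .nil .nil) (.node 7 (268, 5) .nil .nil))) (.node 9 (.node 4 (605, 2) (.node 2 (603, 2) (.node 1 (602, 2) (.node 0 (263, 2) .nil .nil) .nil) (.node 3 (604, 2) .nil .nil)) (.node 6 (607, 2) (.node 5 (606, 2) .nil .nil) (.node 7 (264, 2) .nil .nil))) (.node 8 (.node 4 (599, 3) (.node 2 (261, 4) (.node 1 (260, 4) (.node 0 (10, 0) .nil .nil) .nil) (.node 3 (11, 0) .nil .nil)) (.node 6 (601, 3) (.node 5 (600, 3) .nil .nil) (.node 7 (262, 4) .nil .nil))) .nil .nil) (.node 10 (.node 4 (610, 2) (.node 2 (609, 2) (.node 1 (608, 2) (.node 0 (265, 2) .nil .nil) .nil) (.node 3 (12, 0) .nil .nil)) (.node 6 (612, 2) (.node 5 (611, 2) .nil .nil) (.node 7 (266, 2) .nil .nil))) .nil .nil))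 (.node 13 (.node 4 (272, 6) (.node 2 (623, 6) (.node 1 (622, 6) (.node 0 (621, 6) .nil .nil) .nil) (.node 3 (624, 6) .nil .nil)) (.node 6 (625, 6) (.node 5 (16, 0) .nil .nil) (.node 7 (273, 6) .nil .nil))) (.node 12 (.node 4 (15, 0) (.node 2 (14, 0) (.node 1 (618, 2) (.node 0 (269, 5) .nil .nil) .nil) (.node 3 (270, 5) .nil .nil)) (.node 6 (620, 2) (.node 5 (619, 2) .nil .nil) (.node 7 (271, 5) .nil .nil))) .nil .nil) (.node 14 (.node 4 (17, 0) (.node 2 (274, 4) (.node 1 (627, 4) (.node 0 (626, 4) .nil .nil) .nil) (.node 3 (628, 4) .nil .nil)) (.node 6 (630, 4) (.node 5 (629, 4) .nil .nil) (.node 7 (275, 4) .nil .nil))) .nil .nil)))) (.node 23 (.node 4 (674, 9) (.node 2 (672, 9) (.node 1 (671, 9) (.node 0 (670, 9) .nil .nil) .nil) (.node 3 (673, 9) .nil .nil)) (.node 6 (676, 9) (.node 5 (675, 9) .nil .nil) (.node 7 (291, 9) .nil .nil))) (.node 19 (.node 4 (653, 8) (.node 2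 (651, 8) (.node 1 (650, 8) (.node 0 (649, 8) .nil .nil) .nil) (.node 3 (652, 8) .nil .nil)) (.node 6 (285, 8) (.node 5 (654, 8) .nil .nil) (.node 7 (23, 0) .nil .nil))) (.node 17 (.node 4 (281, 6) (.node 2 (280, 6) (.node 1 (642, 4) (.node 0 (641, 4) .nil .nil) .nil) (.node 3 (20, 0) .nil .nil)) (.node 6 (643, 4) (.node 5 (21, 0) .nil .nil) (.node 7 (282, 6) .nil .nil))) (.node 16 (.node 4 (640, 7) (.node 2 (638, 7) (.node 1 (637, 7) (.node 0 (636, 7) .nil .nil) .nil) (.node 3 (639, 7) .nil .nil)) (.node 6 (19, 0) (.node 5 (278, 7) .nil .nil) (.node 7 (279, 7) .nil .nil))) .nil .nil) (.node 18 (.node 4 (648, 2) (.node 2 (646, 7) (.node 1 (645, 2) (.node 0 (644, 2) .nil .nil) .nil) (.node 3 (647, 2) .nil .nil)) (.node 6 (22, 0) (.node 5 (283, 7) .nil .nil) (.node 7 (284, 7) .nil .nil))) .nil .nil)) (.node 21 (.node 4 (663, 4) (.node 2 (661, 2) (.node 1 (660, 7) (.node 0 (659,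 7) .nil .nil) .nil) (.node 3 (662, 5) .nil .nil)) (.node 6 (26, 0) (.node 5 (288, 7) .nil .nil) (.node 7 (289, 7) .nil .nil))) (.node 20 (.node 4 (657, 5) (.node 2 (656, 5) (.node 1 (24, 0) (.node 0 (655, 5) .nil .nil) .nil) (.node 3 (286, 5) .nil .nil)) (.node 6 (658, 5) (.node 5 (25, 0) .nil .nil) (.node 7 (287, 5) .nil .nil))) .nil .nil) (.node 22 (.node 4 (668, 2) (.node 2 (666, 8) (.node 1 (665, 2) (.node 0 (664, 2) .nil .nil) .nil) (.node 3 (667, 2) .nil .nil)) (.node 6 (290, 8) (.node 5 (669, 2) .nil .nil) (.node 7 (27, 0) .nil .nil))) .nil .nil))) (.node 27 (.node 4 (695, 2) (.node 2 (693, 9) (.node 1 (692, 2) (.node 0 (691, 2) .nil .nil) .nil) (.node 3 (694, 2) .nil .nil)) (.node 6 (697, 2) (.node 5 (696, 2) .nil .nil) (.node 7 (298, 9) .nil .nil))) (.node 25 (.node 4 (29, 0) (.node 2 (684, 5) (.node 1 (683, 3) (.node 0 (682, 5) .nil .nil) .nil) (.node 3 (294, 7) .nil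 .nil)) (.node 6 (30, 0) (.node 5 (295, 7) .nil .nil) (.node 7 (296, 7) .nil .nil))) (.node 24 (.node 4 (680, 3) (.node 2 (678, 3) (.node 1 (292, 3) (.node 0 (677, 3) .nil .nil) .nil) (.node 3 (679, 3) .nil .nil)) (.node 6 (681, 3) (.node 5 (28, 0) .nil .nil) (.node 7 (293, 3) .nil .nil))) .nil .nil) (.node 26 (.node 4 (689, 4) (.node 2 (687, 2) (.node 1 (686, 8) (.node 0 (685, 8) .nil .nil) .nil) (.node 3 (688, 8) .nil .nil)) (.node 6 (297, 8) (.node 5 (690, 4) .nil .nil) (.node 7 (31, 0) .nil .nil))) .nil .nil)) (.node 29 (.node 4 (302, 6) (.node 2 (703, 6) (.node 1 (702, 6) (.node 0 (701, 6) .nil .nil) .nil) (.node 3 (704, 6) .nil .nil)) (.node 6 (34, 0) (.node 5 (705, 6) .nil .nil) (.node 7 (303, 6) .nil .nil))) (.node 28 (.node 4 (32, 0) (.node 2 (699, 3) (.node 1 (299, 7) (.node 0 (698, 3) .nil .nil) .nil) (.node 3 (700, 3) .nil .nil)) (.node 6 (33, 0) (.node 5 (300, 7)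 .nil .nil) (.node 7 (301, 7) .nil .nil))) .nil .nil) .nil)))) (.node 45 (.node 4 (793, 7) (.node 2 (791, 7) (.node 1 (790, 7) (.node 0 (789, 7) .nil .nil) .nil) (.node 3 (792, 7) .nil .nil)) (.node 6 (51, 0) (.node 5 (325, 9) .nil .nil) (.node 7 (326, 9) .nil .nil))) (.node 38 (.node 4 (752, 9) (.node 2 (750, 3) (.node 1 (749, 2) (.node 0 (748, 9) .nil .nil) .nil) (.node 3 (751, 3) .nil .nil)) (.node 6 (754, 3) (.node 5 (753, 3) .nil .nil) (.node 7 (316, 9) .nil .nil))) (.node 34 (.node 4 (309, 8) (.node 2 (731, 6) (.node 1 (730, 6) (.node 0 (729, 6) .nil .nil) .nil) (.node 3 (732, 6) .nil .nil)) (.node 6 (310, 8) (.node 5 (39, 0) .nil .nil) (.node 7 (40, 0) .nil .nil))) (.node 32 (.node 4 (306, 6) (.node 2 (721, 3) (.node 1 (720, 2) (.node 0 (719, 6) .nil .nil) .nil) (.node 3 (36, 0) .nil .nil)) (.node 6 (37, 0) (.node 5 (722, 3) .nil .nil) (.node 7 (307, 6) .nil .nil))) (.node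 31 (.node 4 (716, 4) (.node 2 (714, 2) (.node 1 (713, 9) (.node 0 (712, 9) .nil .nil) .nil) (.node 3 (715, 9) .nil .nil)) (.node 6 (718, 4) (.node 5 (717, 4) .nil .nil) (.node 7 (305, 9) .nil .nil))) .nil .nil) (.node 33 (.node 4 (727, 6) (.node 2 (725, 3) (.node 1 (724, 2) (.node 0 (723, 8) .nil .nil) .nil) (.node 3 (726, 3) .nil .nil)) (.node 6 (308, 8) (.node 5 (728, 3) .nil .nil) (.node 7 (38, 0) .nil .nil))) .nil .nil)) (.node 36 (.node 4 (742, 5) (.node 2 (41, 0) (.node 1 (741, 5) (.node 0 (740, 5) .nil .nil) .nil) (.node 3 (312, 5) .nil .nil)) (.node 6 (42, 0) (.node 5 (743, 5) .nil .nil) (.node 7 (313, 5) .nil .nil))) (.node 35 (.node 4 (737, 9) (.node 2 (735, 9) (.node 1 (734, 9) (.node 0 (733, 9) .nil .nil) .nil) (.node 3 (736, 2) .nil .nil)) (.node 6 (739, 5) (.node 5 (738, 5) .nil .nil) (.node 7 (311, 9) .nil .nil))) .nil .nil) (.node 37 (.node 4 (314, 8) (.node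 2 (746, 3) (.node 1 (745, 2) (.node 0 (744, 6) .nil .nil) .nil) (.node 3 (747, 5) .nil .nil)) (.node 6 (315, 8) (.node 5 (43, 0) .nil .nil) (.node 7 (44, 0) .nil .nil))) .nil .nil))) (.node 42 (.node 4 (775, 5) (.node 2 (774, 4) (.node 1 (773, 5) (.node 0 (772, 5) .nil .nil) .nil) (.node 3 (321, 8) .nil .nil)) (.node 6 (322, 8) (.node 5 (48, 0) .nil .nil) (.node 7 (49, 0) .nil .nil))) (.node 40 (.node 4 (765, 2) (.node 2 (763, 9) (.node 1 (762, 9) (.node 0 (761, 9) .nil .nil) .nil) (.node 3 (764, 9) .nil .nil)) (.node 6 (767, 6) (.node 5 (766, 7) .nil .nil) (.node 7 (318, 9) .nil .nil))) (.node 39 (.node 4 (759, 7) (.node 2 (757, 7) (.node 1 (756, 7) (.node 0 (755, 7) .nil .nil) .nil) (.node 3 (758, 7) .nil .nil)) (.node 6 (760, 7) (.node 5 (317, 7) .nil .nil) (.node 7 (45, 0) .nil .nil))) .nil .nil) (.node 41 (.node 4 (770, 4) (.node 2 (319, 4) (.node 1 (768, 4) (.node 0 (46,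 0) .nil .nil) .nil) (.node 3 (769, 4) .nil .nil)) (.node 6 (47, 0) (.node 5 (771, 4) .nil .nil) (.node 7 (320, 4) .nil .nil))) .nil .nil)) (.node 44 (.node 4 (786, 2) (.node 2 (784, 3) (.node 1 (783, 2) (.node 0 (782, 9) .nil .nil) .nil) (.node 3 (785, 9) .nil .nil)) (.node 6 (788, 3) (.node 5 (787, 7) .nil .nil) (.node 7 (324, 9) .nil .nil))) (.node 43 (.node 4 (780, 3) (.node 2 (778, 3) (.node 1 (777, 2) (.node 0 (776, 7) .nil .nil) .nil) (.node 3 (779, 7) .nil .nil)) (.node 6 (781, 3) (.node 5 (323, 7) .nil .nil) (.node 7 (50, 0) .nil .nil))) .nil .nil) .nil))) (.node 53 (.node 4 (60, 0) (.node 2 (833, 3) (.node 1 (832, 7) (.node 0 (831, 7) .nil .nil) .nil) (.node 3 (834, 4) .nil .nil)) (.node 6 (835, 4) (.node 5 (338, 7) .nil .nil) (.node 7 (61, 0) .nil .nil))) (.node 49 (.node 4 (812, 5) (.node 2 (810, 9) (.node 1 (809, 9) (.node 0 (808, 9) .nil .nil) .nil) (.node 3 (811,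 2) .nil .nil)) (.node 6 (814, 5) (.node 5 (813, 7) .nil .nil) (.node 7 (332, 9) .nil .nil))) (.node 47 (.node 4 (802, 4) (.node 2 (329, 8) (.node 1 (800, 4) (.node 0 (799, 2) .nil .nil) .nil) (.node 3 (801, 4) .nil .nil)) (.node 6 (330, 8) (.node 5 (53, 0) .nil .nil) (.node 7 (54, 0) .nil .nil))) (.node 46 (.node 4 (797, 2) (.node 2 (795, 2) (.node 1 (794, 2) (.node 0 (327, 2) .nil .nil) .nil) (.node 3 (796, 2) .nil .nil)) (.node 6 (52, 0) (.node 5 (798, 2) .nil .nil) (.node 7 (328, 2) .nil .nil))) .nil .nil) (.node 48 (.node 4 (55, 0) (.node 2 (805, 7) (.node 1 (804, 7) (.node 0 (803, 7) .nil .nil) .nil) (.node 3 (806, 2) .nil .nil)) (.node 6 (807, 5) (.node 5 (331, 7) .nil .nil) (.node 7 (56, 0) .nil .nil))) .nil .nil)) (.node 51 (.node 4 (824, 8) (.node 2 (822, 8) (.node 1 (821, 8) (.node 0 (820, 8) .nil .nil) .nil) (.node 3 (823, 8) .nil .nil)) (.node 6 (335, 8) (.node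 5 (825, 8) .nil .nil) (.node 7 (826, 8) .nil .nil))) (.node 50 (.node 4 (819, 3) (.node 2 (817, 3) (.node 1 (816, 2) (.node 0 (815, 7) .nil .nil) .nil) (.node 3 (818, 7) .nil .nil)) (.node 6 (57, 0) (.node 5 (333, 9) .nil .nil) (.node 7 (334, 9) .nil .nil))) .nil .nil) (.node 52 (.node 4 (830, 2) (.node 2 (828, 2) (.node 1 (827, 2) (.node 0 (336, 8) .nil .nil) .nil) (.node 3 (829, 2) .nil .nil)) (.node 6 (337, 8) (.node 5 (58, 0) .nil .nil) (.node 7 (59, 0) .nil .nil))) .nil .nil))) (.node 57 (.node 4 (858, 3) (.node 2 (856, 3) (.node 1 (855, 2) (.node 0 (854, 8) .nil .nil) .nil) (.node 3 (857, 8) .nil .nil)) (.node 6 (343, 8) (.node 5 (859, 3) .nil .nil) (.node 7 (860, 3) .nil .nil))) (.node 55 (.node 4 (340, 6) (.node 2 (845, 6) (.node 1 (844, 6) (.node 0 (843, 6) .nil .nil) .nil) (.node 3 (846, 6) .nil .nil)) (.node 6 (848, 6) (.node 5 (847, 6) .nil .nil) (.node 7 (62, 0)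 .nil .nil))) (.node 54 (.node 4 (840, 4) (.node 2 (838, 3) (.node 1 (837, 9) (.node 0 (836, 9) .nil .nil) .nil) (.node 3 (839, 4) .nil .nil)) (.node 6 (842, 4) (.node 5 (841, 7) .nil .nil) (.node 7 (339, 9) .nil .nil))) .nil .nil) (.node 56 (.node 4 (853, 6) (.node 2 (851, 7) (.node 1 (850, 7) (.node 0 (849, 7) .nil .nil) .nil) (.node 3 (852, 2) .nil .nil)) (.node 6 (63, 0) (.node 5 (341, 9) .nil .nil) (.node 7 (342, 9) .nil .nil))) .nil .nil)) (.node 59 (.node 4 (870, 2) (.node 2 (868, 2) (.node 1 (867, 2) (.node 0 (866, 2) .nil .nil) .nil) (.node 3 (869, 2) .nil .nil)) (.node 6 (872, 2) (.node 5 (871, 7) .nil .nil) (.node 7 (345, 9) .nil .nil))) (.node 58 (.node 4 (64, 0) (.node 2 (863, 2) (.node 1 (862, 2) (.node 0 (861, 2) .nil .nil) .nil) (.node 3 (864, 2) .nil .nil)) (.node 6 (865, 2) (.node 5 (344, 7) .nil .nil) (.node 7 (65, 0) .nil .nil))) .nil .nil) .nil))))) (.node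 90 (.node 4 (97, 0) (.node 2 (1043, 7) (.node 1 (1042, 7) (.node 0 (1041, 7) .nil .nil) .nil) (.node 3 (1044, 4) .nil .nil)) (.node 6 (1045, 5) (.node 5 (387, 7) .nil .nil) (.node 7 (1046, 5) .nil .nil))) (.node 75 (.node 4 (959, 3) (.node 2 (957, 3) (.node 1 (956, 8) (.node 0 (955, 8) .nil .nil) .nil) (.node 3 (958, 8) .nil .nil)) (.node 6 (367, 8) (.node 5 (83, 0) .nil .nil) (.node 7 (960, 4) .nil .nil))) (.node 68 (.node 4 (919, 8) (.node 2 (917, 3) (.node 1 (916, 8) (.node 0 (915, 8) .nil .nil) .nil) (.node 3 (918, 4) .nil .nil)) (.node 6 (358, 8) (.node 5 (920, 4) .nil .nil) (.node 7 (921, 4) .nil .nil))) (.node 64 (.node 4 (352, 6) (.node 2 (897, 2) (.node 1 (896, 2) (.node 0 (895, 2) .nil .nil) .nil) (.node 3 (70, 0) .nil .nil)) (.node 6 (899, 2) (.node 5 (898, 2) .nil .nil) (.node 7 (71, 0) .nil .nil))) (.node 62 (.node 4 (349, 9) (.node 2 (885, 6) (.node 1 (884, 6)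 (.node 0 (883, 6) .nil .nil) .nil) (.node 3 (886, 6) .nil .nil)) (.node 6 (69, 0) (.node 5 (887, 6) .nil .nil) (.node 7 (350, 9) .nil .nil))) (.node 61 (.node 4 (882, 6) (.node 2 (880, 3) (.node 1 (879, 7) (.node 0 (878, 7) .nil .nil) .nil) (.node 3 (881, 4) .nil .nil)) (.node 6 (68, 0) (.node 5 (347, 9) .nil .nil) (.node 7 (348, 9) .nil .nil))) .nil .nil) (.node 63 (.node 4 (892, 8) (.node 2 (890, 8) (.node 1 (889, 8) (.node 0 (888, 8) .nil .nil) .nil) (.node 3 (891, 2) .nil .nil)) (.node 6 (351, 8) (.node 5 (893, 5) .nil .nil) (.node 7 (894, 5) .nil .nil))) .nil .nil)) (.node 66 (.node 4 (907, 5) (.node 2 (906, 5) (.node 1 (73, 0) (.node 0 (905, 5) .nil .nil) .nil) (.node 3 (355, 5) .nil .nil)) (.node 6 (909, 5) (.node 5 (908, 5) .nil .nil) (.node 7 (74, 0) .nil .nil))) (.node 65 (.node 4 (904, 6) (.node 2 (902, 2) (.node 1 (901, 2) (.node 0 (900, 2) .nil .nil) .nil) (.node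 3 (903, 2) .nil .nil)) (.node 6 (72, 0) (.node 5 (353, 9) .nil .nil) (.node 7 (354, 9) .nil .nil))) .nil .nil) (.node 67 (.node 4 (356, 9) (.node 2 (912, 3) (.node 1 (911, 6) (.node 0 (910, 6) .nil .nil) .nil) (.node 3 (913, 5) .nil .nil)) (.node 6 (75, 0) (.node 5 (914, 4) .nil .nil) (.node 7 (357, 9) .nil .nil))) .nil .nil))) (.node 72 (.node 4 (941, 8) (.node 2 (939, 2) (.node 1 (938, 2) (.node 0 (937, 2) .nil .nil) .nil) (.node 3 (940, 2) .nil .nil)) (.node 6 (363, 8) (.node 5 (942, 2) .nil .nil) (.node 7 (943, 2) .nil .nil))) (.node 70 (.node 4 (929, 2) (.node 2 (78, 0) (.node 1 (77, 0) (.node 0 (928, 2) .nil .nil) .nil) (.node 3 (360, 5) .nil .nil)) (.node 6 (931, 2) (.node 5 (930, 2) .nil .nil) (.node 7 (79, 0) .nil .nil))) (.node 69 (.node 4 (926, 2) (.node 2 (924, 8) (.node 1 (923, 8) (.node 0 (922, 8) .nil .nil) .nil) (.node 3 (925, 8) .nil .nil)) (.node 6 (359, 8)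 (.node 5 (76, 0) .nil .nil) (.node 7 (927, 6) .nil .nil))) .nil .nil) (.node 71 (.node 4 (361, 9) (.node 2 (934, 2) (.node 1 (933, 2) (.node 0 (932, 2) .nil .nil) .nil) (.node 3 (935, 5) .nil .nil)) (.node 6 (80, 0) (.node 5 (936, 2) .nil .nil) (.node 7 (362, 9) .nil .nil))) .nil .nil)) (.node 74 (.node 4 (953, 5) (.node 2 (952, 5) (.node 1 (951, 3) (.node 0 (950, 5) .nil .nil) .nil) (.node 3 (365, 9) .nil .nil)) (.node 6 (82, 0) (.node 5 (954, 5) .nil .nil) (.node 7 (366, 9) .nil .nil))) (.node 73 (.node 4 (947, 3) (.node 2 (945, 3) (.node 1 (364, 3) (.node 0 (944, 3) .nil .nil) .nil) (.node 3 (946, 3) .nil .nil)) (.node 6 (949, 3) (.node 5 (948, 3) .nil .nil) (.node 7 (81, 0) .nil .nil))) .nil .nil) .nil))) (.node 83 (.node 4 (1005, 4) (.node 2 (1003, 3) (.node 1 (1002, 7) (.node 0 (1001, 7) .nil .nil) .nil) (.node 3 (1004, 7) .nil .nil)) (.node 6 (1006, 4) (.node 5 (377,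 7) .nil .nil) (.node 7 (1007, 4) .nil .nil))) (.node 79 (.node 4 (982, 2) (.node 2 (981, 4) (.node 1 (980, 3) (.node 0 (979, 2) .nil .nil) .nil) (.node 3 (371, 9) .nil .nil)) (.node 6 (87, 0) (.node 5 (983, 2) .nil .nil) (.node 7 (372, 9) .nil .nil))) (.node 77 (.node 4 (970, 2) (.node 2 (84, 0) (.node 1 (369, 3) (.node 0 (968, 2) .nil .nil) .nil) (.node 3 (969, 2) .nil .nil)) (.node 6 (972, 2) (.node 5 (971, 2) .nil .nil) (.node 7 (85, 0) .nil .nil))) (.node 76 (.node 4 (965, 7) (.node 2 (963, 7) (.node 1 (962, 7) (.node 0 (961, 7) .nil .nil) .nil) (.node 3 (964, 7) .nil .nil)) (.node 6 (966, 7) (.node 5 (368, 7) .nil .nil) (.node 7 (967, 7) .nil .nil))) .nil .nil) (.node 78 (.node 4 (976, 4) (.node 2 (370, 4) (.node 1 (974, 3) (.node 0 (973, 4) .nil .nil) .nil) (.node 3 (975, 4) .nil .nil)) (.node 6 (978, 4) (.node 5 (977, 4) .nil .nil) (.node 7 (86, 0) .nil .nil))) .nil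 .nil)) (.node 81 (.node 4 (993, 3) (.node 2 (991, 3) (.node 1 (374, 9) (.node 0 (990, 3) .nil .nil) .nil) (.node 3 (992, 3) .nil .nil)) (.node 6 (89, 0) (.node 5 (994, 3) .nil .nil) (.node 7 (375, 9) .nil .nil))) (.node 80 (.node 4 (988, 2) (.node 2 (986, 2) (.node 1 (985, 2) (.node 0 (984, 2) .nil .nil) .nil) (.node 3 (987, 8) .nil .nil)) (.node 6 (373, 8) (.node 5 (88, 0) .nil .nil) (.node 7 (989, 2) .nil .nil))) .nil .nil) (.node 82 (.node 4 (999, 5) (.node 2 (997, 8) (.node 1 (996, 8) (.node 0 (995, 8) .nil .nil) .nil) (.node 3 (998, 4) .nil .nil)) (.node 6 (376, 8) (.node 5 (90, 0) .nil .nil) (.node 7 (1000, 5) .nil .nil))) .nil .nil))) (.node 87 (.node 4 (1026, 2) (.node 2 (1024, 8) (.node 1 (1023, 8) (.node 0 (1022, 2) .nil .nil) .nil) (.node 3 (1025, 2) .nil .nil)) (.node 6 (384, 8) (.node 5 (95, 0) .nil .nil) (.node 7 (1027, 2) .nil .nil))) (.node 85 (.node 4 (1015,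 2) (.node 2 (1013, 4) (.node 1 (380, 9) (.node 0 (1012, 2) .nil .nil) .nil) (.node 3 (1014, 2) .nil .nil)) (.node 6 (93, 0) (.node 5 (1016, 2) .nil .nil) (.node 7 (381, 9) .nil .nil))) (.node 84 (.node 4 (1009, 3) (.node 2 (379, 4) (.node 1 (378, 4) (.node 0 (1008, 3) .nil .nil) .nil) (.node 3 (91, 0) .nil .nil)) (.node 6 (1011, 3) (.node 5 (1010, 3) .nil .nil) (.node 7 (92, 0) .nil .nil))) .nil .nil) (.node 86 (.node 4 (1020, 4) (.node 2 (382, 9) (.node 1 (1018, 4) (.node 0 (1017, 4) .nil .nil) .nil) (.node 3 (1019, 4) .nil .nil)) (.node 6 (94, 0) (.node 5 (1021, 4) .nil .nil) (.node 7 (383, 9) .nil .nil))) .nil .nil)) (.node 89 (.node 4 (1039, 3) (.node 2 (1037, 3) (.node 1 (1036, 3) (.node 0 (1035, 8) .nil .nil) .nil) (.node 3 (1038, 3) .nil .nil)) (.node 6 (386, 8) (.node 5 (96, 0) .nil .nil) (.node 7 (1040, 3) .nil .nil))) (.node 88 (.node 4 (1032, 2) (.node 2 (1030, 2)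 (.node 1 (1029, 2) (.node 0 (1028, 2) .nil .nil) .nil) (.node 3 (1031, 7) .nil .nil)) (.node 6 (1033, 2) (.node 5 (385, 7) .nil .nil) (.node 7 (1034, 2) .nil .nil))) .nil .nil) .nil)))) (.node 105 (.node 4 (1133, 7) (.node 2 (1131, 7) (.node 1 (1130, 7) (.node 0 (1129, 7) .nil .nil) .nil) (.node 3 (1132, 7) .nil .nil)) (.node 6 (112, 0) (.node 5 (404, 7) .nil .nil) (.node 7 (113, 0) .nil .nil))) (.node 98 (.node 4 (396, 6) (.node 2 (1090, 6) (.node 1 (1089, 6) (.node 0 (1088, 6) .nil .nil) .nil) (.node 3 (1091, 6) .nil .nil)) (.node 6 (1092, 6) (.node 5 (105, 0) .nil .nil) (.node 7 (106, 0) .nil .nil))) (.node 94 (.node 4 (1067, 4) (.node 2 (1065, 2) (.node 1 (1064, 8) (.node 0 (1063, 8) .nil .nil) .nil) (.node 3 (1066, 4) .nil .nil)) (.node 6 (392, 8) (.node 5 (102, 0) .nil .nil) (.node 7 (1068, 4) .nil .nil))) (.node 92 (.node 4 (1055, 3) (.node 2 (389, 9) (.node 1 (1053,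 2) (.node 0 (1052, 4) .nil .nil) .nil) (.node 3 (1054, 5) .nil .nil)) (.node 6 (100, 0) (.node 5 (1056, 3) .nil .nil) (.node 7 (390, 9) .nil .nil))) (.node 91 (.node 4 (98, 0) (.node 2 (1049, 5) (.node 1 (1048, 5) (.node 0 (1047, 5) .nil .nil) .nil) (.node 3 (388, 5) .nil .nil)) (.node 6 (1051, 5) (.node 5 (1050, 5) .nil .nil) (.node 7 (99, 0) .nil .nil))) .nil .nil) (.node 93 (.node 4 (1061, 2) (.node 2 (1059, 8) (.node 1 (1058, 2) (.node 0 (1057, 2) .nil .nil) .nil) (.node 3 (1060, 2) .nil .nil)) (.node 6 (391, 8) (.node 5 (101, 0) .nil .nil) (.node 7 (1062, 2) .nil .nil))) .nil .nil)) (.node 96 (.node 4 (104, 0) (.node 2 (1077, 3) (.node 1 (1076, 3) (.node 0 (1075, 7) .nil .nil) .nil) (.node 3 (1078, 3) .nil .nil)) (.node 6 (1079, 3) (.node 5 (394, 7) .nil .nil) (.node 7 (1080, 3) .nil .nil))) (.node 95 (.node 4 (103, 0) (.node 2 (1071, 7) (.node 1 (1070, 7) (.node 0 (1069,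 2) .nil .nil) .nil) (.node 3 (1072, 2) .nil .nil)) (.node 6 (1073, 2) (.node 5 (393, 7) .nil .nil) (.node 7 (1074, 2) .nil .nil))) .nil .nil) (.node 97 (.node 4 (395, 6) (.node 2 (1083, 6) (.node 1 (1082, 6) (.node 0 (1081, 6) .nil .nil) .nil) (.node 3 (1084, 6) .nil .nil)) (.node 6 (1086, 6) (.node 5 (1085, 6) .nil .nil) (.node 7 (1087, 6) .nil .nil))) .nil .nil))) (.node 102 (.node 4 (110, 0) (.node 2 (1112, 2) (.node 1 (1111, 7) (.node 0 (1110, 7) .nil .nil) .nil) (.node 3 (1113, 4) .nil .nil)) (.node 6 (1114, 4) (.node 5 (401, 7) .nil .nil) (.node 7 (1115, 4) .nil .nil))) (.node 100 (.node 4 (1102, 3) (.node 2 (1100, 2) (.node 1 (1099, 2) (.node 0 (1098, 8) .nil .nil) .nil) (.node 3 (1101, 8) .nil .nil)) (.node 6 (399, 8) (.node 5 (108, 0) .nil .nil) (.node 7 (1103, 3) .nil .nil))) (.node 99 (.node 4 (1096, 6) (.node 2 (1095, 5) (.node 1 (1094, 5) (.node 0 (1093, 5) .nil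 .nil) .nil) (.node 3 (397, 9) .nil .nil)) (.node 6 (107, 0) (.node 5 (1097, 5) .nil .nil) (.node 7 (398, 9) .nil .nil))) .nil .nil) (.node 101 (.node 4 (109, 0) (.node 2 (1106, 7) (.node 1 (1105, 2) (.node 0 (1104, 2) .nil .nil) .nil) (.node 3 (1107, 2) .nil .nil)) (.node 6 (1108, 2) (.node 5 (400, 7) .nil .nil) (.node 7 (1109, 2) .nil .nil))) .nil .nil)) (.node 104 (.node 4 (403, 6) (.node 2 (1125, 3) (.node 1 (1124, 3) (.node 0 (1123, 6) .nil .nil) .nil) (.node 3 (111, 0) .nil .nil)) (.node 6 (1127, 3) (.node 5 (1126, 3) .nil .nil) (.node 7 (1128, 3) .nil .nil))) (.node 103 (.node 4 (402, 6) (.node 2 (1118, 6) (.node 1 (1117, 6) (.node 0 (1116, 2) .nil .nil) .nil) (.node 3 (1119, 2) .nil .nil)) (.node 6 (1121, 2) (.node 5 (1120, 2) .nil .nil) (.node 7 (1122, 2) .nil .nil))) .nil .nil) .nil))) (.node 113 (.node 4 (1179, 7) (.node 2 (1177, 7) (.node 1 (1176, 7) (.node 0 (1175,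 7) .nil .nil) .nil) (.node 3 (1178, 7) .nil .nil)) (.node 6 (121, 0) (.node 5 (413, 9) .nil .nil) (.node 7 (414, 9) .nil .nil))) (.node 109 (.node 4 (409, 6) (.node 2 (1153, 6) (.node 1 (1152, 2) (.node 0 (1151, 2) .nil .nil) .nil) (.node 3 (117, 0) .nil .nil)) (.node 6 (1155, 2) (.node 5 (1154, 2) .nil .nil) (.node 7 (1156, 2) .nil .nil))) (.node 107 (.node 4 (1143, 8) (.node 2 (1141, 8) (.node 1 (1140, 8) (.node 0 (1139, 8) .nil .nil) .nil) (.node 3 (1142, 2) .nil .nil)) (.node 6 (407, 8) (.node 5 (115, 0) .nil .nil) (.node 7 (1144, 5) .nil .nil))) (.node 106 (.node 4 (405, 9) (.node 2 (1136, 6) (.node 1 (1135, 6) (.node 0 (1134, 6) .nil .nil) .nil) (.node 3 (1137, 6) .nil .nil)) (.node 6 (114, 0) (.node 5 (1138, 7) .nil .nil) (.node 7 (406, 9) .nil .nil))) .nil .nil) (.node 108 (.node 4 (116, 0) (.node 2 (1147, 2) (.node 1 (1146, 2) (.node 0 (1145, 7) .nil .nil) .nil) (.node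 3 (1148, 7) .nil .nil)) (.node 6 (1149, 3) (.node 5 (408, 7) .nil .nil) (.node 7 (1150, 3) .nil .nil))) .nil .nil)) (.node 111 (.node 4 (1165, 5) (.node 2 (119, 0) (.node 1 (1164, 5) (.node 0 (1163, 5) .nil .nil) .nil) (.node 3 (411, 5) .nil .nil)) (.node 6 (1167, 5) (.node 5 (1166, 5) .nil .nil) (.node 7 (1168, 5) .nil .nil))) (.node 110 (.node 4 (410, 6) (.node 2 (1159, 2) (.node 1 (1158, 6) (.node 0 (1157, 6) .nil .nil) .nil) (.node 3 (118, 0) .nil .nil)) (.node 6 (1161, 4) (.node 5 (1160, 4) .nil .nil) (.node 7 (1162, 4) .nil .nil))) .nil .nil) (.node 112 (.node 4 (1173, 8) (.node 2 (1171, 8) (.node 1 (1170, 8) (.node 0 (1169, 8) .nil .nil) .nil) (.node 3 (1172, 8) .nil .nil)) (.node 6 (412, 8) (.node 5 (1174, 8) .nil .nil) (.node 7 (120, 0) .nil .nil))) .nil .nil))) (.node 117 (.node 4 (1200, 2) (.node 2 (125, 0) (.node 1 (1199, 2) (.node 0 (1198, 2) .nil .nil) .nil) (.node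 3 (418, 5) .nil .nil)) (.node 6 (1202, 2) (.node 5 (1201, 2) .nil .nil) (.node 7 (1203, 2) .nil .nil))) (.node 115 (.node 4 (123, 0) (.node 2 (1188, 7) (.node 1 (1187, 7) (.node 0 (1186, 7) .nil .nil) .nil) (.node 3 (1189, 2) .nil .nil)) (.node 6 (1190, 5) (.node 5 (416, 7) .nil .nil) (.node 7 (1191, 5) .nil .nil))) (.node 114 (.node 4 (1184, 2) (.node 2 (1182, 8) (.node 1 (1181, 8) (.node 0 (1180, 8) .nil .nil) .nil) (.node 3 (1183, 8) .nil .nil)) (.node 6 (415, 8) (.node 5 (122, 0) .nil .nil) (.node 7 (1185, 6) .nil .nil))) .nil .nil) (.node 116 (.node 4 (417, 6) (.node 2 (1194, 2) (.node 1 (1193, 2) (.node 0 (1192, 6) .nil .nil) .nil) (.node 3 (124, 0) .nil .nil)) (.node 6 (1196, 3) (.node 5 (1195, 3) .nil .nil) (.node 7 (1197, 3) .nil .nil))) .nil .nil)) (.node 119 (.node 4 (1212, 4) (.node 2 (420, 4) (.node 1 (1210, 4) (.node 0 (127, 0) .nil .nil) .nil) (.node 3 (1211,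 4) .nil .nil)) (.node 6 (1214, 4) (.node 5 (1213, 4) .nil .nil) (.node 7 (1215, 4) .nil .nil))) (.node 118 (.node 4 (1206, 5) (.node 2 (1205, 5) (.node 1 (126, 0) (.node 0 (1204, 5) .nil .nil) .nil) (.node 3 (419, 5) .nil .nil)) (.node 6 (1208, 5) (.node 5 (1207, 5) .nil .nil) (.node 7 (1209, 5) .nil .nil))) .nil .nil) .nil)))))) (.node 180 (.node 4 (1571, 7) (.node 2 (1569, 7) (.node 1 (1568, 7) (.node 0 (1567, 7) .nil .nil) .nil) (.node 3 (1570, 7) .nil .nil)) (.node 6 (1572, 7) (.node 5 (491, 7) .nil .nil) (.node 7 (1573, 7) .nil .nil))) (.node 150 (.node 4 (1395, 3) (.node 2 (158, 0) (.node 1 (454, 3) (.node 0 (1393, 3) .nil .nil) .nil) (.node 3 (1394, 3) .nil .nil)) (.node 6 (1397, 2) (.node 5 (1396, 3) .nil .nil) (.node 7 (1398, 3) .nil .nil))) (.node 135 (.node 4 (142, 0) (.node 2 (1308, 7) (.node 1 (1307, 7) (.node 0 (1306, 7) .nil .nil) .nil) (.node 3 (1309, 7) .nil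 .nil)) (.node 6 (1310, 7) (.node 5 (437, 7) .nil .nil) (.node 7 (1311, 2) .nil .nil))) (.node 128 (.node 4 (1269, 8) (.node 2 (1267, 8) (.node 1 (1266, 8) (.node 0 (1265, 8) .nil .nil) .nil) (.node 3 (1268, 8) .nil .nil)) (.node 6 (429, 8) (.node 5 (135, 0) .nil .nil) (.node 7 (430, 8) .nil .nil))) (.node 124 (.node 4 (1241, 5) (.node 2 (133, 0) (.node 1 (132, 0) (.node 0 (1240, 5) .nil .nil) .nil) (.node 3 (425, 5) .nil .nil)) (.node 6 (1243, 5) (.node 5 (1242, 5) .nil .nil) (.node 7 (1244, 5) .nil .nil))) (.node 122 (.node 4 (130, 0) (.node 2 (1230, 7) (.node 1 (1229, 7) (.node 0 (1228, 7) .nil .nil) .nil) (.node 3 (1231, 7) .nil .nil)) (.node 6 (1232, 7) (.node 5 (423, 7) .nil .nil) (.node 7 (1233, 7) .nil .nil))) (.node 121 (.node 4 (1226, 8) (.node 2 (1224, 8) (.node 1 (1223, 8) (.node 0 (1222, 8) .nil .nil) .nil) (.node 3 (1225, 8) .nil .nil)) (.node 6 (422, 8) (.node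 5 (129, 0) .nil .nil) (.node 7 (1227, 8) .nil .nil))) .nil .nil) (.node 123 (.node 4 (424, 6) (.node 2 (1236, 6) (.node 1 (1235, 6) (.node 0 (1234, 6) .nil .nil) .nil) (.node 3 (131, 0) .nil .nil)) (.node 6 (1238, 6) (.node 5 (1237, 6) .nil .nil) (.node 7 (1239, 6) .nil .nil))) .nil .nil)) (.node 126 (.node 4 (1254, 3) (.node 2 (1252, 3) (.node 1 (427, 3) (.node 0 (1251, 3) .nil .nil) .nil) (.node 3 (1253, 3) .nil .nil)) (.node 6 (1256, 3) (.node 5 (1255, 3) .nil .nil) (.node 7 (1257, 3) .nil .nil))) (.node 125 (.node 4 (1247, 4) (.node 2 (426, 4) (.node 1 (1245, 4) (.node 0 (134, 0) .nil .nil) .nil) (.node 3 (1246, 4) .nil .nil)) (.node 6 (1249, 4) (.node 5 (1248, 4) .nil .nil) (.node 7 (1250, 4) .nil .nil))) .nil .nil) (.node 127 (.node 4 (1261, 2) (.node 2 (1259, 2) (.node 1 (1258, 2) (.node 0 (428, 2) .nil .nil) .nil) (.node 3 (1260, 2) .nil .nil)) (.node 6 (1263, 2) (.node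 5 (1262, 2) .nil .nil) (.node 7 (1264, 2) .nil .nil))) .nil .nil))) (.node 132 (.node 4 (1289, 3) (.node 2 (140, 0) (.node 1 (434, 3) (.node 0 (1287, 3) .nil .nil) .nil) (.node 3 (1288, 2) .nil .nil)) (.node 6 (1291, 3) (.node 5 (1290, 3) .nil .nil) (.node 7 (1292, 3) .nil .nil))) (.node 130 (.node 4 (432, 6) (.node 2 (1278, 6) (.node 1 (1277, 6) (.node 0 (1276, 6) .nil .nil) .nil) (.node 3 (137, 0) .nil .nil)) (.node 6 (1280, 6) (.node 5 (1279, 2) .nil .nil) (.node 7 (1281, 6) .nil .nil))) (.node 129 (.node 4 (136, 0) (.node 2 (1272, 7) (.node 1 (1271, 7) (.node 0 (1270, 7) .nil .nil) .nil) (.node 3 (1273, 7) .nil .nil)) (.node 6 (1274, 2) (.node 5 (431, 7) .nil .nil) (.node 7 (1275, 7) .nil .nil))) .nil .nil) (.node 131 (.node 4 (1283, 2) (.node 2 (139, 0) (.node 1 (138, 0) (.node 0 (1282, 5) .nil .nil) .nil) (.node 3 (433, 5) .nil .nil)) (.node 6 (1285, 5) (.node 5 (1284,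 5) .nil .nil) (.node 7 (1286, 5) .nil .nil))) .nil .nil)) (.node 134 (.node 4 (1302, 2) (.node 2 (1300, 2) (.node 1 (1299, 2) (.node 0 (436, 2) .nil .nil) .nil) (.node 3 (1301, 2) .nil .nil)) (.node 6 (1304, 2) (.node 5 (1303, 2) .nil .nil) (.node 7 (1305, 2) .nil .nil))) (.node 133 (.node 4 (1295, 4) (.node 2 (435, 4) (.node 1 (1293, 3) (.node 0 (141, 0) .nil .nil) .nil) (.node 3 (1294, 4) .nil .nil)) (.node 6 (1297, 4) (.node 5 (1296, 4) .nil .nil) (.node 7 (1298, 4) .nil .nil))) .nil .nil) .nil))) (.node 143 (.node 4 (1354, 5) (.node 2 (151, 0) (.node 1 (150, 0) (.node 0 (1353, 5) .nil .nil) .nil) (.node 3 (446, 5) .nil .nil)) (.node 6 (1356, 2) (.node 5 (1355, 5) .nil .nil) (.node 7 (1357, 5) .nil .nil))) (.node 139 (.node 4 (1331, 4) (.node 2 (441, 4) (.node 1 (1329, 3) (.node 0 (147, 0) .nil .nil) .nil) (.node 3 (1330, 4) .nil .nil)) (.node 6 (1333, 4) (.node 5 (1332,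 4) .nil .nil) (.node 7 (1334, 4) .nil .nil))) (.node 137 (.node 4 (1319, 5) (.node 2 (145, 0) (.node 1 (144, 0) (.node 0 (1318, 5) .nil .nil) .nil) (.node 3 (439, 5) .nil .nil)) (.node 6 (1321, 5) (.node 5 (1320, 2) .nil .nil) (.node 7 (1322, 5) .nil .nil))) (.node 136 (.node 4 (438, 6) (.node 2 (1314, 6) (.node 1 (1313, 6) (.node 0 (1312, 6) .nil .nil) .nil) (.node 3 (143, 0) .nil .nil)) (.node 6 (1316, 2) (.node 5 (1315, 6) .nil .nil) (.node 7 (1317, 6) .nil .nil))) .nil .nil) (.node 138 (.node 4 (1325, 2) (.node 2 (146, 0) (.node 1 (440, 3) (.node 0 (1323, 3) .nil .nil) .nil) (.node 3 (1324, 3) .nil .nil)) (.node 6 (1327, 3) (.node 5 (1326, 3) .nil .nil) (.node 7 (1328, 3) .nil .nil))) .nil .nil)) (.node 141 (.node 4 (1343, 2) (.node 2 (1341, 2) (.node 1 (1340, 2) (.node 0 (444, 2) .nil .nil) .nil) (.node 3 (1342, 2) .nil .nil)) (.node 6 (1345, 2) (.node 5 (1344, 2) .nil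 .nil) (.node 7 (1346, 2) .nil .nil))) (.node 140 (.node 4 (1336, 3) (.node 2 (443, 4) (.node 1 (442, 4) (.node 0 (148, 0) .nil .nil) .nil) (.node 3 (1335, 3) .nil .nil)) (.node 6 (1338, 3) (.node 5 (1337, 3) .nil .nil) (.node 7 (1339, 3) .nil .nil))) .nil .nil) (.node 142 (.node 4 (445, 6) (.node 2 (1349, 6) (.node 1 (1348, 6) (.node 0 (1347, 6) .nil .nil) .nil) (.node 3 (149, 0) .nil .nil)) (.node 6 (1351, 6) (.node 5 (1350, 6) .nil .nil) (.node 7 (1352, 2) .nil .nil))) .nil .nil))) (.node 147 (.node 4 (1377, 2) (.node 2 (1375, 2) (.node 1 (1374, 2) (.node 0 (451, 2) .nil .nil) .nil) (.node 3 (1376, 2) .nil .nil)) (.node 6 (1379, 2) (.node 5 (1378, 2) .nil .nil) (.node 7 (1380, 2) .nil .nil))) (.node 145 (.node 4 (1366, 4) (.node 2 (448, 4) (.node 1 (1364, 3) (.node 0 (153, 0) .nil .nil) .nil) (.node 3 (1365, 4) .nil .nil)) (.node 6 (1368, 4) (.node 5 (1367, 4) .nil .nil)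 (.node 7 (1369, 4) .nil .nil))) (.node 144 (.node 4 (1360, 3) (.node 2 (152, 0) (.node 1 (447, 3) (.node 0 (1358, 3) .nil .nil) .nil) (.node 3 (1359, 3) .nil .nil)) (.node 6 (1362, 3) (.node 5 (1361, 2) .nil .nil) (.node 7 (1363, 3) .nil .nil))) .nil .nil) (.node 146 (.node 4 (1370, 3) (.node 2 (450, 4) (.node 1 (449, 4) (.node 0 (154, 0) .nil .nil) .nil) (.node 3 (155, 0) .nil .nil)) (.node 6 (1372, 3) (.node 5 (1371, 3) .nil .nil) (.node 7 (1373, 3) .nil .nil))) .nil .nil)) (.node 149 (.node 4 (1389, 5) (.node 2 (157, 0) (.node 1 (156, 0) (.node 0 (1388, 5) .nil .nil) .nil) (.node 3 (453, 5) .nil .nil)) (.node 6 (1391, 5) (.node 5 (1390, 5) .nil .nil) (.node 7 (1392, 2) .nil .nil))) (.node 148 (.node 4 (1384, 2) (.node 2 (1382, 2) (.node 1 (1381, 2) (.node 0 (452, 2) .nil .nil) .nil) (.node 3 (1383, 2) .nil .nil)) (.node 6 (1386, 2) (.node 5 (1385, 2) .nil .nil) (.node 7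 (1387, 2) .nil .nil))) .nil .nil) .nil)))) (.node 165 (.node 4 (1482, 2) (.node 2 (1481, 2) (.node 1 (1480, 2) (.node 0 (473, 2) .nil .nil) .nil) (.node 3 (172, 0) .nil .nil)) (.node 6 (1484, 2) (.node 5 (1483, 2) .nil .nil) (.node 7 (1485, 2) .nil .nil))) (.node 158 (.node 4 (1441, 3) (.node 2 (464, 4) (.node 1 (463, 4) (.node 0 (165, 0) .nil .nil) .nil) (.node 3 (166, 0) .nil .nil)) (.node 6 (1443, 3) (.node 5 (1442, 3) .nil .nil) (.node 7 (1444, 3) .nil .nil))) (.node 154 (.node 4 (1418, 2) (.node 2 (1417, 2) (.node 1 (1416, 2) (.node 0 (459, 2) .nil .nil) .nil) (.node 3 (162, 0) .nil .nil)) (.node 6 (1420, 2) (.node 5 (1419, 2) .nil .nil) (.node 7 (1421, 2) .nil .nil))) (.node 152 (.node 4 (1405, 3) (.node 2 (457, 4) (.node 1 (456, 4) (.node 0 (160, 0) .nil .nil) .nil) (.node 3 (161, 0) .nil .nil)) (.node 6 (1407, 3) (.node 5 (1406, 3) .nil .nil) (.node 7 (1408, 3) .nil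 .nil))) (.node 151 (.node 4 (1401, 4) (.node 2 (455, 4) (.node 1 (1399, 3) (.node 0 (159, 0) .nil .nil) .nil) (.node 3 (1400, 4) .nil .nil)) (.node 6 (1403, 4) (.node 5 (1402, 4) .nil .nil) (.node 7 (1404, 4) .nil .nil))) .nil .nil) (.node 153 (.node 4 (1412, 2) (.node 2 (1410, 2) (.node 1 (1409, 2) (.node 0 (458, 2) .nil .nil) .nil) (.node 3 (1411, 2) .nil .nil)) (.node 6 (1414, 2) (.node 5 (1413, 2) .nil .nil) (.node 7 (1415, 2) .nil .nil))) .nil .nil)) (.node 156 (.node 4 (1431, 3) (.node 2 (163, 0) (.node 1 (461, 3) (.node 0 (1429, 3) .nil .nil) .nil) (.node 3 (1430, 3) .nil .nil)) (.node 6 (1433, 3) (.node 5 (1432, 3) .nil .nil) (.node 7 (1434, 2) .nil .nil))) (.node 155 (.node 4 (1425, 5) (.node 2 (1424, 5) (.node 1 (1423, 5) (.node 0 (1422, 2) .nil .nil) .nil) (.node 3 (460, 5) .nil .nil)) (.node 6 (1427, 5) (.node 5 (1426, 5) .nil .nil) (.node 7 (1428, 5) .nil .nil)))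 .nil .nil) (.node 157 (.node 4 (1437, 4) (.node 2 (462, 4) (.node 1 (1435, 3) (.node 0 (164, 0) .nil .nil) .nil) (.node 3 (1436, 4) .nil .nil)) (.node 6 (1439, 4) (.node 5 (1438, 4) .nil .nil) (.node 7 (1440, 4) .nil .nil))) .nil .nil))) (.node 162 (.node 4 (1465, 2) (.node 2 (169, 0) (.node 1 (1464, 2) (.node 0 (468, 5) .nil .nil) .nil) (.node 3 (469, 5) .nil .nil)) (.node 6 (1467, 2) (.node 5 (1466, 2) .nil .nil) (.node 7 (1468, 2) .nil .nil))) (.node 160 (.node 4 (1454, 2) (.node 2 (1453, 2) (.node 1 (1452, 2) (.node 0 (466, 2) .nil .nil) .nil) (.node 3 (167, 0) .nil .nil)) (.node 6 (1456, 2) (.node 5 (1455, 2) .nil .nil) (.node 7 (1457, 2) .nil .nil))) (.node 159 (.node 4 (1448, 2) (.node 2 (1446, 2) (.node 1 (1445, 2) (.node 0 (465, 2) .nil .nil) .nil) (.node 3 (1447, 2) .nil .nil)) (.node 6 (1450, 2) (.node 5 (1449, 2) .nil .nil) (.node 7 (1451, 2) .nil .nil))) .nil .nil)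 (.node 161 (.node 4 (168, 0) (.node 2 (1460, 5) (.node 1 (1459, 5) (.node 0 (1458, 2) .nil .nil) .nil) (.node 3 (467, 5) .nil .nil)) (.node 6 (1462, 5) (.node 5 (1461, 3) .nil .nil) (.node 7 (1463, 5) .nil .nil))) .nil .nil)) (.node 164 (.node 4 (1476, 2) (.node 2 (1474, 2) (.node 1 (1473, 2) (.node 0 (472, 2) .nil .nil) .nil) (.node 3 (1475, 2) .nil .nil)) (.node 6 (1478, 2) (.node 5 (1477, 2) .nil .nil) (.node 7 (1479, 2) .nil .nil))) (.node 163 (.node 4 (1469, 3) (.node 2 (471, 4) (.node 1 (470, 4) (.node 0 (170, 0) .nil .nil) .nil) (.node 3 (171, 0) .nil .nil)) (.node 6 (1471, 3) (.node 5 (1470, 3) .nil .nil) (.node 7 (1472, 3) .nil .nil))) .nil .nil) .nil))) (.node 173 (.node 4 (483, 6) (.node 2 (1528, 6) (.node 1 (1527, 6) (.node 0 (1526, 6) .nil .nil) .nil) (.node 3 (1529, 6) .nil .nil)) (.node 6 (1530, 3) (.node 5 (180, 0) .nil .nil) (.node 7 (1531, 6) .nil .nil)))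 (.node 169 (.node 4 (1506, 4) (.node 2 (478, 4) (.node 1 (1504, 4) (.node 0 (1503, 4) .nil .nil) .nil) (.node 3 (1505, 4) .nil .nil)) (.node 6 (1508, 4) (.node 5 (1507, 4) .nil .nil) (.node 7 (1509, 4) .nil .nil))) (.node 167 (.node 4 (175, 0) (.node 2 (174, 0) (.node 1 (1492, 2) (.node 0 (475, 5) .nil .nil) .nil) (.node 3 (476, 5) .nil .nil)) (.node 6 (1494, 2) (.node 5 (1493, 2) .nil .nil) (.node 7 (1495, 2) .nil .nil))) (.node 166 (.node 4 (173, 0) (.node 2 (1488, 5) (.node 1 (1487, 5) (.node 0 (1486, 2) .nil .nil) .nil) (.node 3 (474, 5) .nil .nil)) (.node 6 (1490, 3) (.node 5 (1489, 5) .nil .nil) (.node 7 (1491, 5) .nil .nil))) .nil .nil) (.node 168 (.node 4 (477, 6) (.node 2 (1498, 6) (.node 1 (1497, 6) (.node 0 (1496, 6) .nil .nil) .nil) (.node 3 (1499, 6) .nil .nil)) (.node 6 (1501, 6) (.node 5 (1500, 6) .nil .nil) (.node 7 (1502, 6) .nil .nil))) .nil .nil)) (.node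 171 (.node 4 (177, 0) (.node 2 (1518, 5) (.node 1 (1517, 5) (.node 0 (1516, 2) .nil .nil) .nil) (.node 3 (480, 5) .nil .nil)) (.node 6 (1520, 5) (.node 5 (1519, 5) .nil .nil) (.node 7 (1521, 3) .nil .nil))) (.node 170 (.node 4 (1512, 2) (.node 2 (1511, 2) (.node 1 (1510, 2) (.node 0 (479, 2) .nil .nil) .nil) (.node 3 (176, 0) .nil .nil)) (.node 6 (1514, 2) (.node 5 (1513, 2) .nil .nil) (.node 7 (1515, 2) .nil .nil))) .nil .nil) (.node 172 (.node 4 (179, 0) (.node 2 (178, 0) (.node 1 (1522, 2) (.node 0 (481, 5) .nil .nil) .nil) (.node 3 (482, 5) .nil .nil)) (.node 6 (1524, 2) (.node 5 (1523, 2) .nil .nil) (.node 7 (1525, 2) .nil .nil))) .nil .nil))) (.node 177 (.node 4 (488, 6) (.node 2 (1551, 6) (.node 1 (1550, 6) (.node 0 (1549, 6) .nil .nil) .nil) (.node 3 (1552, 6) .nil .nil)) (.node 6 (1553, 6) (.node 5 (184, 0) .nil .nil) (.node 7 (1554, 3) .nil .nil))) (.node 175 (.node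 4 (485, 6) (.node 2 (1540, 4) (.node 1 (1539, 2) (.node 0 (1538, 2) .nil .nil) .nil) (.node 3 (1541, 2) .nil .nil)) (.node 6 (1543, 6) (.node 5 (1542, 2) .nil .nil) (.node 7 (1544, 2) .nil .nil))) (.node 174 (.node 4 (181, 0) (.node 2 (484, 4) (.node 1 (1533, 4) (.node 0 (1532, 4) .nil .nil) .nil) (.node 3 (1534, 4) .nil .nil)) (.node 6 (1536, 4) (.node 5 (1535, 2) .nil .nil) (.node 7 (1537, 4) .nil .nil))) .nil .nil) (.node 176 (.node 4 (183, 0) (.node 2 (182, 0) (.node 1 (1545, 2) (.node 0 (486, 5) .nil .nil) .nil) (.node 3 (487, 5) .nil .nil)) (.node 6 (1547, 2) (.node 5 (1546, 2) .nil .nil) (.node 7 (1548, 2) .nil .nil))) .nil .nil)) (.node 179 (.node 4 (490, 6) (.node 2 (1563, 4) (.node 1 (1562, 2) (.node 0 (1561, 2) .nil .nil) .nil) (.node 3 (1564, 2) .nil .nil)) (.node 6 (1565, 2) (.node 5 (186, 0) .nil .nil) (.node 7 (1566, 6) .nil .nil))) (.node 178 (.node 4 (185,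 0) (.node 2 (489, 4) (.node 1 (1556, 4) (.node 0 (1555, 4) .nil .nil) .nil) (.node 3 (1557, 4) .nil .nil)) (.node 6 (1559, 2) (.node 5 (1558, 4) .nil .nil) (.node 7 (1560, 4) .nil .nil))) .nil .nil) .nil))))) (.node 210 (.node 4 (528, 8) (.node 2 (1745, 6) (.node 1 (1744, 6) (.node 0 (1743, 6) .nil .nil) .nil) (.node 3 (1746, 6) .nil .nil)) (.node 6 (529, 8) (.node 5 (214, 0) .nil .nil) (.node 7 (1747, 6) .nil .nil))) (.node 195 (.node 4 (1659, 4) (.node 2 (1657, 2) (.node 1 (1656, 7) (.node 0 (1655, 7) .nil .nil) .nil) (.node 3 (1658, 5) .nil .nil)) (.node 6 (201, 0) (.node 5 (509, 7) .nil .nil) (.node 7 (1660, 2) .nil .nil))) (.node 188 (.node 4 (502, 6) (.node 2 (501, 6) (.node 1 (1615, 4) (.node 0 (1614, 4) .nil .nil) .nil) (.node 3 (194, 0) .nil .nil)) (.node 6 (1616, 4) (.node 5 (195, 0) .nil .nil) (.node 7 (1617, 2) .nil .nil))) (.node 184 (.node 4 (1595, 7) (.node 2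 (1593, 7) (.node 1 (1592, 7) (.node 0 (1591, 7) .nil .nil) .nil) (.node 3 (1594, 7) .nil .nil)) (.node 6 (190, 0) (.node 5 (496, 7) .nil .nil) (.node 7 (1596, 3) .nil .nil))) (.node 182 (.node 4 (188, 0) (.node 2 (494, 4) (.node 1 (1580, 4) (.node 0 (1579, 4) .nil .nil) .nil) (.node 3 (1581, 4) .nil .nil)) (.node 6 (1583, 4) (.node 5 (1582, 4) .nil .nil) (.node 7 (1584, 2) .nil .nil))) (.node 181 (.node 4 (493, 6) (.node 2 (492, 6) (.node 1 (1575, 4) (.node 0 (1574, 4) .nil .nil) .nil) (.node 3 (187, 0) .nil .nil)) (.node 6 (1577, 4) (.node 5 (1576, 4) .nil .nil) (.node 7 (1578, 4) .nil .nil))) .nil .nil) (.node 183 (.node 4 (495, 6) (.node 2 (1587, 4) (.node 1 (1586, 2) (.node 0 (1585, 2) .nil .nil) .nil) (.node 3 (1588, 2) .nil .nil)) (.node 6 (1589, 2) (.node 5 (189, 0) .nil .nil) (.node 7 (1590, 2) .nil .nil))) .nil .nil)) (.node 186 (.node 4 (1605, 2) (.node 2 (1603, 7)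 (.node 1 (1602, 2) (.node 0 (1601, 2) .nil .nil) .nil) (.node 3 (1604, 2) .nil .nil)) (.node 6 (1606, 2) (.node 5 (499, 7) .nil .nil) (.node 7 (1607, 7) .nil .nil))) (.node 185 (.node 4 (498, 6) (.node 2 (497, 6) (.node 1 (1598, 4) (.node 0 (1597, 4) .nil .nil) .nil) (.node 3 (191, 0) .nil .nil)) (.node 6 (1599, 2) (.node 5 (192, 0) .nil .nil) (.node 7 (1600, 4) .nil .nil))) .nil .nil) (.node 187 (.node 4 (1610, 5) (.node 2 (1609, 5) (.node 1 (193, 0) (.node 0 (1608, 5) .nil .nil) .nil) (.node 3 (500, 5) .nil .nil)) (.node 6 (1612, 5) (.node 5 (1611, 5) .nil .nil) (.node 7 (1613, 5) .nil .nil))) .nil .nil))) (.node 192 (.node 4 (1640, 4) (.node 2 (1638, 2) (.node 1 (1637, 7) (.node 0 (1636, 7) .nil .nil) .nil) (.node 3 (1639, 5) .nil .nil)) (.node 6 (1641, 4) (.node 5 (506, 7) .nil .nil) (.node 7 (1642, 7) .nil .nil))) (.node 190 (.node 4 (1628, 8) (.node 2 (1626, 8) (.node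 1 (1625, 8) (.node 0 (1624, 8) .nil .nil) .nil) (.node 3 (1627, 8) .nil .nil)) (.node 6 (504, 8) (.node 5 (1629, 8) .nil .nil) (.node 7 (1630, 8) .nil .nil))) (.node 189 (.node 4 (1622, 2) (.node 2 (1620, 7) (.node 1 (1619, 2) (.node 0 (1618, 2) .nil .nil) .nil) (.node 3 (1621, 2) .nil .nil)) (.node 6 (196, 0) (.node 5 (503, 7) .nil .nil) (.node 7 (1623, 2) .nil .nil))) .nil .nil) (.node 191 (.node 4 (1633, 5) (.node 2 (1632, 5) (.node 1 (197, 0) (.node 0 (1631, 5) .nil .nil) .nil) (.node 3 (505, 5) .nil .nil)) (.node 6 (1634, 2) (.node 5 (198, 0) .nil .nil) (.node 7 (1635, 5) .nil .nil))) .nil .nil)) (.node 194 (.node 4 (1652, 5) (.node 2 (1651, 5) (.node 1 (199, 0) (.node 0 (1650, 5) .nil .nil) .nil) (.node 3 (508, 5) .nil .nil)) (.node 6 (1653, 5) (.node 5 (200, 0) .nil .nil) (.node 7 (1654, 2) .nil .nil))) (.node 193 (.node 4 (1646, 3) (.node 2 (1644, 3) (.node 1 (507,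 3) (.node 0 (1643, 3) .nil .nil) .nil) (.node 3 (1645, 3) .nil .nil)) (.node 6 (1648, 3) (.node 5 (1647, 3) .nil .nil) (.node 7 (1649, 3) .nil .nil))) .nil .nil) .nil))) (.node 203 (.node 4 (520, 6) (.node 2 (1703, 6) (.node 1 (1702, 6) (.node 0 (1701, 6) .nil .nil) .nil) (.node 3 (1704, 6) .nil .nil)) (.node 6 (1706, 6) (.node 5 (1705, 6) .nil .nil) (.node 7 (1707, 6) .nil .nil))) (.node 199 (.node 4 (1682, 3) (.node 2 (1680, 3) (.node 1 (514, 3) (.node 0 (1679, 3) .nil .nil) .nil) (.node 3 (1681, 3) .nil .nil)) (.node 6 (1683, 3) (.node 5 (204, 0) .nil .nil) (.node 7 (1684, 2) .nil .nil))) (.node 197 (.node 4 (1671, 3) (.node 2 (1669, 3) (.node 1 (511, 3) (.node 0 (1668, 3) .nil .nil) .nil) (.node 3 (1670, 3) .nil .nil)) (.node 6 (1672, 2) (.node 5 (202, 0) .nil .nil) (.node 7 (1673, 3) .nil .nil))) (.node 196 (.node 4 (1665, 2) (.node 2 (1663, 8) (.node 1 (1662, 2) (.node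 0 (1661, 2) .nil .nil) .nil) (.node 3 (1664, 2) .nil .nil)) (.node 6 (510, 8) (.node 5 (1666, 2) .nil .nil) (.node 7 (1667, 2) .nil .nil))) .nil .nil) (.node 198 (.node 4 (203, 0) (.node 2 (1676, 5) (.node 1 (1675, 3) (.node 0 (1674, 5) .nil .nil) .nil) (.node 3 (512, 7) .nil .nil)) (.node 6 (1677, 5) (.node 5 (513, 7) .nil .nil) (.node 7 (1678, 5) .nil .nil))) .nil .nil)) (.node 201 (.node 4 (1693, 4) (.node 2 (1691, 2) (.node 1 (1690, 8) (.node 0 (1689, 8) .nil .nil) .nil) (.node 3 (1692, 8) .nil .nil)) (.node 6 (517, 8) (.node 5 (1694, 4) .nil .nil) (.node 7 (1695, 4) .nil .nil))) (.node 200 (.node 4 (205, 0) (.node 2 (1687, 5) (.node 1 (1686, 3) (.node 0 (1685, 5) .nil .nil) .nil) (.node 3 (515, 7) .nil .nil)) (.node 6 (206, 0) (.node 5 (516, 7) .nil .nil) (.node 7 (1688, 2) .nil .nil))) .nil .nil) (.node 202 (.node 4 (207, 0) (.node 2 (1697, 3) (.node 1 (518, 7) (.node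 0 (1696, 3) .nil .nil) .nil) (.node 3 (1698, 3) .nil .nil)) (.node 6 (1699, 3) (.node 5 (519, 7) .nil .nil) (.node 7 (1700, 3) .nil .nil))) .nil .nil))) (.node 207 (.node 4 (525, 6) (.node 2 (1727, 3) (.node 1 (1726, 2) (.node 0 (1725, 6) .nil .nil) .nil) (.node 3 (211, 0) .nil .nil)) (.node 6 (1729, 3) (.node 5 (1728, 3) .nil .nil) (.node 7 (1730, 6) .nil .nil))) (.node 205 (.node 4 (523, 6) (.node 2 (1714, 6) (.node 1 (1713, 6) (.node 0 (1712, 6) .nil .nil) .nil) (.node 3 (1715, 6) .nil .nil)) (.node 6 (210, 0) (.node 5 (1716, 6) .nil .nil) (.node 7 (1717, 2) .nil .nil))) (.node 204 (.node 4 (208, 0) (.node 2 (1709, 3) (.node 1 (521, 7) (.node 0 (1708, 3) .nil .nil) .nil) (.node 3 (1710, 3) .nil .nil)) (.node 6 (209, 0) (.node 5 (522, 7) .nil .nil) (.node 7 (1711, 2) .nil .nil))) .nil .nil) (.node 206 (.node 4 (1722, 6) (.node 2 (1720, 8) (.node 1 (1719, 8) (.node 0 (1718,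 8) .nil .nil) .nil) (.node 3 (1721, 2) .nil .nil)) (.node 6 (524, 8) (.node 5 (1723, 5) .nil .nil) (.node 7 (1724, 5) .nil .nil))) .nil .nil)) (.node 209 (.node 4 (1740, 6) (.node 2 (1738, 3) (.node 1 (1737, 2) (.node 0 (1736, 8) .nil .nil) .nil) (.node 3 (1739, 3) .nil .nil)) (.node 6 (527, 8) (.node 5 (1741, 3) .nil .nil) (.node 7 (1742, 3) .nil .nil))) (.node 208 (.node 4 (526, 6) (.node 2 (1733, 3) (.node 1 (1732, 2) (.node 0 (1731, 6) .nil .nil) .nil) (.node 3 (212, 0) .nil .nil)) (.node 6 (213, 0) (.node 5 (1734, 3) .nil .nil) (.node 7 (1735, 2) .nil .nil))) .nil .nil) .nil)))) (.node 225 (.node 4 (548, 6) (.node 2 (1831, 6) (.node 1 (1830, 6) (.node 0 (1829, 6) .nil .nil) .nil) (.node 3 (1832, 6) .nil .nil)) (.node 6 (1834, 6) (.node 5 (1833, 6) .nil .nil) (.node 7 (1835, 6) .nil .nil))) (.node 218 (.node 4 (1791, 3) (.node 2 (1789, 3) (.node 1 (1788, 2) (.node 0 (1787,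 7) .nil .nil) .nil) (.node 3 (1790, 7) .nil .nil)) (.node 6 (1792, 3) (.node 5 (539, 7) .nil .nil) (.node 7 (1793, 3) .nil .nil))) (.node 214 (.node 4 (1768, 7) (.node 2 (1766, 7) (.node 1 (1765, 7) (.node 0 (1764, 7) .nil .nil) .nil) (.node 3 (1767, 7) .nil .nil)) (.node 6 (1769, 7) (.node 5 (534, 7) .nil .nil) (.node 7 (1770, 7) .nil .nil))) (.node 212 (.node 4 (1756, 5) (.node 2 (216, 0) (.node 1 (1755, 5) (.node 0 (1754, 5) .nil .nil) .nil) (.node 3 (531, 5) .nil .nil)) (.node 6 (217, 0) (.node 5 (1757, 5) .nil .nil) (.node 7 (1758, 2) .nil .nil))) (.node 211 (.node 4 (1750, 5) (.node 2 (215, 0) (.node 1 (1749, 5) (.node 0 (1748, 5) .nil .nil) .nil) (.node 3 (530, 5) .nil .nil)) (.node 6 (1752, 5) (.node 5 (1751, 5) .nil .nil) (.node 7 (1753, 5) .nil .nil))) .nil .nil) (.node 213 (.node 4 (532, 8) (.node 2 (1761, 3) (.node 1 (1760, 2) (.node 0 (1759, 6) .nil .nil) .nil)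 (.node 3 (1762, 5) .nil .nil)) (.node 6 (533, 8) (.node 5 (218, 0) .nil .nil) (.node 7 (1763, 3) .nil .nil))) .nil .nil)) (.node 216 (.node 4 (1779, 4) (.node 2 (536, 4) (.node 1 (1777, 4) (.node 0 (220, 0) .nil .nil) .nil) (.node 3 (1778, 4) .nil .nil)) (.node 6 (221, 0) (.node 5 (1780, 4) .nil .nil) (.node 7 (1781, 3) .nil .nil))) (.node 215 (.node 4 (1773, 4) (.node 2 (535, 4) (.node 1 (1771, 4) (.node 0 (219, 0) .nil .nil) .nil) (.node 3 (1772, 4) .nil .nil)) (.node 6 (1775, 4) (.node 5 (1774, 4) .nil .nil) (.node 7 (1776, 4) .nil .nil))) .nil .nil) (.node 217 (.node 4 (1785, 5) (.node 2 (1784, 4) (.node 1 (1783, 5) (.node 0 (1782, 5) .nil .nil) .nil) (.node 3 (537, 8) .nil .nil)) (.node 6 (538, 8) (.node 5 (222, 0) .nil .nil) (.node 7 (1786, 5) .nil .nil))) .nil .nil))) (.node 222 (.node 4 (225, 0) (.node 2 (1814, 7) (.node 1 (1813, 7) (.node 0 (1812, 7) .nil .nil) .nil)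 (.node 3 (1815, 2) .nil .nil)) (.node 6 (1816, 5) (.node 5 (544, 7) .nil .nil) (.node 7 (1817, 5) .nil .nil))) (.node 220 (.node 4 (1804, 2) (.node 2 (1802, 2) (.node 1 (1801, 2) (.node 0 (541, 2) .nil .nil) .nil) (.node 3 (1803, 2) .nil .nil)) (.node 6 (223, 0) (.node 5 (1805, 2) .nil .nil) (.node 7 (1806, 2) .nil .nil))) (.node 219 (.node 4 (1797, 2) (.node 2 (1795, 2) (.node 1 (1794, 2) (.node 0 (540, 2) .nil .nil) .nil) (.node 3 (1796, 2) .nil .nil)) (.node 6 (1799, 2) (.node 5 (1798, 2) .nil .nil) (.node 7 (1800, 2) .nil .nil))) .nil .nil) (.node 221 (.node 4 (1810, 4) (.node 2 (542, 8) (.node 1 (1808, 4) (.node 0 (1807, 2) .nil .nil) .nil) (.node 3 (1809, 4) .nil .nil)) (.node 6 (543, 8) (.node 5 (224, 0) .nil .nil) (.node 7 (1811, 4) .nil .nil))) .nil .nil)) (.node 224 (.node 4 (227, 0) (.node 2 (1825, 3) (.node 1 (1824, 7) (.node 0 (1823, 7) .nil .nil) .nil) (.node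 3 (1826, 4) .nil .nil)) (.node 6 (1827, 4) (.node 5 (547, 7) .nil .nil) (.node 7 (1828, 4) .nil .nil))) (.node 223 (.node 4 (1821, 2) (.node 2 (1819, 2) (.node 1 (1818, 2) (.node 0 (545, 8) .nil .nil) .nil) (.node 3 (1820, 2) .nil .nil)) (.node 6 (546, 8) (.node 5 (226, 0) .nil .nil) (.node 7 (1822, 2) .nil .nil))) .nil .nil) .nil))) (.node 233 (.node 4 (1881, 4) (.node 2 (556, 4) (.node 1 (1879, 3) (.node 0 (1878, 4) .nil .nil) .nil) (.node 3 (1880, 4) .nil .nil)) (.node 6 (1883, 4) (.node 5 (1882, 4) .nil .nil) (.node 7 (1884, 4) .nil .nil))) (.node 229 (.node 4 (1856, 5) (.node 2 (1855, 5) (.node 1 (231, 0) (.node 0 (1854, 5) .nil .nil) .nil) (.node 3 (552, 5) .nil .nil)) (.node 6 (1858, 5) (.node 5 (1857, 5) .nil .nil) (.node 7 (1859, 5) .nil .nil))) (.node 227 (.node 4 (550, 6) (.node 2 (1844, 3) (.node 1 (1843, 6) (.node 0 (1842, 6) .nil .nil) .nil) (.node 3 (229, 0)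 .nil .nil)) (.node 6 (1846, 4) (.node 5 (1845, 4) .nil .nil) (.node 7 (1847, 4) .nil .nil))) (.node 226 (.node 4 (228, 0) (.node 2 (1838, 2) (.node 1 (1837, 2) (.node 0 (1836, 2) .nil .nil) .nil) (.node 3 (1839, 2) .nil .nil)) (.node 6 (1840, 2) (.node 5 (549, 7) .nil .nil) (.node 7 (1841, 2) .nil .nil))) .nil .nil) (.node 228 (.node 4 (551, 6) (.node 2 (1850, 2) (.node 1 (1849, 2) (.node 0 (1848, 2) .nil .nil) .nil) (.node 3 (230, 0) .nil .nil)) (.node 6 (1852, 2) (.node 5 (1851, 2) .nil .nil) (.node 7 (1853, 2) .nil .nil))) .nil .nil)) (.node 231 (.node 4 (1868, 3) (.node 2 (1866, 3) (.node 1 (554, 3) (.node 0 (1865, 3) .nil .nil) .nil) (.node 3 (1867, 3) .nil .nil)) (.node 6 (1870, 3) (.node 5 (1869, 3) .nil .nil) (.node 7 (1871, 3) .nil .nil))) (.node 230 (.node 4 (1861, 2) (.node 2 (233, 0) (.node 1 (232, 0) (.node 0 (1860, 2) .nil .nil) .nil) (.node 3 (553, 5) .nil .nil))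 (.node 6 (1863, 2) (.node 5 (1862, 2) .nil .nil) (.node 7 (1864, 2) .nil .nil))) .nil .nil) (.node 232 (.node 4 (1874, 2) (.node 2 (234, 0) (.node 1 (555, 3) (.node 0 (1872, 2) .nil .nil) .nil) (.node 3 (1873, 2) .nil .nil)) (.node 6 (1876, 2) (.node 5 (1875, 2) .nil .nil) (.node 7 (1877, 2) .nil .nil))) .nil .nil))) (.node 237 (.node 4 (1906, 7) (.node 2 (1904, 7) (.node 1 (1903, 7) (.node 0 (1902, 7) .nil .nil) .nil) (.node 3 (1905, 7) .nil .nil)) (.node 6 (238, 0) (.node 5 (561, 7) .nil .nil) (.node 7 (1907, 7) .nil .nil))) (.node 235 (.node 4 (236, 0) (.node 2 (1892, 5) (.node 1 (1891, 5) (.node 0 (1890, 5) .nil .nil) .nil) (.node 3 (559, 5) .nil .nil)) (.node 6 (1894, 5) (.node 5 (1893, 5) .nil .nil) (.node 7 (1895, 5) .nil .nil))) (.node 234 (.node 4 (1886, 3) (.node 2 (558, 4) (.node 1 (557, 4) (.node 0 (1885, 3) .nil .nil) .nil) (.node 3 (235, 0) .nil .nil)) (.node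 6 (1888, 3) (.node 5 (1887, 3) .nil .nil) (.node 7 (1889, 3) .nil .nil))) .nil .nil) (.node 236 (.node 4 (560, 6) (.node 2 (1898, 6) (.node 1 (1897, 6) (.node 0 (1896, 6) .nil .nil) .nil) (.node 3 (1899, 6) .nil .nil)) (.node 6 (1900, 6) (.node 5 (237, 0) .nil .nil) (.node 7 (1901, 6) .nil .nil))) .nil .nil)) (.node 239 (.node 4 (1918, 9) (.node 2 (1916, 9) (.node 1 (1915, 9) (.node 0 (1914, 9) .nil .nil) .nil) (.node 3 (1917, 9) .nil .nil)) (.node 6 (1920, 9) (.node 5 (1919, 9) .nil .nil) (.node 7 (563, 9) .nil .nil))) (.node 238 (.node 4 (1912, 8) (.node 2 (1910, 8) (.node 1 (1909, 8) (.node 0 (1908, 8) .nil .nil) .nil) (.node 3 (1911, 8) .nil .nil)) (.node 6 (562, 8) (.node 5 (1913, 8) .nil .nil) (.node 7 (239, 0) .nil .nil))) .nil .nil) .nil)))))))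
  wT := (.node 120 [7, 6, 5, 4, 3, 1, 2, 0, 3, 2, 4, 3, 1, 5, 4, 3, 2, 0, 6, 5, 4, 3, 1, 2, 3, 4, 5, 6, 7] (.node 60 [7, 6, 5, 4, 3, 1, 2, 0, 3, 2, 4, 3, 1, 5, 4, 3, 2, 6, 5, 4] (.node 30 [7, 6, 5, 4, 3, 1, 2, 0, 3, 2, 4, 3, 5, 6] (.node 15 [7, 6, 5, 4, 3, 1, 2, 0, 3, 4] (.node 7 [7, 6, 5, 4, 3, 2] (.node 3 [7, 6, 5] (.node 1 [7] (.node 0 [] .nil .nil) (.node 2 [7, 6] .nil .nil)) (.node 5 [7, 6, 5, 4, 3] (.node 4 [7, 6, 5, 4] .nil .nil) (.node 6 [7, 6, 5, 4, 3, 1] .nil .nil))) (.node 11 [7, 6, 5, 4, 3, 1, 2, 3] (.node 9 [7, 6, 5, 4, 3, 2, 0] (.node 8 [7, 6, 5, 4, 3, 1, 2] .nil .nil) (.node 10 [7, 6, 5, 4, 3, 1, 2, 0] .nil .nil)) (.node 13 [7, 6, 5, 4, 3, 1, 2, 3, 4] (.node 12 [7, 6, 5, 4, 3, 1, 2, 0, 3] .nil .nil) (.node 14 [7, 6, 5, 4, 3, 1, 2, 0, 3, 2] .nil .nil)))) (.node 23 [7, 6, 5, 4, 3, 1, 2, 3, 4, 5, 6, 7] (.node 19 [7, 6, 5, 4, 3, 1, 2, 3, 4, 5, 6] (.node 17 [7, 6,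 5, 4, 3, 1, 2, 0, 3, 2, 4] (.node 16 [7, 6, 5, 4, 3, 1, 2, 3, 4, 5] .nil .nil) (.node 18 [7, 6, 5, 4, 3, 1, 2, 0, 3, 4, 5] .nil .nil)) (.node 21 [7, 6, 5, 4, 3, 1, 2, 0, 3, 2, 4, 5] (.node 20 [7, 6, 5, 4, 3, 1, 2, 0, 3, 2, 4, 3] .nil .nil) (.node 22 [7, 6, 5, 4, 3, 1, 2, 0, 3, 4, 5, 6] .nil .nil))) (.node 27 [7, 6, 5, 4, 3, 1, 2, 0, 3, 4, 5, 6, 7] (.node 25 [7, 6, 5, 4, 3, 1, 2, 0, 3, 2, 4, 3, 5] (.node 24 [7, 6, 5, 4, 3, 1, 2, 0, 3, 2, 4, 3, 1] .nil .nil) (.node 26 [7, 6, 5, 4, 3, 1, 2, 0, 3, 2, 4, 5, 6] .nil .nil)) (.node 29 [7, 6, 5, 4, 3, 1, 2, 0, 3, 2, 4, 3, 5, 4] (.node 28 [7, 6, 5, 4, 3, 1, 2, 0, 3, 2, 4, 3, 1, 5] .nil .nil) .nil)))) (.node 45 [7, 6, 5, 4, 3, 1, 2, 0, 3, 2, 4, 3, 5, 4, 6, 5, 7] (.node 38 [7, 6, 5, 4, 3, 1, 2, 0, 3, 2, 4, 3, 1, 5, 6, 7] (.node 34 [7, 6, 5, 4, 3, 1, 2, 0, 3, 2, 4, 3, 5, 4, 6] (.node 32 [7, 6, 5, 4, 3, 1, 2, 0, 3, 2, 4, 3, 1, 5, 4] (.node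 31 [7, 6, 5, 4, 3, 1, 2, 0, 3, 2, 4, 5, 6, 7] .nil .nil) (.node 33 [7, 6, 5, 4, 3, 1, 2, 0, 3, 2, 4, 3, 1, 5, 6] .nil .nil)) (.node 36 [7, 6, 5, 4, 3, 1, 2, 0, 3, 2, 4, 3, 1, 5, 4, 3] (.node 35 [7, 6, 5, 4, 3, 1, 2, 0, 3, 2, 4, 3, 5, 6, 7] .nil .nil) (.node 37 [7, 6, 5, 4, 3, 1, 2, 0, 3, 2, 4, 3, 1, 5, 4, 6] .nil .nil))) (.node 42 [7, 6, 5, 4, 3, 1, 2, 0, 3, 2, 4, 3, 1, 5, 4, 3, 6] (.node 40 [7, 6, 5, 4, 3, 1, 2, 0, 3, 2, 4, 3, 5, 4, 6, 7] (.node 39 [7, 6, 5, 4, 3, 1, 2, 0, 3, 2, 4, 3, 5, 4, 6, 5] .nil .nil) (.node 41 [7, 6, 5, 4, 3, 1, 2, 0, 3, 2, 4, 3, 1, 5, 4, 3, 2] .nil .nil)) (.node 44 [7, 6, 5, 4, 3, 1, 2, 0, 3, 2, 4, 3, 1, 5, 4, 6, 7] (.node 43 [7, 6, 5, 4, 3, 1, 2, 0, 3, 2, 4, 3, 1, 5, 4, 6, 5] .nil .nil) .nil))) (.node 53 [7, 6, 5, 4, 3, 1, 2, 0, 3, 2, 4, 3, 1, 5, 4, 3, 2, 6, 5] (.node 49 [7, 6, 5, 4, 3, 1, 2, 0, 3, 2, 4, 3, 1, 5, 4, 3, 6, 7] (.node 47 [7, 6, 5, 4,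 3, 1, 2, 0, 3, 2, 4, 3, 1, 5, 4, 3, 2, 6] (.node 46 [7, 6, 5, 4, 3, 1, 2, 0, 3, 2, 4, 3, 1, 5, 4, 3, 2, 0] .nil .nil) (.node 48 [7, 6, 5, 4, 3, 1, 2, 0, 3, 2, 4, 3, 1, 5, 4, 3, 6, 5] .nil .nil)) (.node 51 [7, 6, 5, 4, 3, 1, 2, 0, 3, 2, 4, 3, 5, 4, 6, 5, 7, 6] (.node 50 [7, 6, 5, 4, 3, 1, 2, 0, 3, 2, 4, 3, 1, 5, 4, 6, 5, 7] .nil .nil) (.node 52 [7, 6, 5, 4, 3, 1, 2, 0, 3, 2, 4, 3, 1, 5, 4, 3, 2, 0, 6] .nil .nil))) (.node 57 [7, 6, 5, 4, 3, 1, 2, 0, 3, 2, 4, 3, 1, 5, 4, 6, 5, 7, 6] (.node 55 [7, 6, 5, 4, 3, 1, 2, 0, 3, 2, 4, 3, 1, 5, 4, 3, 6, 5, 4] (.node 54 [7, 6, 5, 4, 3, 1, 2, 0, 3, 2, 4, 3, 1, 5, 4, 3, 2, 6, 7] .nil .nil) (.node 56 [7, 6, 5, 4, 3, 1, 2, 0, 3, 2, 4, 3, 1, 5, 4, 3, 6, 5, 7] .nil .nil)) (.node 59 [7, 6, 5, 4, 3, 1, 2, 0, 3, 2, 4, 3, 1, 5, 4, 3, 2, 0, 6, 7] (.node 58 [7, 6, 5, 4, 3, 1, 2, 0, 3, 2, 4, 3, 1, 5, 4, 3, 2, 0, 6, 5] .nil .nil) .nil))))) (.node 90 [7,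 6, 5, 4, 3, 1, 2, 0, 3, 2, 4, 3, 1, 5, 4, 3, 2, 6, 5, 4, 3, 7, 6, 5] (.node 75 [7, 6, 5, 4, 3, 1, 2, 0, 3, 2, 4, 3, 1, 5, 4, 3, 2, 6, 5, 4, 7, 6] (.node 68 [7, 6, 5, 4, 3, 1, 2, 0, 3, 2, 4, 3, 1, 5, 4, 3, 2, 6, 5, 7, 6] (.node 64 [7, 6, 5, 4, 3, 1, 2, 0, 3, 2, 4, 3, 1, 5, 4, 3, 2, 0, 6, 5, 4] (.node 62 [7, 6, 5, 4, 3, 1, 2, 0, 3, 2, 4, 3, 1, 5, 4, 3, 6, 5, 4, 7] (.node 61 [7, 6, 5, 4, 3, 1, 2, 0, 3, 2, 4, 3, 1, 5, 4, 3, 2, 6, 5, 7] .nil .nil) (.node 63 [7, 6, 5, 4, 3, 1, 2, 0, 3, 2, 4, 3, 1, 5, 4, 3, 6, 5, 7, 6] .nil .nil)) (.node 66 [7, 6, 5, 4, 3, 1, 2, 0, 3, 2, 4, 3, 1, 5, 4, 3, 2, 6, 5, 4, 3] (.node 65 [7, 6, 5, 4, 3, 1, 2, 0, 3, 2, 4, 3, 1, 5, 4, 3, 2, 0, 6, 5, 7] .nil .nil) (.node 67 [7, 6, 5, 4, 3, 1, 2, 0, 3, 2, 4, 3, 1, 5, 4, 3, 2, 6, 5, 4, 7] .nil .nil))) (.node 72 [7, 6, 5, 4, 3, 1, 2, 0, 3, 2, 4, 3, 1, 5, 4, 3, 2, 0, 6, 5, 7, 6] (.node 70 [7, 6, 5, 4, 3, 1, 2, 0,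 3, 2, 4, 3, 1, 5, 4, 3, 2, 0, 6, 5, 4, 3] (.node 69 [7, 6, 5, 4, 3, 1, 2, 0, 3, 2, 4, 3, 1, 5, 4, 3, 6, 5, 4, 7, 6] .nil .nil) (.node 71 [7, 6, 5, 4, 3, 1, 2, 0, 3, 2, 4, 3, 1, 5, 4, 3, 2, 0, 6, 5, 4, 7] .nil .nil)) (.node 74 [7, 6, 5, 4, 3, 1, 2, 0, 3, 2, 4, 3, 1, 5, 4, 3, 2, 6, 5, 4, 3, 7] (.node 73 [7, 6, 5, 4, 3, 1, 2, 0, 3, 2, 4, 3, 1, 5, 4, 3, 2, 6, 5, 4, 3, 1] .nil .nil) .nil))) (.node 83 [7, 6, 5, 4, 3, 1, 2, 0, 3, 2, 4, 3, 1, 5, 4, 3, 2, 6, 5, 4, 7, 6, 5] (.node 79 [7, 6, 5, 4, 3, 1, 2, 0, 3, 2, 4, 3, 1, 5, 4, 3, 2, 0, 6, 5, 4, 3, 7] (.node 77 [7, 6, 5, 4, 3, 1, 2, 0, 3, 2, 4, 3, 1, 5, 4, 3, 2, 0, 6, 5, 4, 3, 1] (.node 76 [7, 6, 5, 4, 3, 1, 2, 0, 3, 2, 4, 3, 1, 5, 4, 3, 6, 5, 4, 7, 6, 5] .nil .nil) (.node 78 [7, 6, 5, 4, 3, 1, 2, 0, 3, 2, 4, 3, 1, 5, 4, 3, 2, 0, 6, 5, 4, 3, 2] .nil .nil)) (.node 81 [7, 6, 5, 4, 3, 1, 2, 0, 3, 2, 4, 3, 1, 5, 4, 3, 2, 6, 5, 4, 3, 1,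 7] (.node 80 [7, 6, 5, 4, 3, 1, 2, 0, 3, 2, 4, 3, 1, 5, 4, 3, 2, 0, 6, 5, 4, 7, 6] .nil .nil) (.node 82 [7, 6, 5, 4, 3, 1, 2, 0, 3, 2, 4, 3, 1, 5, 4, 3, 2, 6, 5, 4, 3, 7, 6] .nil .nil))) (.node 87 [7, 6, 5, 4, 3, 1, 2, 0, 3, 2, 4, 3, 1, 5, 4, 3, 2, 0, 6, 5, 4, 3, 7, 6] (.node 85 [7, 6, 5, 4, 3, 1, 2, 0, 3, 2, 4, 3, 1, 5, 4, 3, 2, 0, 6, 5, 4, 3, 1, 7] (.node 84 [7, 6, 5, 4, 3, 1, 2, 0, 3, 2, 4, 3, 1, 5, 4, 3, 2, 0, 6, 5, 4, 3, 1, 2] .nil .nil) (.node 86 [7, 6, 5, 4, 3, 1, 2, 0, 3, 2, 4, 3, 1, 5, 4, 3, 2, 0, 6, 5, 4, 3, 2, 7] .nil .nil)) (.node 89 [7, 6, 5, 4, 3, 1, 2, 0, 3, 2, 4, 3, 1, 5, 4, 3, 2, 6, 5, 4, 3, 1, 7, 6] (.node 88 [7, 6, 5, 4, 3, 1, 2, 0, 3, 2, 4, 3, 1, 5, 4, 3, 2, 0, 6, 5, 4, 7, 6, 5] .nil .nil) .nil)))) (.node 105 [7, 6, 5, 4, 3, 1, 2, 0, 3, 2, 4, 3, 1, 5, 4, 3, 2, 0, 6, 5, 4, 3, 1, 2, 3, 4, 5] (.node 98 [7, 6, 5, 4, 3, 1, 2, 0, 3, 2, 4, 3, 1, 5, 4, 3, 2, 0,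 6, 5, 4, 3, 1, 2, 3, 4] (.node 94 [7, 6, 5, 4, 3, 1, 2, 0, 3, 2, 4, 3, 1, 5, 4, 3, 2, 0, 6, 5, 4, 3, 2, 7, 6] (.node 92 [7, 6, 5, 4, 3, 1, 2, 0, 3, 2, 4, 3, 1, 5, 4, 3, 2, 0, 6, 5, 4, 3, 1, 2, 7] (.node 91 [7, 6, 5, 4, 3, 1, 2, 0, 3, 2, 4, 3, 1, 5, 4, 3, 2, 0, 6, 5, 4, 3, 1, 2, 3] .nil .nil) (.node 93 [7, 6, 5, 4, 3, 1, 2, 0, 3, 2, 4, 3, 1, 5, 4, 3, 2, 0, 6, 5, 4, 3, 1, 7, 6] .nil .nil)) (.node 96 [7, 6, 5, 4, 3, 1, 2, 0, 3, 2, 4, 3, 1, 5, 4, 3, 2, 6, 5, 4, 3, 1, 7, 6, 5] (.node 95 [7, 6, 5, 4, 3, 1, 2, 0, 3, 2, 4, 3, 1, 5, 4, 3, 2, 0, 6, 5, 4, 3, 7, 6, 5] .nil .nil) (.node 97 [7, 6, 5, 4, 3, 1, 2, 0, 3, 2, 4, 3, 1, 5, 4, 3, 2, 6, 5, 4, 3, 7, 6, 5, 4] .nil .nil))) (.node 102 [7, 6, 5, 4, 3, 1, 2, 0, 3, 2, 4, 3, 1, 5, 4, 3, 2, 0, 6, 5, 4, 3, 2, 7, 6, 5] (.node 100 [7, 6, 5, 4, 3, 1, 2, 0, 3, 2, 4, 3, 1, 5, 4, 3, 2, 0, 6, 5, 4, 3, 1, 2, 7, 6] (.node 99 [7, 6, 5, 4, 3, 1, 2, 0,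 3, 2, 4, 3, 1, 5, 4, 3, 2, 0, 6, 5, 4, 3, 1, 2, 3, 7] .nil .nil) (.node 101 [7, 6, 5, 4, 3, 1, 2, 0, 3, 2, 4, 3, 1, 5, 4, 3, 2, 0, 6, 5, 4, 3, 1, 7, 6, 5] .nil .nil)) (.node 104 [7, 6, 5, 4, 3, 1, 2, 0, 3, 2, 4, 3, 1, 5, 4, 3, 2, 6, 5, 4, 3, 1, 7, 6, 5, 4] (.node 103 [7, 6, 5, 4, 3, 1, 2, 0, 3, 2, 4, 3, 1, 5, 4, 3, 2, 0, 6, 5, 4, 3, 7, 6, 5, 4] .nil .nil) .nil))) (.node 113 [7, 6, 5, 4, 3, 1, 2, 0, 3, 2, 4, 3, 1, 5, 4, 3, 2, 0, 6, 5, 4, 3, 1, 2, 3, 4, 5, 7] (.node 109 [7, 6, 5, 4, 3, 1, 2, 0, 3, 2, 4, 3, 1, 5, 4, 3, 2, 0, 6, 5, 4, 3, 1, 7, 6, 5, 4] (.node 107 [7, 6, 5, 4, 3, 1, 2, 0, 3, 2, 4, 3, 1, 5, 4, 3, 2, 0, 6, 5, 4, 3, 1, 2, 3, 7, 6] (.node 106 [7, 6, 5, 4, 3, 1, 2, 0, 3, 2, 4, 3, 1, 5, 4, 3, 2, 0, 6, 5, 4, 3, 1, 2, 3, 4, 7] .nil .nil) (.node 108 [7, 6, 5, 4, 3, 1, 2, 0, 3, 2, 4, 3, 1, 5, 4, 3, 2, 0, 6, 5, 4, 3, 1, 2, 7, 6, 5] .nil .nil)) (.node 111 [7, 6, 5, 4, 3, 1,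 2, 0, 3, 2, 4, 3, 1, 5, 4, 3, 2, 6, 5, 4, 3, 1, 7, 6, 5, 4, 3] (.node 110 [7, 6, 5, 4, 3, 1, 2, 0, 3, 2, 4, 3, 1, 5, 4, 3, 2, 0, 6, 5, 4, 3, 2, 7, 6, 5, 4] .nil .nil) (.node 112 [7, 6, 5, 4, 3, 1, 2, 0, 3, 2, 4, 3, 1, 5, 4, 3, 2, 0, 6, 5, 4, 3, 1, 2, 3, 4, 5, 6] .nil .nil))) (.node 117 [7, 6, 5, 4, 3, 1, 2, 0, 3, 2, 4, 3, 1, 5, 4, 3, 2, 0, 6, 5, 4, 3, 1, 7, 6, 5, 4, 3] (.node 115 [7, 6, 5, 4, 3, 1, 2, 0, 3, 2, 4, 3, 1, 5, 4, 3, 2, 0, 6, 5, 4, 3, 1, 2, 3, 7, 6, 5] (.node 114 [7, 6, 5, 4, 3, 1, 2, 0, 3, 2, 4, 3, 1, 5, 4, 3, 2, 0, 6, 5, 4, 3, 1, 2, 3, 4, 7, 6] .nil .nil) (.node 116 [7, 6, 5, 4, 3, 1, 2, 0, 3, 2, 4, 3, 1, 5, 4, 3, 2, 0, 6, 5, 4, 3, 1, 2, 7, 6, 5, 4] .nil .nil)) (.node 119 [7, 6, 5, 4, 3, 1, 2, 0, 3, 2, 4, 3, 1, 5, 4, 3, 2, 6, 5, 4, 3, 1, 7, 6, 5, 4, 3, 2] (.node 118 [7, 6, 5, 4, 3, 1, 2, 0, 3, 2, 4, 3, 1, 5, 4, 3, 2, 0, 6, 5, 4, 3, 2, 7, 6, 5, 4, 3] .nil .nil)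 .nil)))))) (.node 180 [7, 6, 5, 4, 3, 1, 2, 0, 3, 2, 4, 3, 1, 5, 4, 3, 2, 0, 6, 5, 4, 3, 1, 2, 3, 4, 5, 7, 6, 5, 4, 3, 1, 2, 3, 4, 5] (.node 150 [7, 6, 5, 4, 3, 1, 2, 0, 3, 2, 4, 3, 1, 5, 4, 3, 2, 0, 6, 5, 4, 3, 1, 2, 3, 4, 5, 7, 6, 5, 4, 3, 1] (.node 135 [7, 6, 5, 4, 3, 1, 2, 0, 3, 2, 4, 3, 1, 5, 4, 3, 2, 0, 6, 5, 4, 3, 1, 2, 3, 4, 5, 6, 7, 6, 5] (.node 128 [7, 6, 5, 4, 3, 1, 2, 0, 3, 2, 4, 3, 1, 5, 4, 3, 2, 0, 6, 5, 4, 3, 1, 2, 3, 4, 5, 6, 7, 6] (.node 124 [7, 6, 5, 4, 3, 1, 2, 0, 3, 2, 4, 3, 1, 5, 4, 3, 2, 0, 6, 5, 4, 3, 1, 2, 7, 6, 5, 4, 3] (.node 122 [7, 6, 5, 4, 3, 1, 2, 0, 3, 2, 4, 3, 1, 5, 4, 3, 2, 0, 6, 5, 4, 3, 1, 2, 3, 4, 7, 6, 5] (.node 121 [7, 6, 5, 4, 3, 1, 2, 0, 3, 2, 4, 3, 1, 5, 4, 3, 2, 0, 6, 5, 4, 3, 1, 2, 3, 4, 5, 7, 6] .nil .nil) (.node 123 [7, 6, 5, 4, 3, 1, 2, 0, 3, 2, 4, 3, 1, 5, 4, 3, 2, 0, 6, 5, 4, 3, 1, 2, 3, 7, 6, 5, 4] .nil .nil)) (.node 126 [7,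 6, 5, 4, 3, 1, 2, 0, 3, 2, 4, 3, 1, 5, 4, 3, 2, 0, 6, 5, 4, 3, 2, 7, 6, 5, 4, 3, 1] (.node 125 [7, 6, 5, 4, 3, 1, 2, 0, 3, 2, 4, 3, 1, 5, 4, 3, 2, 0, 6, 5, 4, 3, 1, 7, 6, 5, 4, 3, 2] .nil .nil) (.node 127 [7, 6, 5, 4, 3, 1, 2, 0, 3, 2, 4, 3, 1, 5, 4, 3, 2, 6, 5, 4, 3, 1, 7, 6, 5, 4, 3, 2, 0] .nil .nil))) (.node 132 [7, 6, 5, 4, 3, 1, 2, 0, 3, 2, 4, 3, 1, 5, 4, 3, 2, 0, 6, 5, 4, 3, 1, 2, 7, 6, 5, 4, 3, 1] (.node 130 [7, 6, 5, 4, 3, 1, 2, 0, 3, 2, 4, 3, 1, 5, 4, 3, 2, 0, 6, 5, 4, 3, 1, 2, 3, 4, 7, 6, 5, 4] (.node 129 [7, 6, 5, 4, 3, 1, 2, 0, 3, 2, 4, 3, 1, 5, 4, 3, 2, 0, 6, 5, 4, 3, 1, 2, 3, 4, 5, 7, 6, 5] .nil .nil) (.node 131 [7, 6, 5, 4, 3, 1, 2, 0, 3, 2, 4, 3, 1, 5, 4, 3, 2, 0, 6, 5, 4, 3, 1, 2, 3, 7, 6, 5, 4, 3] .nil .nil)) (.node 134 [7, 6, 5, 4, 3, 1, 2, 0, 3, 2, 4, 3, 1, 5, 4, 3, 2, 0, 6, 5, 4, 3, 1, 7, 6, 5, 4, 3, 2, 0] (.node 133 [7, 6, 5, 4, 3, 1, 2, 0, 3, 2, 4, 3,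 1, 5, 4, 3, 2, 0, 6, 5, 4, 3, 1, 2, 7, 6, 5, 4, 3, 2] .nil .nil) .nil))) (.node 143 [7, 6, 5, 4, 3, 1, 2, 0, 3, 2, 4, 3, 1, 5, 4, 3, 2, 0, 6, 5, 4, 3, 1, 2, 3, 4, 5, 7, 6, 5, 4, 3] (.node 139 [7, 6, 5, 4, 3, 1, 2, 0, 3, 2, 4, 3, 1, 5, 4, 3, 2, 0, 6, 5, 4, 3, 1, 2, 3, 7, 6, 5, 4, 3, 2] (.node 137 [7, 6, 5, 4, 3, 1, 2, 0, 3, 2, 4, 3, 1, 5, 4, 3, 2, 0, 6, 5, 4, 3, 1, 2, 3, 4, 7, 6, 5, 4, 3] (.node 136 [7, 6, 5, 4, 3, 1, 2, 0, 3, 2, 4, 3, 1, 5, 4, 3, 2, 0, 6, 5, 4, 3, 1, 2, 3, 4, 5, 7, 6, 5, 4] .nil .nil) (.node 138 [7, 6, 5, 4, 3, 1, 2, 0, 3, 2, 4, 3, 1, 5, 4, 3, 2, 0, 6, 5, 4, 3, 1, 2, 3, 7, 6, 5, 4, 3, 1] .nil .nil)) (.node 141 [7, 6, 5, 4, 3, 1, 2, 0, 3, 2, 4, 3, 1, 5, 4, 3, 2, 0, 6, 5, 4, 3, 1, 2, 7, 6, 5, 4, 3, 2, 0] (.node 140 [7, 6, 5, 4, 3, 1, 2, 0, 3, 2, 4, 3, 1, 5, 4, 3, 2, 0, 6, 5, 4, 3, 1, 2, 7, 6, 5, 4, 3, 1, 2] .nil .nil) (.node 142 [7, 6, 5, 4, 3, 1, 2, 0, 3, 2,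 4, 3, 1, 5, 4, 3, 2, 0, 6, 5, 4, 3, 1, 2, 3, 4, 5, 6, 7, 6, 5, 4] .nil .nil))) (.node 147 [7, 6, 5, 4, 3, 1, 2, 0, 3, 2, 4, 3, 1, 5, 4, 3, 2, 0, 6, 5, 4, 3, 1, 2, 3, 7, 6, 5, 4, 3, 2, 0] (.node 145 [7, 6, 5, 4, 3, 1, 2, 0, 3, 2, 4, 3, 1, 5, 4, 3, 2, 0, 6, 5, 4, 3, 1, 2, 3, 4, 7, 6, 5, 4, 3, 2] (.node 144 [7, 6, 5, 4, 3, 1, 2, 0, 3, 2, 4, 3, 1, 5, 4, 3, 2, 0, 6, 5, 4, 3, 1, 2, 3, 4, 7, 6, 5, 4, 3, 1] .nil .nil) (.node 146 [7, 6, 5, 4, 3, 1, 2, 0, 3, 2, 4, 3, 1, 5, 4, 3, 2, 0, 6, 5, 4, 3, 1, 2, 3, 7, 6, 5, 4, 3, 1, 2] .nil .nil)) (.node 149 [7, 6, 5, 4, 3, 1, 2, 0, 3, 2, 4, 3, 1, 5, 4, 3, 2, 0, 6, 5, 4, 3, 1, 2, 3, 4, 5, 6, 7, 6, 5, 4, 3] (.node 148 [7, 6, 5, 4, 3, 1, 2, 0, 3, 2, 4, 3, 1, 5, 4, 3, 2, 0, 6, 5, 4, 3, 1, 2, 7, 6, 5, 4, 3, 1, 2, 0] .nil .nil) .nil)))) (.node 165 [7, 6, 5, 4, 3, 1, 2, 0, 3, 2, 4, 3, 1, 5, 4, 3, 2, 0, 6, 5, 4, 3, 1, 2, 3, 4, 5, 7, 6, 5, 4, 3, 1, 2,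 0] (.node 158 [7, 6, 5, 4, 3, 1, 2, 0, 3, 2, 4, 3, 1, 5, 4, 3, 2, 0, 6, 5, 4, 3, 1, 2, 3, 4, 5, 7, 6, 5, 4, 3, 1, 2] (.node 154 [7, 6, 5, 4, 3, 1, 2, 0, 3, 2, 4, 3, 1, 5, 4, 3, 2, 0, 6, 5, 4, 3, 1, 2, 3, 7, 6, 5, 4, 3, 1, 2, 0] (.node 152 [7, 6, 5, 4, 3, 1, 2, 0, 3, 2, 4, 3, 1, 5, 4, 3, 2, 0, 6, 5, 4, 3, 1, 2, 3, 4, 7, 6, 5, 4, 3, 1, 2] (.node 151 [7, 6, 5, 4, 3, 1, 2, 0, 3, 2, 4, 3, 1, 5, 4, 3, 2, 0, 6, 5, 4, 3, 1, 2, 3, 4, 5, 7, 6, 5, 4, 3, 2] .nil .nil) (.node 153 [7, 6, 5, 4, 3, 1, 2, 0, 3, 2, 4, 3, 1, 5, 4, 3, 2, 0, 6, 5, 4, 3, 1, 2, 3, 4, 7, 6, 5, 4, 3, 2, 0] .nil .nil)) (.node 156 [7, 6, 5, 4, 3, 1, 2, 0, 3, 2, 4, 3, 1, 5, 4, 3, 2, 0, 6, 5, 4, 3, 1, 2, 3, 4, 5, 6, 7, 6, 5, 4, 3, 1] (.node 155 [7, 6, 5, 4, 3, 1, 2, 0, 3, 2, 4, 3, 1, 5, 4, 3, 2, 0, 6, 5, 4, 3, 1, 2, 3, 7, 6, 5, 4, 3, 1, 2, 3] .nil .nil) (.node 157 [7, 6, 5, 4, 3, 1, 2, 0, 3, 2, 4, 3, 1, 5, 4, 3, 2, 0,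 6, 5, 4, 3, 1, 2, 3, 4, 5, 6, 7, 6, 5, 4, 3, 2] .nil .nil))) (.node 162 [7, 6, 5, 4, 3, 1, 2, 0, 3, 2, 4, 3, 1, 5, 4, 3, 2, 0, 6, 5, 4, 3, 1, 2, 3, 7, 6, 5, 4, 3, 1, 2, 0, 3] (.node 160 [7, 6, 5, 4, 3, 1, 2, 0, 3, 2, 4, 3, 1, 5, 4, 3, 2, 0, 6, 5, 4, 3, 1, 2, 3, 4, 7, 6, 5, 4, 3, 1, 2, 0] (.node 159 [7, 6, 5, 4, 3, 1, 2, 0, 3, 2, 4, 3, 1, 5, 4, 3, 2, 0, 6, 5, 4, 3, 1, 2, 3, 4, 5, 7, 6, 5, 4, 3, 2, 0] .nil .nil) (.node 161 [7, 6, 5, 4, 3, 1, 2, 0, 3, 2, 4, 3, 1, 5, 4, 3, 2, 0, 6, 5, 4, 3, 1, 2, 3, 4, 7, 6, 5, 4, 3, 1, 2, 3] .nil .nil)) (.node 164 [7, 6, 5, 4, 3, 1, 2, 0, 3, 2, 4, 3, 1, 5, 4, 3, 2, 0, 6, 5, 4, 3, 1, 2, 3, 4, 5, 6, 7, 6, 5, 4, 3, 2, 0] (.node 163 [7, 6, 5, 4, 3, 1, 2, 0, 3, 2, 4, 3, 1, 5, 4, 3, 2, 0, 6, 5, 4, 3, 1, 2, 3, 4, 5, 6, 7, 6, 5, 4, 3, 1, 2] .nil .nil) .nil))) (.node 173 [7, 6, 5, 4, 3, 1, 2, 0, 3, 2, 4, 3, 1, 5, 4, 3, 2, 0, 6, 5, 4, 3, 1, 2, 3, 4, 5,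 7, 6, 5, 4, 3, 1, 2, 3, 4] (.node 169 [7, 6, 5, 4, 3, 1, 2, 0, 3, 2, 4, 3, 1, 5, 4, 3, 2, 0, 6, 5, 4, 3, 1, 2, 3, 7, 6, 5, 4, 3, 1, 2, 0, 3, 2] (.node 167 [7, 6, 5, 4, 3, 1, 2, 0, 3, 2, 4, 3, 1, 5, 4, 3, 2, 0, 6, 5, 4, 3, 1, 2, 3, 4, 7, 6, 5, 4, 3, 1, 2, 0, 3] (.node 166 [7, 6, 5, 4, 3, 1, 2, 0, 3, 2, 4, 3, 1, 5, 4, 3, 2, 0, 6, 5, 4, 3, 1, 2, 3, 4, 5, 7, 6, 5, 4, 3, 1, 2, 3] .nil .nil) (.node 168 [7, 6, 5, 4, 3, 1, 2, 0, 3, 2, 4, 3, 1, 5, 4, 3, 2, 0, 6, 5, 4, 3, 1, 2, 3, 4, 7, 6, 5, 4, 3, 1, 2, 3, 4] .nil .nil)) (.node 171 [7, 6, 5, 4, 3, 1, 2, 0, 3, 2, 4, 3, 1, 5, 4, 3, 2, 0, 6, 5, 4, 3, 1, 2, 3, 4, 5, 6, 7, 6, 5, 4, 3, 1, 2, 3] (.node 170 [7, 6, 5, 4, 3, 1, 2, 0, 3, 2, 4, 3, 1, 5, 4, 3, 2, 0, 6, 5, 4, 3, 1, 2, 3, 4, 5, 6, 7, 6, 5, 4, 3, 1, 2, 0] .nil .nil) (.node 172 [7, 6, 5, 4, 3, 1, 2, 0, 3, 2, 4, 3, 1, 5, 4, 3, 2, 0, 6, 5, 4, 3, 1, 2, 3, 4, 5, 7, 6, 5, 4, 3, 1, 2, 0,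 3] .nil .nil))) (.node 177 [7, 6, 5, 4, 3, 1, 2, 0, 3, 2, 4, 3, 1, 5, 4, 3, 2, 0, 6, 5, 4, 3, 1, 2, 3, 4, 5, 6, 7, 6, 5, 4, 3, 1, 2, 3, 4] (.node 175 [7, 6, 5, 4, 3, 1, 2, 0, 3, 2, 4, 3, 1, 5, 4, 3, 2, 0, 6, 5, 4, 3, 1, 2, 3, 4, 7, 6, 5, 4, 3, 1, 2, 0, 3, 4] (.node 174 [7, 6, 5, 4, 3, 1, 2, 0, 3, 2, 4, 3, 1, 5, 4, 3, 2, 0, 6, 5, 4, 3, 1, 2, 3, 4, 7, 6, 5, 4, 3, 1, 2, 0, 3, 2] .nil .nil) (.node 176 [7, 6, 5, 4, 3, 1, 2, 0, 3, 2, 4, 3, 1, 5, 4, 3, 2, 0, 6, 5, 4, 3, 1, 2, 3, 4, 5, 6, 7, 6, 5, 4, 3, 1, 2, 0, 3] .nil .nil)) (.node 179 [7, 6, 5, 4, 3, 1, 2, 0, 3, 2, 4, 3, 1, 5, 4, 3, 2, 0, 6, 5, 4, 3, 1, 2, 3, 4, 5, 7, 6, 5, 4, 3, 1, 2, 0, 3, 4] (.node 178 [7, 6, 5, 4, 3, 1, 2, 0, 3, 2, 4, 3, 1, 5, 4, 3, 2, 0, 6, 5, 4, 3, 1, 2, 3, 4, 5, 7, 6, 5, 4, 3, 1, 2, 0, 3, 2] .nil .nil) .nil))))) (.node 210 [7, 6, 5, 4, 3, 1, 2, 0, 3, 2, 4, 3, 1, 5, 4, 3, 2, 0, 6, 5, 4, 3, 1, 2, 3, 4, 5, 6,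 7, 6, 5, 4, 3, 1, 2, 0, 3, 2, 4, 3, 5, 4, 6] (.node 195 [7, 6, 5, 4, 3, 1, 2, 0, 3, 2, 4, 3, 1, 5, 4, 3, 2, 0, 6, 5, 4, 3, 1, 2, 3, 4, 5, 6, 7, 6, 5, 4, 3, 1, 2, 0, 3, 2, 4, 5] (.node 188 [7, 6, 5, 4, 3, 1, 2, 0, 3, 2, 4, 3, 1, 5, 4, 3, 2, 0, 6, 5, 4, 3, 1, 2, 3, 4, 5, 6, 7, 6, 5, 4, 3, 1, 2, 0, 3, 2, 4] (.node 184 [7, 6, 5, 4, 3, 1, 2, 0, 3, 2, 4, 3, 1, 5, 4, 3, 2, 0, 6, 5, 4, 3, 1, 2, 3, 4, 5, 6, 7, 6, 5, 4, 3, 1, 2, 3, 4, 5] (.node 182 [7, 6, 5, 4, 3, 1, 2, 0, 3, 2, 4, 3, 1, 5, 4, 3, 2, 0, 6, 5, 4, 3, 1, 2, 3, 4, 5, 6, 7, 6, 5, 4, 3, 1, 2, 0, 3, 2] (.node 181 [7, 6, 5, 4, 3, 1, 2, 0, 3, 2, 4, 3, 1, 5, 4, 3, 2, 0, 6, 5, 4, 3, 1, 2, 3, 4, 7, 6, 5, 4, 3, 1, 2, 0, 3, 2, 4] .nil .nil) (.node 183 [7, 6, 5, 4, 3, 1, 2, 0, 3, 2, 4, 3, 1, 5, 4, 3, 2, 0, 6, 5, 4, 3, 1, 2, 3, 4, 5, 6, 7, 6, 5, 4, 3, 1, 2, 0, 3, 4] .nil .nil)) (.node 186 [7, 6, 5, 4, 3, 1, 2, 0, 3, 2, 4, 3, 1, 5, 4,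 3, 2, 0, 6, 5, 4, 3, 1, 2, 3, 4, 5, 7, 6, 5, 4, 3, 1, 2, 0, 3, 4, 5] (.node 185 [7, 6, 5, 4, 3, 1, 2, 0, 3, 2, 4, 3, 1, 5, 4, 3, 2, 0, 6, 5, 4, 3, 1, 2, 3, 4, 5, 7, 6, 5, 4, 3, 1, 2, 0, 3, 2, 4] .nil .nil) (.node 187 [7, 6, 5, 4, 3, 1, 2, 0, 3, 2, 4, 3, 1, 5, 4, 3, 2, 0, 6, 5, 4, 3, 1, 2, 3, 4, 7, 6, 5, 4, 3, 1, 2, 0, 3, 2, 4, 3] .nil .nil))) (.node 192 [7, 6, 5, 4, 3, 1, 2, 0, 3, 2, 4, 3, 1, 5, 4, 3, 2, 0, 6, 5, 4, 3, 1, 2, 3, 4, 5, 7, 6, 5, 4, 3, 1, 2, 0, 3, 2, 4, 5] (.node 190 [7, 6, 5, 4, 3, 1, 2, 0, 3, 2, 4, 3, 1, 5, 4, 3, 2, 0, 6, 5, 4, 3, 1, 2, 3, 4, 5, 6, 7, 6, 5, 4, 3, 1, 2, 3, 4, 5, 6] (.node 189 [7, 6, 5, 4, 3, 1, 2, 0, 3, 2, 4, 3, 1, 5, 4, 3, 2, 0, 6, 5, 4, 3, 1, 2, 3, 4, 5, 6, 7, 6, 5, 4, 3, 1, 2, 0, 3, 4, 5] .nil .nil) (.node 191 [7, 6, 5, 4, 3, 1, 2, 0, 3, 2, 4, 3, 1, 5, 4, 3, 2, 0, 6, 5, 4, 3, 1, 2, 3, 4, 5, 7, 6, 5, 4, 3, 1, 2, 0, 3, 2, 4, 3] .nil .nil)) (.node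 194 [7, 6, 5, 4, 3, 1, 2, 0, 3, 2, 4, 3, 1, 5, 4, 3, 2, 0, 6, 5, 4, 3, 1, 2, 3, 4, 5, 6, 7, 6, 5, 4, 3, 1, 2, 0, 3, 2, 4, 3] (.node 193 [7, 6, 5, 4, 3, 1, 2, 0, 3, 2, 4, 3, 1, 5, 4, 3, 2, 0, 6, 5, 4, 3, 1, 2, 3, 4, 7, 6, 5, 4, 3, 1, 2, 0, 3, 2, 4, 3, 1] .nil .nil) .nil))) (.node 203 [7, 6, 5, 4, 3, 1, 2, 0, 3, 2, 4, 3, 1, 5, 4, 3, 2, 0, 6, 5, 4, 3, 1, 2, 3, 4, 5, 7, 6, 5, 4, 3, 1, 2, 0, 3, 2, 4, 3, 5, 4] (.node 199 [7, 6, 5, 4, 3, 1, 2, 0, 3, 2, 4, 3, 1, 5, 4, 3, 2, 0, 6, 5, 4, 3, 1, 2, 3, 4, 5, 6, 7, 6, 5, 4, 3, 1, 2, 0, 3, 2, 4, 3, 1] (.node 197 [7, 6, 5, 4, 3, 1, 2, 0, 3, 2, 4, 3, 1, 5, 4, 3, 2, 0, 6, 5, 4, 3, 1, 2, 3, 4, 5, 7, 6, 5, 4, 3, 1, 2, 0, 3, 2, 4, 3, 1] (.node 196 [7, 6, 5, 4, 3, 1, 2, 0, 3, 2, 4, 3, 1, 5, 4, 3, 2, 0, 6, 5, 4, 3, 1, 2, 3, 4, 5, 6, 7, 6, 5, 4, 3, 1, 2, 0, 3, 4, 5, 6] .nil .nil) (.node 198 [7, 6, 5, 4, 3, 1, 2, 0, 3, 2, 4, 3, 1, 5, 4, 3, 2, 0, 6,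 5, 4, 3, 1, 2, 3, 4, 5, 7, 6, 5, 4, 3, 1, 2, 0, 3, 2, 4, 3, 5] .nil .nil)) (.node 201 [7, 6, 5, 4, 3, 1, 2, 0, 3, 2, 4, 3, 1, 5, 4, 3, 2, 0, 6, 5, 4, 3, 1, 2, 3, 4, 5, 6, 7, 6, 5, 4, 3, 1, 2, 0, 3, 2, 4, 5, 6] (.node 200 [7, 6, 5, 4, 3, 1, 2, 0, 3, 2, 4, 3, 1, 5, 4, 3, 2, 0, 6, 5, 4, 3, 1, 2, 3, 4, 5, 6, 7, 6, 5, 4, 3, 1, 2, 0, 3, 2, 4, 3, 5] .nil .nil) (.node 202 [7, 6, 5, 4, 3, 1, 2, 0, 3, 2, 4, 3, 1, 5, 4, 3, 2, 0, 6, 5, 4, 3, 1, 2, 3, 4, 5, 7, 6, 5, 4, 3, 1, 2, 0, 3, 2, 4, 3, 1, 5] .nil .nil))) (.node 207 [7, 6, 5, 4, 3, 1, 2, 0, 3, 2, 4, 3, 1, 5, 4, 3, 2, 0, 6, 5, 4, 3, 1, 2, 3, 4, 5, 7, 6, 5, 4, 3, 1, 2, 0, 3, 2, 4, 3, 1, 5, 4] (.node 205 [7, 6, 5, 4, 3, 1, 2, 0, 3, 2, 4, 3, 1, 5, 4, 3, 2, 0, 6, 5, 4, 3, 1, 2, 3, 4, 5, 6, 7, 6, 5, 4, 3, 1, 2, 0, 3, 2, 4, 3, 5, 4] (.node 204 [7, 6, 5, 4, 3, 1, 2, 0, 3, 2, 4, 3, 1, 5, 4, 3, 2, 0, 6, 5, 4, 3, 1, 2, 3, 4, 5, 6, 7, 6, 5, 4,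 3, 1, 2, 0, 3, 2, 4, 3, 1, 5] .nil .nil) (.node 206 [7, 6, 5, 4, 3, 1, 2, 0, 3, 2, 4, 3, 1, 5, 4, 3, 2, 0, 6, 5, 4, 3, 1, 2, 3, 4, 5, 6, 7, 6, 5, 4, 3, 1, 2, 0, 3, 2, 4, 3, 5, 6] .nil .nil)) (.node 209 [7, 6, 5, 4, 3, 1, 2, 0, 3, 2, 4, 3, 1, 5, 4, 3, 2, 0, 6, 5, 4, 3, 1, 2, 3, 4, 5, 6, 7, 6, 5, 4, 3, 1, 2, 0, 3, 2, 4, 3, 1, 5, 6] (.node 208 [7, 6, 5, 4, 3, 1, 2, 0, 3, 2, 4, 3, 1, 5, 4, 3, 2, 0, 6, 5, 4, 3, 1, 2, 3, 4, 5, 6, 7, 6, 5, 4, 3, 1, 2, 0, 3, 2, 4, 3, 1, 5, 4] .nil .nil) .nil)))) (.node 225 [7, 6, 5, 4, 3, 1, 2, 0, 3, 2, 4, 3, 1, 5, 4, 3, 2, 0, 6, 5, 4, 3, 1, 2, 3, 4, 5, 6, 7, 6, 5, 4, 3, 1, 2, 0, 3, 2, 4, 3, 1, 5, 4, 3, 6, 5, 4] (.node 218 [7, 6, 5, 4, 3, 1, 2, 0, 3, 2, 4, 3, 1, 5, 4, 3, 2, 0, 6, 5, 4, 3, 1, 2, 3, 4, 5, 6, 7, 6, 5, 4, 3, 1, 2, 0, 3, 2, 4, 3, 1, 5, 4, 6, 5] (.node 214 [7, 6, 5, 4, 3, 1, 2, 0, 3, 2, 4, 3, 1, 5, 4, 3, 2, 0, 6, 5, 4, 3, 1, 2, 3, 4, 5,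 6, 7, 6, 5, 4, 3, 1, 2, 0, 3, 2, 4, 3, 5, 4, 6, 5] (.node 212 [7, 6, 5, 4, 3, 1, 2, 0, 3, 2, 4, 3, 1, 5, 4, 3, 2, 0, 6, 5, 4, 3, 1, 2, 3, 4, 5, 6, 7, 6, 5, 4, 3, 1, 2, 0, 3, 2, 4, 3, 1, 5, 4, 3] (.node 211 [7, 6, 5, 4, 3, 1, 2, 0, 3, 2, 4, 3, 1, 5, 4, 3, 2, 0, 6, 5, 4, 3, 1, 2, 3, 4, 5, 7, 6, 5, 4, 3, 1, 2, 0, 3, 2, 4, 3, 1, 5, 4, 3] .nil .nil) (.node 213 [7, 6, 5, 4, 3, 1, 2, 0, 3, 2, 4, 3, 1, 5, 4, 3, 2, 0, 6, 5, 4, 3, 1, 2, 3, 4, 5, 6, 7, 6, 5, 4, 3, 1, 2, 0, 3, 2, 4, 3, 1, 5, 4, 6] .nil .nil)) (.node 216 [7, 6, 5, 4, 3, 1, 2, 0, 3, 2, 4, 3, 1, 5, 4, 3, 2, 0, 6, 5, 4, 3, 1, 2, 3, 4, 5, 6, 7, 6, 5, 4, 3, 1, 2, 0, 3, 2, 4, 3, 1, 5, 4, 3, 2] (.node 215 [7, 6, 5, 4, 3, 1, 2, 0, 3, 2, 4, 3, 1, 5, 4, 3, 2, 0, 6, 5, 4, 3, 1, 2, 3, 4, 5, 7, 6, 5, 4, 3, 1, 2, 0, 3, 2, 4, 3, 1, 5, 4, 3, 2] .nil .nil) (.node 217 [7, 6, 5, 4, 3, 1, 2, 0, 3, 2, 4, 3, 1, 5, 4, 3, 2, 0, 6, 5, 4, 3, 1,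 2, 3, 4, 5, 6, 7, 6, 5, 4, 3, 1, 2, 0, 3, 2, 4, 3, 1, 5, 4, 3, 6] .nil .nil))) (.node 222 [7, 6, 5, 4, 3, 1, 2, 0, 3, 2, 4, 3, 1, 5, 4, 3, 2, 0, 6, 5, 4, 3, 1, 2, 3, 4, 5, 6, 7, 6, 5, 4, 3, 1, 2, 0, 3, 2, 4, 3, 1, 5, 4, 3, 6, 5] (.node 220 [7, 6, 5, 4, 3, 1, 2, 0, 3, 2, 4, 3, 1, 5, 4, 3, 2, 0, 6, 5, 4, 3, 1, 2, 3, 4, 5, 6, 7, 6, 5, 4, 3, 1, 2, 0, 3, 2, 4, 3, 1, 5, 4, 3, 2, 0] (.node 219 [7, 6, 5, 4, 3, 1, 2, 0, 3, 2, 4, 3, 1, 5, 4, 3, 2, 0, 6, 5, 4, 3, 1, 2, 3, 4, 5, 7, 6, 5, 4, 3, 1, 2, 0, 3, 2, 4, 3, 1, 5, 4, 3, 2, 0] .nil .nil) (.node 221 [7, 6, 5, 4, 3, 1, 2, 0, 3, 2, 4, 3, 1, 5, 4, 3, 2, 0, 6, 5, 4, 3, 1, 2, 3, 4, 5, 6, 7, 6, 5, 4, 3, 1, 2, 0, 3, 2, 4, 3, 1, 5, 4, 3, 2, 6] .nil .nil)) (.node 224 [7, 6, 5, 4, 3, 1, 2, 0, 3, 2, 4, 3, 1, 5, 4, 3, 2, 0, 6, 5, 4, 3, 1, 2, 3, 4, 5, 6, 7, 6, 5, 4, 3, 1, 2, 0, 3, 2, 4, 3, 1, 5, 4, 3, 2, 6, 5] (.node 223 [7, 6, 5, 4, 3, 1, 2, 0,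 3, 2, 4, 3, 1, 5, 4, 3, 2, 0, 6, 5, 4, 3, 1, 2, 3, 4, 5, 6, 7, 6, 5, 4, 3, 1, 2, 0, 3, 2, 4, 3, 1, 5, 4, 3, 2, 0, 6] .nil .nil) .nil))) (.node 233 [7, 6, 5, 4, 3, 1, 2, 0, 3, 2, 4, 3, 1, 5, 4, 3, 2, 0, 6, 5, 4, 3, 1, 2, 3, 4, 5, 6, 7, 6, 5, 4, 3, 1, 2, 0, 3, 2, 4, 3, 1, 5, 4, 3, 2, 0, 6, 5, 4, 3, 2] (.node 229 [7, 6, 5, 4, 3, 1, 2, 0, 3, 2, 4, 3, 1, 5, 4, 3, 2, 0, 6, 5, 4, 3, 1, 2, 3, 4, 5, 6, 7, 6, 5, 4, 3, 1, 2, 0, 3, 2, 4, 3, 1, 5, 4, 3, 2, 6, 5, 4, 3] (.node 227 [7, 6, 5, 4, 3, 1, 2, 0, 3, 2, 4, 3, 1, 5, 4, 3, 2, 0, 6, 5, 4, 3, 1, 2, 3, 4, 5, 6, 7, 6, 5, 4, 3, 1, 2, 0, 3, 2, 4, 3, 1, 5, 4, 3, 2, 6, 5, 4] (.node 226 [7, 6, 5, 4, 3, 1, 2, 0, 3, 2, 4, 3, 1, 5, 4, 3, 2, 0, 6, 5, 4, 3, 1, 2, 3, 4, 5, 6, 7, 6, 5, 4, 3, 1, 2, 0, 3, 2, 4, 3, 1, 5, 4, 3, 2, 0, 6, 5] .nil .nil) (.node 228 [7, 6, 5, 4, 3, 1, 2, 0, 3, 2, 4, 3, 1, 5, 4, 3, 2, 0, 6, 5, 4, 3, 1, 2, 3, 4, 5, 6, 7, 6, 5,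 4, 3, 1, 2, 0, 3, 2, 4, 3, 1, 5, 4, 3, 2, 0, 6, 5, 4] .nil .nil)) (.node 231 [7, 6, 5, 4, 3, 1, 2, 0, 3, 2, 4, 3, 1, 5, 4, 3, 2, 0, 6, 5, 4, 3, 1, 2, 3, 4, 5, 6, 7, 6, 5, 4, 3, 1, 2, 0, 3, 2, 4, 3, 1, 5, 4, 3, 2, 6, 5, 4, 3, 1] (.node 230 [7, 6, 5, 4, 3, 1, 2, 0, 3, 2, 4, 3, 1, 5, 4, 3, 2, 0, 6, 5, 4, 3, 1, 2, 3, 4, 5, 6, 7, 6, 5, 4, 3, 1, 2, 0, 3, 2, 4, 3, 1, 5, 4, 3, 2, 0, 6, 5, 4, 3] .nil .nil) (.node 232 [7, 6, 5, 4, 3, 1, 2, 0, 3, 2, 4, 3, 1, 5, 4, 3, 2, 0, 6, 5, 4, 3, 1, 2, 3, 4, 5, 6, 7, 6, 5, 4, 3, 1, 2, 0, 3, 2, 4, 3, 1, 5, 4, 3, 2, 0, 6, 5, 4, 3, 1] .nil .nil))) (.node 237 [7, 6, 5, 4, 3, 1, 2, 0, 3, 2, 4, 3, 1, 5, 4, 3, 2, 0, 6, 5, 4, 3, 1, 2, 3, 4, 5, 6, 7, 6, 5, 4, 3, 1, 2, 0, 3, 2, 4, 3, 1, 5, 4, 3, 2, 0, 6, 5, 4, 3, 1, 2, 3, 4, 5] (.node 235 [7, 6, 5, 4, 3, 1, 2, 0, 3, 2, 4, 3, 1, 5, 4, 3, 2, 0, 6, 5, 4, 3, 1, 2, 3, 4, 5, 6, 7, 6, 5, 4, 3, 1, 2, 0, 3, 2, 4, 3,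 1, 5, 4, 3, 2, 0, 6, 5, 4, 3, 1, 2, 3] (.node 234 [7, 6, 5, 4, 3, 1, 2, 0, 3, 2, 4, 3, 1, 5, 4, 3, 2, 0, 6, 5, 4, 3, 1, 2, 3, 4, 5, 6, 7, 6, 5, 4, 3, 1, 2, 0, 3, 2, 4, 3, 1, 5, 4, 3, 2, 0, 6, 5, 4, 3, 1, 2] .nil .nil) (.node 236 [7, 6, 5, 4, 3, 1, 2, 0, 3, 2, 4, 3, 1, 5, 4, 3, 2, 0, 6, 5, 4, 3, 1, 2, 3, 4, 5, 6, 7, 6, 5, 4, 3, 1, 2, 0, 3, 2, 4, 3, 1, 5, 4, 3, 2, 0, 6, 5, 4, 3, 1, 2, 3, 4] .nil .nil)) (.node 239 [7, 6, 5, 4, 3, 1, 2, 0, 3, 2, 4, 3, 1, 5, 4, 3, 2, 0, 6, 5, 4, 3, 1, 2, 3, 4, 5, 6, 7, 6, 5, 4, 3, 1, 2, 0, 3, 2, 4, 3, 1, 5, 4, 3, 2, 0, 6, 5, 4, 3, 1, 2, 3, 4, 5, 6, 7] (.node 238 [7, 6, 5, 4, 3, 1, 2, 0, 3, 2, 4, 3, 1, 5, 4, 3, 2, 0, 6, 5, 4, 3, 1, 2, 3, 4, 5, 6, 7, 6, 5, 4, 3, 1, 2, 0, 3, 2, 4, 3, 1, 5, 4, 3, 2, 0, 6, 5, 4, 3, 1, 2, 3, 4, 5, 6] .nil .nil) .nil)))))))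

theorem tab7 : tableOK L7 mF = true := by decide +kernel
theorem orb7 : orbitOK L7 sg = true := by decide +kernel
theorem kn7 : lall (fun j => Nat.blt j 8) L7.K = true := by decide +kernel

/-- The representation on the orbit. -/
abbrev rho : Mx.Group →* Equiv.Perm (Fin 240) := rhoOf Mx hP hM

def P0 : ℕ := 1

theorem good0 : Good (sC Mx) rho [2] (1 * L0.mc) := by
  have h := goodC_step Mx hP hM (L := L0) (P := 1) (good_nil (s := sC Mx) (ρ := rho)) hpos kn0 tab0 orb0 (by decide +kernel)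
  rwa [Nat.mul_comm] at h

def P1 : ℕ := P0 * L0.mc

theorem good1 : Good (sC Mx) rho [2, 3] (P1 * L1.mc) := by
  have h := goodC_step Mx hP hM (L := L1) (P := P1) good0 hpos kn1 tab1 orb1 (by decide +kernel)
  rwa [Nat.mul_comm] at h

def P2 : ℕ := P1 * L1.mc

theorem good2 : Good (sC Mx) rho [1, 2, 3] (P2 * L2.mc) := by
  have h := goodC_step Mx hP hM (L := L2) (P := P2) good1 hpos kn2 tab2 orb2 (by decide +kernel)
  rwa [Nat.mul_comm] at h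

def P3 : ℕ := P2 * L2.mc

theorem good3 : Good (sC Mx) rho [1, 2, 3, 4] (P3 * L3.mc) := by
  have h := goodC_step Mx hP hM (L := L3) (P := P3) good2 hpos kn3 tab3 orb3 (by decide +kernel)
  rwa [Nat.mul_comm] at h

def P4 : ℕ := P3 * L3.mc

theorem good4 : Good (sC Mx) rho [0, 1, 2, 3, 4] (P4 * L4.mc) := by
  have h := goodC_step Mx hP hM (L := L4) (P := P4) good3 hpos kn4 tab4 orb4 (by decide +kernel)
  rwa [Nat.mul_comm] at h

def P5 : ℕ := P4 * L4.mc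

theorem good5 : Good (sC Mx) rho [0, 1, 2, 3, 4, 5] (P5 * L5.mc) := by
  have h := goodC_step Mx hP hM (L := L5) (P := P5) good4 hpos kn5 tab5 orb5 (by decide +kernel)
  rwa [Nat.mul_comm] at h

def P6 : ℕ := P5 * L5.mc

theorem good6 : Good (sC Mx) rho [0, 1, 2, 3, 4, 5, 6] (P6 * L6.mc) := by
  have h := goodC_step Mx hP hM (L := L6) (P := P6) good5 hpos kn6 tab6 orb6 (by decide +kernel)
  rwa [Nat.mul_comm] at h

def P7 : ℕ := P6 * L6.mc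

theorem good7 : Good (sC Mx) rho [0, 1, 2, 3, 4, 5, 6, 7] (P7 * L7.mc) := by
  have h := goodC_step Mx hP hM (L := L7) (P := P7) good6 hpos kn7 tab7 orb7 (by decide +kernel)
  rwa [Nat.mul_comm] at h

theorem main : Finite Mx.Group ∧ Nat.card Mx.Group = 696729600 ∧ Function.Injective rho := by
  have h := (show Good (sC Mx) rho (List.range 8) (P7 * L7.mc) from good7).final (cl_range Mx)
  have hc : P7 * L7.mc = 696729600 := by decide +kernel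
  rwa [hc] at h

end

end Cfsg.Agent.Lib.Chevalley.Weyl.E8
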