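import Cfsg.Agent.Lib.Chevalley.Weyl.Chain
import Cfsg.Prelude.Def_ChevStructure

/-! Generated: the order of the Coxeter group of type F4 from coset tables. -/

set_option autoImplicit false
set_option maxRecDepth 1000000

namespace Cfsg.Agent.Lib.Chevalley.Weyl.F4

open Cfsg.Agent.Lib.Chevalley.Reflect Cfsg.Agent.Lib.Chevalley.Weyl

noncomputable section

/-- The Coxeter matrix. -/
abbrev Mx : CoxeterMatrix (Fin 4) := CoxeterMatrix.F₄

/-- The index in the root table of the points of the orbit. -/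
def rootOf : Tr ℕ := (.node 12 24 (.node 6 15 (.node 3 4 (.node 1 1 (.node 0 0 .nil .nil) (.node 2 2 .nil .nil)) (.node 5 6 (.node 4 5 .nil .nil) .nil)) (.node 9 21 (.node 8 17 (.node 7 16 .nil .nil) .nil) (.node 11 23 (.node 10 22 .nil .nil) .nil))) (.node 18 41 (.node 15 30 (.node 14 26 (.node 13 25 .nil .nil) .nil) (.node 17 32 (.node 16 31 .nil .nil) .nil)) (.node 21 45 (.node 20 43 (.node 19 42 .nil .nil) .nil) (.node 23 47 (.node 22 46 .nil .nil) .nil))))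

/-- The permutation table: each simple reflection acting on the orbit of roots. -/
def sgT : Tr (Tr ℕ) := (.node 2 (.node 12 14 (.node 6 7 (.node 3 4 (.node 1 2 (.node 0 0 .nil .nil) (.node 2 1 .nil .nil)) (.node 5 5 (.node 4 3 .nil .nil) .nil)) (.node 9 11 (.node 8 8 (.node 7 6 .nil .nil) .nil) (.node 11 9 (.node 10 13 .nil .nil) .nil))) (.node 18 18 (.node 15 15 (.node 14 12 (.node 13 10 .nil .nil) .nil) (.node 17 16 (.node 16 17 .nil .nil) .nil)) (.node 21 22 (.node 20 19 (.node 19 20 .nil .nil) .nil) (.node 23 23 (.node 22 21 .nil .nil) .nil)))) (.node 1 (.node 12 12 (.node 6 6 (.node 3 2 (.node 1 1 (.node 0 0 .nil .nil) (.node 2 3 .nil .nil)) (.node 5 5 (.node 4 4 .nil .nil) .nil)) (.node 9 7 (.node 8 10 (.node 7 9 .nil .nil) .nil) (.node 11 11 (.node 10 8 .nil .nil) .nil))) (.node 18 18 (.node 15 13 (.node 14 16 (.node 13 15 .nil .nil) .nil) (.node 17 17 (.node 16 14 .nil .nil) .nil)) (.node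 21 20 (.node 20 21 (.node 19 19 .nil .nil) .nil) (.node 23 23 (.node 22 22 .nil .nil) .nil)))) (.node 0 (.node 12 12 (.node 6 3 (.node 3 6 (.node 1 1 (.node 0 0 .nil .nil) (.node 2 2 .nil .nil)) (.node 5 8 (.node 4 7 .nil .nil) .nil)) (.node 9 9 (.node 8 5 (.node 7 4 .nil .nil) .nil) (.node 11 11 (.node 10 10 .nil .nil) .nil))) (.node 18 15 (.node 15 18 (.node 14 14 (.node 13 13 .nil .nil) .nil) (.node 17 20 (.node 16 19 .nil .nil) .nil)) (.node 21 21 (.node 20 17 (.node 19 16 .nil .nil) .nil) (.node 23 23 (.node 22 22 .nil .nil) .nil)))) .nil .nil) .nil) (.node 3 (.node 12 11 (.node 6 6 (.node 3 3 (.node 1 0 (.node 0 1 .nil .nil) (.node 2 2 .nil .nil)) (.node 5 4 (.node 4 5 .nil .nil) .nil)) (.node 9 10 (.node 8 7 (.node 7 8 .nil .nil) .nil) (.node 11 12 (.node 10 9 .nil .nil) .nil))) (.node 18 19 (.node 15 16 (.node 14 13 (.node 13 14 .nil .nil) .nil) (.node 17 17 (.node 16 15 .nil .nil) .nil))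 (.node 21 21 (.node 20 20 (.node 19 18 .nil .nil) .nil) (.node 23 22 (.node 22 23 .nil .nil) .nil)))) .nil .nil))

/-- The Coxeter exponents. -/
def mT : Tr (Tr ℕ) := (.node 2 (.node 2 1 (.node 1 4 (.node 0 2 .nil .nil) .nil) (.node 3 3 .nil .nil)) (.node 1 (.node 2 4 (.node 1 1 (.node 0 3 .nil .nil) .nil) (.node 3 2 .nil .nil)) (.node 0 (.node 2 2 (.node 1 3 (.node 0 1 .nil .nil) .nil) (.node 3 2 .nil .nil)) .nil .nil) .nil) (.node 3 (.node 2 3 (.node 1 2 (.node 0 2 .nil .nil) .nil) (.node 3 1 .nil .nil)) .nil .nil))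

def sg (i y : ℕ) : ℕ := Tr.find 0 (Tr.find Tr.nil sgT i) y
def mF (a b : ℕ) : ℕ := Tr.find 1 (Tr.find Tr.nil mT a) b

theorem hP : permOK 4 24 mF sg = true := by decide +kernel
theorem hpos : mposOK 4 mF = true := by decide +kernel
theorem hM : ∀ i j : Fin 4, Mx i j = mF i j := hM_of_check Mx (by decide +kernel)

def L0 : Lvl where
  K := [1]
  J := []
  x := 2
  mc := 2
  dT := (.node 1 (.node 1 0 .nil .nil) (.node 0 (.node 1 1 .nil .nil) .nil .nil) .nil)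
  cT := (.node 1 (.node 1 (2, 3) .nil .nil) (.node 0 (.node 1 (1, 0) .nil .nil) .nil .nil) .nil)
  wT := (.node 1 [1] (.node 0 [] .nil .nil) .nil)

theorem tab0 : tableOK L0 mF = true := by decide +kernel
theorem orb0 : orbitOK L0 sg = true := by decide +kernel
theorem kn0 : lall (fun j => Nat.blt j 4) L0.K = true := by decide +kernel

def L1 : Lvl where
  K := [1, 2]
  J := [1]
  x := 1
  mc := 4
  dT := (.node 2 (.node 2 3 (.node 1 1 .nil .nil) .nil) (.node 1 (.node 2 0 (.node 1 2 .nil .nil) .nil) (.node 0 (.node 2 1 (.node 1 0 .nil .nil) .nil) .nil .nil) .nil) (.node 3 (.node 2 2 (.node 1 3 .nil .nil) .nil) .nil .nil))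
  cT := (.node 2 (.node 2 (3, 0) (.node 1 (6, 3) .nil .nil) .nil) (.node 1 (.node 2 (5, 4) (.node 1 (2, 0) .nil .nil) .nil) (.node 0 (.node 2 (1, 0) (.node 1 (4, 1) .nil .nil) .nil) .nil .nil) .nil) (.node 3 (.node 2 (7, 4) (.node 1 (8, 4) .nil .nil) .nil) .nil .nil))
  wT := (.node 2 [2, 1] (.node 1 [2] (.node 0 [] .nil .nil) .nil) (.node 3 [2, 1, 2] .nil .nil))

theorem tab1 : tableOK L1 mF = true := by decide +kernel
theorem orb1 : orbitOK L1 sg = true := by decide +kernel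
theorem kn1 : lall (fun j => Nat.blt j 4) L1.K = true := by decide +kernel

def L2 : Lvl where
  K := [0, 1, 2]
  J := [1, 2]
  x := 5
  mc := 6
  dT := (.node 3 (.node 1 4 (.node 0 3 .nil .nil) (.node 2 2 .nil .nil)) (.node 1 (.node 1 2 (.node 0 0 .nil .nil) (.node 2 1 .nil .nil)) (.node 0 (.node 1 0 (.node 0 1 .nil .nil) (.node 2 0 .nil .nil)) .nil .nil) (.node 2 (.node 1 1 (.node 0 2 .nil .nil) (.node 2 3 .nil .nil)) .nil .nil)) (.node 5 (.node 1 5 (.node 0 4 .nil .nil) (.node 2 5 .nil .nil)) (.node 4 (.node 1 3 (.node 0 5 .nil .nil) (.node 2 4 .nil .nil)) .nil .nil) .nil))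
  cT := (.node 3 (.node 1 (4, 0) (.node 0 (17, 4) .nil .nil) (.node 2 (11, 4) .nil .nil)) (.node 1 (.node 1 (2, 0) (.node 0 (8, 2) .nil .nil) (.node 2 (9, 2) .nil .nil)) (.node 0 (.node 1 (6, 1) (.node 0 (1, 0) .nil .nil) (.node 2 (7, 1) .nil .nil)) .nil .nil) (.node 2 (.node 1 (10, 3) (.node 0 (16, 3) .nil .nil) (.node 2 (3, 0) .nil .nil)) .nil .nil)) (.node 5 (.node 1 (18, 2) (.node 0 (14, 2) .nil .nil) (.node 2 (15, 2) .nil .nil)) (.node 4 (.node 1 (12, 3) (.node 0 (5, 0) .nil .nil) (.node 2 (13, 3) .nil .nil)) .nil .nil) .nil))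
  wT := (.node 3 [0, 1, 2] (.node 1 [0] (.node 0 [] .nil .nil) (.node 2 [0, 1] .nil .nil)) (.node 5 [0, 1, 2, 1, 0] (.node 4 [0, 1, 2, 1] .nil .nil) .nil))

theorem tab2 : tableOK L2 mF = true := by decide +kernel
theorem orb2 : orbitOK L2 sg = true := by decide +kernel
theorem kn2 : lall (fun j => Nat.blt j 4) L2.K = true := by decide +kernel

def L3 : Lvl where
  K := [0, 1, 2, 3]
  J := [0, 1, 2]
  x := 0
  mc := 24
  dT := (.node 12 (.node 2 14 (.node 1 12 (.node 0 12 .nil .nil) .nil) (.node 3 10 .nil .nil)) (.node 6 (.node 2 4 (.node 1 8 (.node 0 5 .nil .nil) .nil) (.node 3 9 .nil .nil)) (.node 3 (.node 2 5 (.node 1 2 (.node 0 4 .nil .nil) .nil) (.node 3 3 .nil .nil)) (.node 1 (.node 2 2 (.node 1 1 (.node 0 1 .nil .nil) .nil) (.node 3 0 .nil .nil)) (.node 0 (.node 2 0 (.node 1 0 (.node 0 0 .nil .nil) .nil) (.node 3 1 .nil .nil)) .nil .nil) (.node 2 (.node 2 1 (.node 1 3 (.node 0 2 .nil .nil)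 .nil) (.node 3 2 .nil .nil)) .nil .nil)) (.node 5 (.node 2 3 (.node 1 5 (.node 0 6 .nil .nil) .nil) (.node 3 7 .nil .nil)) (.node 4 (.node 2 6 (.node 1 4 (.node 0 3 .nil .nil) .nil) (.node 3 4 .nil .nil)) .nil .nil) .nil)) (.node 9 (.node 2 9 (.node 1 11 (.node 0 7 .nil .nil) .nil) (.node 3 6 .nil .nil)) (.node 8 (.node 2 10 (.node 1 6 (.node 0 8 .nil .nil) .nil) (.node 3 11 .nil .nil)) (.node 7 (.node 2 7 (.node 1 7 (.node 0 9 .nil .nil) .nil) (.node 3 5 .nil .nil)) .nil .nil) .nil) (.node 11 (.node 2 13 (.node 1 9 (.node 0 11 .nil .nil) .nil) (.node 3 8 .nil .nil)) (.node 10 (.node 2 8 (.node 1 10 (.node 0 10 .nil .nil) .nil) (.node 3 12 .nil .nil)) .nil .nil) .nil))) (.node 18 (.node 2 20 (.node 1 18 (.node 0 16 .nil .nil) .nil) (.node 3 17 .nil .nil)) (.node 15 (.node 2 15 (.node 1 13 (.node 0 17 .nil .nil) .nil) (.node 3 16 .nil .nil)) (.node 14 (.node 2 12 (.node 1 16 (.node 0 14 .nil .nil)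 .nil) (.node 3 13 .nil .nil)) (.node 13 (.node 2 11 (.node 1 15 (.node 0 13 .nil .nil) .nil) (.node 3 14 .nil .nil)) .nil .nil) .nil) (.node 17 (.node 2 17 (.node 1 17 (.node 0 15 .nil .nil) .nil) (.node 3 18 .nil .nil)) (.node 16 (.node 2 19 (.node 1 14 (.node 0 18 .nil .nil) .nil) (.node 3 15 .nil .nil)) .nil .nil) .nil)) (.node 21 (.node 2 22 (.node 1 20 (.node 0 21 .nil .nil) .nil) (.node 3 21 .nil .nil)) (.node 20 (.node 2 18 (.node 1 21 (.node 0 19 .nil .nil) .nil) (.node 3 20 .nil .nil)) (.node 19 (.node 2 16 (.node 1 19 (.node 0 20 .nil .nil) .nil) (.node 3 19 .nil .nil)) .nil .nil) .nil) (.node 23 (.node 2 23 (.node 1 23 (.node 0 23 .nil .nil) .nil) (.node 3 22 .nil .nil)) (.node 22 (.node 2 21 (.node 1 22 (.node 0 22 .nil .nil) .nil) (.node 3 23 .nil .nil)) .nil .nil) .nil))))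
  cT := (.node 12 (.node 2 (14, 0) (.node 1 (74, 5) (.node 0 (73, 5) .nil .nil) .nil) (.node 3 (43, 5) .nil .nil)) (.node 6 (.node 2 (36, 4) (.node 1 (8, 0) (.node 0 (35, 4) .nil .nil) .nil) (.node 3 (9, 0) .nil .nil)) (.node 3 (.node 2 (5, 0) (.node 1 (30, 3) (.node 0 (4, 0) .nil .nil) .nil) (.node 3 (31, 3) .nil .nil)) (.node 1 (.node 2 (2, 0) (.node 1 (58, 5) (.node 0 (57, 5) .nil .nil) .nil) (.node 3 (27, 5) .nil .nil)) (.node 0 (.node 2 (26, 1) (.node 1 (25, 1) (.node 0 (24, 1) .nil .nil) .nil) (.node 3 (1, 0) .nil .nil)) .nil .nil) (.node 2 (.node 2 (28, 4) (.node 1 (3, 0) (.node 0 (59, 4) .nil .nil) .nil) (.node 3 (29, 4) .nil .nil)) .nil .nil)) (.node 5 (.node 2 (34, 4) (.node 1 (62, 4) (.node 0 (61, 2) .nil .nil) .nil) (.node 3 (7, 0) .nil .nil)) (.node 4 (.node 2 (6, 0) (.node 1 (60, 2) (.node 0 (32, 2) .nil .nil) .nil) (.node 3 (33, 2) .nil .nil)) .nil .nil) .nil)) (.node 9 (.node 2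 (69, 2) (.node 1 (68, 3) (.node 0 (67, 2) .nil .nil) .nil) (.node 3 (39, 5) .nil .nil)) (.node 8 (.node 2 (10, 0) (.node 1 (38, 3) (.node 0 (66, 3) .nil .nil) .nil) (.node 3 (11, 0) .nil .nil)) (.node 7 (.node 2 (65, 5) (.node 1 (64, 5) (.node 0 (63, 5) .nil .nil) .nil) (.node 3 (37, 5) .nil .nil)) .nil .nil) .nil) (.node 11 (.node 2 (13, 0) (.node 1 (41, 5) (.node 0 (72, 3) .nil .nil) .nil) (.node 3 (42, 5) .nil .nil)) (.node 10 (.node 2 (40, 4) (.node 1 (71, 4) (.node 0 (70, 4) .nil .nil) .nil) (.node 3 (12, 0) .nil .nil)) .nil .nil) .nil))) (.node 18 (.node 2 (20, 0) (.node 1 (84, 2) (.node 0 (50, 2) .nil .nil) .nil) (.node 3 (85, 2) .nil .nil)) (.node 15 (.node 2 (78, 3) (.node 1 (47, 3) (.node 0 (17, 0) .nil .nil) .nil) (.node 3 (79, 3) .nil .nil)) (.node 14 (.node 2 (45, 4) (.node 1 (16, 0) (.node 0 (77, 4) .nil .nil) .nil) (.node 3 (46, 4) .nil .nil)) (.node 13 (.node 2 (44, 4) (.node 1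 (15, 0) (.node 0 (75, 4) .nil .nil) .nil) (.node 3 (76, 4) .nil .nil)) .nil .nil) .nil) (.node 17 (.node 2 (82, 2) (.node 1 (81, 2) (.node 0 (49, 2) .nil .nil) .nil) (.node 3 (83, 2) .nil .nil)) (.node 16 (.node 2 (19, 0) (.node 1 (48, 3) (.node 0 (18, 0) .nil .nil) .nil) (.node 3 (80, 3) .nil .nil)) .nil .nil) .nil)) (.node 21 (.node 2 (22, 0) (.node 1 (54, 3) (.node 0 (90, 3) .nil .nil) .nil) (.node 3 (91, 3) .nil .nil)) (.node 20 (.node 2 (53, 4) (.node 1 (21, 0) (.node 0 (52, 4) .nil .nil) .nil) (.node 3 (89, 2) .nil .nil)) (.node 19 (.node 2 (51, 4) (.node 1 (87, 4) (.node 0 (86, 2) .nil .nil) .nil) (.node 3 (88, 4) .nil .nil)) .nil .nil) .nil) (.node 23 (.node 2 (96, 5) (.node 1 (95, 5) (.node 0 (94, 5) .nil .nil) .nil) (.node 3 (56, 5) .nil .nil)) (.node 22 (.node 2 (55, 4) (.node 1 (93, 4) (.node 0 (92, 4) .nil .nil) .nil) (.node 3 (23, 0) .nil .nil)) .nil .nil) .nil))))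
  wT := (.node 12 [3, 2, 1, 0, 2, 1, 2, 3] (.node 6 [3, 2, 1, 0, 2] (.node 3 [3, 2, 1] (.node 1 [3] (.node 0 [] .nil .nil) (.node 2 [3, 2] .nil .nil)) (.node 5 [3, 2, 1, 2] (.node 4 [3, 2, 1, 0] .nil .nil) .nil)) (.node 9 [3, 2, 1, 0, 2, 3] (.node 8 [3, 2, 1, 0, 2, 1] (.node 7 [3, 2, 1, 2, 3] .nil .nil) .nil) (.node 11 [3, 2, 1, 0, 2, 1, 3] (.node 10 [3, 2, 1, 0, 2, 1, 2] .nil .nil) .nil))) (.node 18 [3, 2, 1, 0, 2, 1, 2, 3, 2, 1, 0] (.node 15 [3, 2, 1, 0, 2, 1, 3, 2, 1] (.node 14 [3, 2, 1, 0, 2, 1, 2, 3, 2] (.node 13 [3, 2, 1, 0, 2, 1, 3, 2] .nil .nil) .nil) (.node 17 [3, 2, 1, 0, 2, 1, 3, 2, 1, 0] (.node 16 [3, 2, 1, 0, 2, 1, 2, 3, 2, 1] .nil .nil) .nil)) (.node 21 [3, 2, 1, 0, 2, 1, 2, 3, 2, 1, 0, 2, 1] (.node 20 [3, 2, 1, 0, 2, 1, 2, 3, 2, 1, 0, 2] (.node 19 [3, 2, 1, 0, 2, 1, 2, 3, 2, 1, 2] .nil .nil) .nil) (.node 23 [3, 2, 1, 0, 2, 1, 2, 3, 2, 1, 0, 2, 1, 2, 3] (.node 22 [3, 2, 1, 0, 2, 1,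 2, 3, 2, 1, 0, 2, 1, 2] .nil .nil) .nil))))

theorem tab3 : tableOK L3 mF = true := by decide +kernel
theorem orb3 : orbitOK L3 sg = true := by decide +kernel
theorem kn3 : lall (fun j => Nat.blt j 4) L3.K = true := by decide +kernel

/-- The representation on the orbit. -/
abbrev rho : Mx.Group →* Equiv.Perm (Fin 24) := rhoOf Mx hP hM

def P0 : ℕ := 1

theorem good0 : Good (sC Mx) rho [1] (1 * L0.mc) := by
  have h := goodC_step Mx hP hM (L := L0) (P := 1) (good_nil (s := sC Mx) (ρ := rho)) hpos kn0 tab0 orb0 (by decide +kernel)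
  rwa [Nat.mul_comm] at h

def P1 : ℕ := P0 * L0.mc

theorem good1 : Good (sC Mx) rho [1, 2] (P1 * L1.mc) := by
  have h := goodC_step Mx hP hM (L := L1) (P := P1) good0 hpos kn1 tab1 orb1 (by decide +kernel)
  rwa [Nat.mul_comm] at h

def P2 : ℕ := P1 * L1.mc

theorem good2 : Good (sC Mx) rho [0, 1, 2] (P2 * L2.mc) := by
  have h := goodC_step Mx hP hM (L := L2) (P := P2) good1 hpos kn2 tab2 orb2 (by decide +kernel)
  rwa [Nat.mul_comm] at h

def P3 : ℕ := P2 * L2.mc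

theorem good3 : Good (sC Mx) rho [0, 1, 2, 3] (P3 * L3.mc) := by
  have h := goodC_step Mx hP hM (L := L3) (P := P3) good2 hpos kn3 tab3 orb3 (by decide +kernel)
  rwa [Nat.mul_comm] at h

theorem main : Finite Mx.Group ∧ Nat.card Mx.Group = 1152 ∧ Function.Injective rho := by
  have h := (show Good (sC Mx) rho (List.range 4) (P3 * L3.mc) from good3).final (cl_range Mx)
  have hc : P3 * L3.mc = 1152 := by decide +kernel
  rwa [hc] at h

end

end Cfsg.Agent.Lib.Chevalley.Weyl.F4
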