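import Cfsg.Agent.Lib.Chevalley.Weyl.Center
import Cfsg.Agent.Lib.Chevalley.Weyl.G2
import Cfsg.Agent.Lib.Chevalley.Weyl.B2
import Cfsg.Agent.Lib.Chevalley.Weyl.D4
import Cfsg.Agent.Lib.Chevalley.Weyl.F4
import Cfsg.Agent.Lib.Chevalley.Weyl.E6
import Cfsg.Agent.Lib.Chevalley.Weyl.E7
import Cfsg.Agent.Lib.Chevalley.Weyl.E8

/-! Generated: the centres of the Coxeter groups. -/

set_option autoImplicit false
set_option maxRecDepth 1000000

namespace Cfsg.Agent.Lib.Chevalley.Weyl

open Cfsg.Agent.Lib.Chevalley.Reflect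

noncomputable section

namespace G2

def labT : Tr ℕ := (.node 3 3 (.node 1 1 (.node 0 0 .nil .nil) (.node 2 2 .nil .nil)) (.node 5 5 (.node 4 4 .nil .nil) .nil))
def lab (y : ℕ) : ℕ := Tr.find 0 labT y

theorem center : Nat.card (Subgroup.center Mx.Group) = 2 ∧
      Subgroup.center Mx.Group ≤ Subgroup.zpowers ((List.finRange 2).map Mx.simple).prod :=
  center_main_two (L := L1) (lab := lab) (x' := 5) (k := 3) main.2.2 (by decide +kernel) (by decide +kernel) (by decide +kernel)
    (by decide +kernel) (by decide +kernel) (by decide +kernel) (by decide +kernel) (by decide +kernel)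

end G2

namespace B2

def labT : Tr ℕ := (.node 2 2 (.node 1 1 (.node 0 0 .nil .nil) .nil) (.node 3 3 .nil .nil))
def lab (y : ℕ) : ℕ := Tr.find 0 labT y

theorem center : Nat.card (Subgroup.center Mx.Group) = 2 ∧
      Subgroup.center Mx.Group ≤ Subgroup.zpowers ((List.finRange 2).map Mx.simple).prod :=
  center_main_two (L := L1) (lab := lab) (x' := 3) (k := 2) main.2.2 (by decide +kernel) (by decide +kernel) (by decide +kernel)
    (by decide +kernel) (by decide +kernel) (by decide +kernel) (by decide +kernel) (by decide +kernel)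

end B2

namespace D4

def labT : Tr ℕ := (.node 12 12 (.node 6 2 (.node 3 3 (.node 1 1 (.node 0 0 .nil .nil) (.node 2 4 .nil .nil)) (.node 5 11 (.node 4 7 .nil .nil) .nil)) (.node 9 9 (.node 8 5 (.node 7 6 .nil .nil) .nil) (.node 11 8 (.node 10 10 .nil .nil) .nil))) (.node 18 15 (.node 15 16 (.node 14 13 (.node 13 14 .nil .nil) .nil) (.node 17 20 (.node 16 18 .nil .nil) .nil)) (.node 21 21 (.node 20 19 (.node 19 17 .nil .nil) .nil) (.node 23 23 (.node 22 22 .nil .nil) .nil))))
def lab (y : ℕ) : ℕ := Tr.find 0 labT y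

theorem center : Nat.card (Subgroup.center Mx.Group) = 2 ∧
      Subgroup.center Mx.Group ≤ Subgroup.zpowers ((List.finRange 4).map Mx.simple).prod :=
  center_main_two (L := L3) (lab := lab) (x' := 23) (k := 3) main.2.2 (by decide +kernel) (by decide +kernel) (by decide +kernel)
    (by decide +kernel) (by decide +kernel) (by decide +kernel) (by decide +kernel) (by decide +kernel)

end D4

namespace F4

def labT : Tr ℕ := (.node 12 12 (.node 6 4 (.node 3 3 (.node 1 1 (.node 0 0 .nil .nil) (.node 2 2 .nil .nil)) (.node 5 7 (.node 4 5 .nil .nil) .nil)) (.node 9 8 (.node 8 9 (.node 7 6 .nil .nil) .nil) (.node 11 10 (.node 10 11 .nil .nil) .nil))) (.node 18 17 (.node 15 15 (.node 14 14 (.node 13 13 .nil .nil) .nil) (.node 17 19 (.node 16 16 .nil .nil) .nil)) (.node 21 21 (.node 20 20 (.node 19 18 .nil .nil) .nil) (.node 23 23 (.node 22 22 .nil .nil) .nil))))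
def lab (y : ℕ) : ℕ := Tr.find 0 labT y

theorem center : Nat.card (Subgroup.center Mx.Group) = 2 ∧
      Subgroup.center Mx.Group ≤ Subgroup.zpowers ((List.finRange 4).map Mx.simple).prod :=
  center_main_two (L := L3) (lab := lab) (x' := 23) (k := 6) main.2.2 (by decide +kernel) (by decide +kernel) (by decide +kernel)
    (by decide +kernel) (by decide +kernel) (by decide +kernel) (by decide +kernel) (by decide +kernel)

end F4

namespace E6

def labT : Tr ℕ := (.node 36 36 (.node 18 12 (.node 9 14 (.node 4 7 (.node 2 2 (.node 1 1 (.node 0 0 .nil .nil) .nil) (.node 3 4 .nil .nil)) (.node 7 10 (.node 6 6 (.node 5 3 .nil .nil) .nil) (.node 8 9 .nil .nil))) (.node 14 29 (.node 12 18 (.node 11 13 (.node 10 19 .nil .nil) .nil) (.node 13 24 .nil .nil)) (.node 16 5 (.node 15 35 .nil .nil) (.node 17 8 .nil .nil)))) (.node 27 21 (.node 23 22 (.node 21 23 (.node 20 17 (.node 19 11 .nil .nil) .nil) (.node 22 16 .nil .nil)) (.node 25 34 (.node 24 28 .nil .nil) (.node 26 15 .nil .nil))) (.node 32 32 (.node 30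 20 (.node 29 33 (.node 28 27 .nil .nil) .nil) (.node 31 26 .nil .nil)) (.node 34 31 (.node 33 25 .nil .nil) (.node 35 30 .nil .nil))))) (.node 54 62 (.node 45 53 (.node 41 47 (.node 39 38 (.node 38 42 (.node 37 37 .nil .nil) .nil) (.node 40 43 .nil .nil)) (.node 43 45 (.node 42 39 .nil .nil) (.node 44 49 .nil .nil))) (.node 50 50 (.node 48 48 (.node 47 44 (.node 46 40 .nil .nil) .nil) (.node 49 52 .nil .nil)) (.node 52 57 (.node 51 54 .nil .nil) (.node 53 60 .nil .nil)))) (.node 63 61 (.node 59 55 (.node 57 46 (.node 56 41 (.node 55 65 .nil .nil) .nil) (.node 58 51 .nil .nil)) (.node 61 56 (.node 60 58 .nil .nil) (.node 62 59 .nil .nil))) (.node 68 67 (.node 66 68 (.node 65 64 (.node 64 63 .nil .nil) .nil) (.node 67 66 .nil .nil)) (.node 70 70 (.node 69 69 .nil .nil) (.node 71 71 .nil .nil))))))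
def lab (y : ℕ) : ℕ := Tr.find 0 labT y

theorem center : Nat.card (Subgroup.center Mx.Group) = 1 ∧
      Subgroup.center Mx.Group ≤ Subgroup.zpowers ((List.finRange 6).map Mx.simple).prod :=
  center_main_one (L := L4) (lab := lab) (x' := 71) main.2.2 hpos (by decide +kernel) (by decide +kernel) (by decide +kernel)
    (by decide +kernel) (by decide +kernel) [L4, L3, L2, L1, L0] (by decide +kernel) (by decide +kernel)

end E6

namespace E7

def labT : Tr ℕ := (.node 63 63 (.node 31 55 (.node 15 21 (.node 7 4 (.node 3 3 (.node 1 1 (.node 0 0 .nil .nil) (.node 2 2 .nil .nil)) (.node 5 7 (.node 4 5 .nil .nil) (.node 6 10 .nil .nil))) (.node 11 8 (.node 9 9 (.node 8 6 .nil .nil) (.node 10 13 .nil .nil)) (.node 13 17 (.node 12 12 .nil .nil) (.node 14 16 .nil .nil)))) (.node 23 24 (.node 19 20 (.node 17 11 (.node 16 26 .nil .nil) (.node 18 15 .nil .nil)) (.node 21 25 (.node 20 19 .nil .nil) (.node 22 31 .nil .nil))) (.node 27 29 (.node 25 37 (.node 24 30 .nil .nil) (.node 26 43 .nil .nil)) (.node 29 42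 (.node 28 36 .nil .nil) (.node 30 49 .nil .nil))))) (.node 47 61 (.node 39 27 (.node 35 23 (.node 33 14 (.node 32 62 .nil .nil) (.node 34 18 .nil .nil)) (.node 37 28 (.node 36 22 .nil .nil) (.node 38 35 .nil .nil))) (.node 43 33 (.node 41 41 (.node 40 34 .nil .nil) (.node 42 48 .nil .nil)) (.node 45 47 (.node 44 40 .nil .nil) (.node 46 54 .nil .nil)))) (.node 55 52 (.node 51 53 (.node 49 39 (.node 48 32 .nil .nil) (.node 50 46 .nil .nil)) (.node 53 38 (.node 52 60 .nil .nil) (.node 54 45 .nil .nil))) (.node 59 58 (.node 57 44 (.node 56 59 .nil .nil) (.node 58 51 .nil .nil)) (.node 61 57 (.node 60 50 .nil .nil) (.node 62 56 .nil .nil)))))) (.node 95 81 (.node 79 73 (.node 71 77 (.node 67 71 (.node 65 70 (.node 64 64 .nil .nil) (.node 66 65 .nil .nil)) (.node 69 66 (.node 68 76 .nil .nil) (.node 70 72 .nil .nil))) (.node 75 79 (.node 73 67 (.node 72 82 .nil .nil) (.node 74 74 .nil .nil)) (.node 77 89 (.node 76 84 .nil .nil) (.node 78 68 .nil .nil)))) (.node 87 93 (.node 83 80 (.node 81 83 (.node 80 78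 .nil .nil) (.node 82 88 .nil .nil)) (.node 85 90 (.node 84 85 .nil .nil) (.node 86 94 .nil .nil))) (.node 91 105 (.node 89 100 (.node 88 97 .nil .nil) (.node 90 102 .nil .nil)) (.node 93 69 (.node 92 110 .nil .nil) (.node 94 75 .nil .nil))))) (.node 111 108 (.node 103 98 (.node 99 87 (.node 97 91 (.node 96 86 .nil .nil) (.node 98 95 .nil .nil)) (.node 101 96 (.node 100 92 .nil .nil) (.node 102 99 .nil .nil))) (.node 107 109 (.node 105 104 (.node 104 101 .nil .nil) (.node 106 107 .nil .nil)) (.node 109 103 (.node 108 113 .nil .nil) (.node 110 106 .nil .nil)))) (.node 119 117 (.node 115 114 (.node 113 112 (.node 112 111 .nil .nil) (.node 114 116 .nil .nil)) (.node 117 119 (.node 116 115 .nil .nil) (.node 118 121 .nil .nil))) (.node 123 123 (.node 121 120 (.node 120 118 .nil .nil) (.node 122 122 .nil .nil)) (.node 125 125 (.node 124 124 .nil .nil) .nil))))))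
def lab (y : ℕ) : ℕ := Tr.find 0 labT y

theorem center : Nat.card (Subgroup.center Mx.Group) = 2 ∧
      Subgroup.center Mx.Group ≤ Subgroup.zpowers ((List.finRange 7).map Mx.simple).prod :=
  center_main_two (L := L6) (lab := lab) (x' := 125) (k := 9) main.2.2 (by decide +kernel) (by decide +kernel) (by decide +kernel)
    (by decide +kernel) (by decide +kernel) (by decide +kernel) (by decide +kernel) (by decide +kernel)

end E7

namespace E8

def labT : Tr ℕ := (.node 120 120 (.node 60 61 (.node 30 29 (.node 15 10 (.node 7 6 (.node 3 3 (.node 1 1 (.node 0 0 .nil .nil) (.node 2 2 .nil .nil)) (.node 5 5 (.node 4 4 .nil .nil) (.node 6 7 .nil .nil))) (.node 11 16 (.node 9 11 (.node 8 8 .nil .nil) (.node 10 13 .nil .nil)) (.node 13 23 (.node 12 19 .nil .nil) (.node 14 9 .nil .nil)))) (.node 23 21 (.node 19 22 (.node 17 15 (.node 16 12 .nil .nil) (.node 18 18 .nil .nil)) (.node 21 14 (.node 20 27 .nil .nil) (.node 22 17 .nil .nil))) (.node 27 25 (.node 25 31 (.node 24 26 .nil .nil) (.node 26 20 .nil .nil))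 (.node 29 35 (.node 28 30 .nil .nil) .nil)))) (.node 45 57 (.node 38 33 (.node 34 45 (.node 32 40 (.node 31 34 .nil .nil) (.node 33 39 .nil .nil)) (.node 36 24 (.node 35 51 .nil .nil) (.node 37 28 .nil .nil))) (.node 42 44 (.node 40 32 (.node 39 38 .nil .nil) (.node 41 37 .nil .nil)) (.node 44 50 (.node 43 43 .nil .nil) .nil))) (.node 53 62 (.node 49 48 (.node 47 42 (.node 46 36 .nil .nil) (.node 48 49 .nil .nil)) (.node 51 63 (.node 50 56 .nil .nil) (.node 52 55 .nil .nil))) (.node 57 47 (.node 55 76 (.node 54 69 .nil .nil) (.node 56 41 .nil .nil)) (.node 59 53 (.node 58 54 .nil .nil) .nil))))) (.node 90 87 (.node 75 104 (.node 68 82 (.node 64 75 (.node 62 60 (.node 61 68 .nil .nil) (.node 63 67 .nil .nil)) (.node 66 66 (.node 65 83 .nil .nil) (.node 67 74 .nil .nil))) (.node 72 81 (.node 70 97 (.node 69 90 .nil .nil) (.node 71 73 .nil .nil)) (.node 74 96 (.node 73 89 .nil .nil) .nil))) (.node 83 72 (.node 79 52 (.node 77 119 (.node 76 111 .nil .nil) (.node 78 46 .nil .nil)) (.node 81 58 (.node 80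 59 .nil .nil) (.node 82 65 .nil .nil))) (.node 87 88 (.node 85 71 (.node 84 64 .nil .nil) (.node 86 80 .nil .nil)) (.node 89 79 (.node 88 70 .nil .nil) .nil)))) (.node 105 84 (.node 98 118 (.node 94 86 (.node 92 103 (.node 91 95 .nil .nil) (.node 93 78 .nil .nil)) (.node 96 102 (.node 95 94 .nil .nil) (.node 97 110 .nil .nil))) (.node 102 101 (.node 100 85 (.node 99 77 .nil .nil) (.node 101 93 .nil .nil)) (.node 104 117 (.node 103 109 .nil .nil) .nil))) (.node 113 115 (.node 109 116 (.node 107 100 (.node 106 92 .nil .nil) (.node 108 108 .nil .nil)) (.node 111 99 (.node 110 91 .nil .nil) (.node 112 107 .nil .nil))) (.node 117 105 (.node 115 106 (.node 114 98 .nil .nil) (.node 116 114 .nil .nil)) (.node 119 112 (.node 118 113 .nil .nil) .nil)))))) (.node 180 183 (.node 150 158 (.node 135 125 (.node 128 136 (.node 124 129 (.node 122 128 (.node 121 121 .nil .nil) (.node 123 122 .nil .nil)) (.node 126 123 (.node 125 135 .nil .nil) (.node 127 130 .nil .nil))) (.node 132 137 (.node 130 124 (.node 129 142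 .nil .nil) (.node 131 131 .nil .nil)) (.node 134 149 (.node 133 143 .nil .nil) .nil))) (.node 143 138 (.node 139 151 (.node 137 139 (.node 136 133 .nil .nil) (.node 138 145 .nil .nil)) (.node 141 126 (.node 140 157 .nil .nil) (.node 142 132 .nil .nil))) (.node 147 140 (.node 145 150 (.node 144 144 .nil .nil) (.node 146 156 .nil .nil)) (.node 149 152 (.node 148 146 .nil .nil) .nil)))) (.node 165 147 (.node 158 177 (.node 154 166 (.node 152 155 (.node 151 163 .nil .nil) (.node 153 161 .nil .nil)) (.node 156 168 (.node 155 171 .nil .nil) (.node 157 173 .nil .nil))) (.node 162 127 (.node 160 184 (.node 159 180 .nil .nil) (.node 161 190 .nil .nil)) (.node 164 141 (.node 163 134 .nil .nil) .nil))) (.node 173 170 (.node 169 148 (.node 167 159 (.node 166 153 .nil .nil) (.node 168 164 .nil .nil)) (.node 171 160 (.node 170 154 .nil .nil) (.node 172 165 .nil .nil))) (.node 177 176 (.node 175 167 (.node 174 162 .nil .nil) (.node 176 172 .nil .nil)) (.node 179 179 (.node 178 175 .nil .nil) .nil))))) (.node 210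 207 (.node 195 191 (.node 188 181 (.node 184 169 (.node 182 189 (.node 181 186 .nil .nil) (.node 183 196 .nil .nil)) (.node 186 178 (.node 185 174 .nil .nil) (.node 187 182 .nil .nil))) (.node 192 195 (.node 190 188 (.node 189 185 .nil .nil) (.node 191 192 .nil .nil)) (.node 194 187 (.node 193 201 .nil .nil) .nil))) (.node 203 214 (.node 199 206 (.node 197 198 (.node 196 194 .nil .nil) (.node 198 200 .nil .nil)) (.node 201 205 (.node 200 203 .nil .nil) (.node 202 210 .nil .nil))) (.node 207 202 (.node 205 197 (.node 204 193 .nil .nil) (.node 206 199 .nil .nil)) (.node 209 209 (.node 208 204 .nil .nil) .nil)))) (.node 225 231 (.node 218 225 (.node 214 211 (.node 212 213 (.node 211 208 .nil .nil) (.node 213 218 .nil .nil)) (.node 216 217 (.node 215 212 .nil .nil) (.node 217 222 .nil .nil))) (.node 222 224 (.node 220 216 (.node 219 215 .nil .nil) (.node 221 221 .nil .nil)) (.node 224 229 (.node 223 227 .nil .nil) .nil))) (.node 233 232 (.node 229 226 (.node 227 220 (.node 226 219 .nil .nil) (.node 228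 223 .nil .nil)) (.node 231 230 (.node 230 228 .nil .nil) (.node 232 233 .nil .nil))) (.node 237 237 (.node 235 235 (.node 234 234 .nil .nil) (.node 236 236 .nil .nil)) (.node 239 239 (.node 238 238 .nil .nil) .nil)))))))
def lab (y : ℕ) : ℕ := Tr.find 0 labT y

theorem center : Nat.card (Subgroup.center Mx.Group) = 2 ∧
      Subgroup.center Mx.Group ≤ Subgroup.zpowers ((List.finRange 8).map Mx.simple).prod :=
  center_main_two (L := L7) (lab := lab) (x' := 239) (k := 15) main.2.2 (by decide +kernel) (by decide +kernel) (by decide +kernel)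
    (by decide +kernel) (by decide +kernel) (by decide +kernel) (by decide +kernel) (by decide +kernel)

end E8

end

end Cfsg.Agent.Lib.Chevalley.Weyl
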